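import Groth.Agent.H17.FibreSurj
import Mathlib.AlgebraicGeometry.Morphisms.UniversallyInjective

set_option autoImplicit false

namespace Groth.Agent.H17

open Topology Set AlgebraicGeometry CategoryTheory TopologicalSpace Limits

universe u

variable {X Y S : Scheme.{u}}

/-- a field-valued point with image `s` factors through `Spec κ(s)` -/
theorem exists_factor_fromSpecResidueField {K : Type u} [Field K]
    (h : Spec (CommRingCat.of K) ⟶ S) (s : S) (hs : ∀ t, h.base t = s) :
    ∃ b : Spec (CommRingCat.of K) ⟶ Spec (S.residueField s),
      b ≫ S.fromSpecResidueField s = h := by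
  obtain rfl := hs (IsLocalRing.closedPoint K)
  exact ⟨_, Scheme.descResidueField_stalkClosedPointTo_fromSpecResidueField K S h⟩

theorem range_fst_fromSpecResidueField (h : X ⟶ S) (s : S) :
    Set.range (pullback.fst h (S.fromSpecResidueField s)).base = h.base ⁻¹' {s} := by
  have := Scheme.Pullback.range_fst h (S.fromSpecResidueField s)
  rw [Scheme.range_fromSpecResidueField] at this
  exact this

/-- `f_s` is universally injective iff every point of `X ×_Y X` over `s` lies on the diagonal -/
theorem fibreMap_universallyInjective_iff (f : X ⟶ Y) (g : Y ⟶ S) (s : S) :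
    UniversallyInjective (fibreMap f g s) ↔
      ∀ z : ↥(pullback f f), ((pullback.fst f f ≫ f) ≫ g).base z = s →
        z ∈ Set.range (pullback.diagonal f).base := by
  have hcomm : fibreMap f g s ≫ pullback.fst g (S.fromSpecResidueField s) =
      pullback.fst (f ≫ g) (S.fromSpecResidueField s) ≫ f := pullback.lift_fst _ _ _
  have hcomm2 : fibreMap f g s ≫ pullback.snd g (S.fromSpecResidueField s) =
      pullback.snd (f ≫ g) (S.fromSpecResidueField s) := pullback.lift_snd _ _ _
  constructor
  · intro huniv z hz
    let K : Type u := (pullback f f).residueField z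
    let φ : Spec (CommRingCat.of K) ⟶ pullback f f := (pullback f f).fromSpecResidueField z
    have hφ : ∀ t, φ.base t = z := fun t => Scheme.fromSpecResidueField_apply z t
    have ha : (φ ≫ pullback.fst f f) ≫ f = (φ ≫ pullback.snd f f) ≫ f := by
      simp only [Category.assoc, pullback.condition]
    have hpt : ∀ t, ((φ ≫ pullback.fst f f) ≫ f ≫ g).base t = s := by
      intro t
      have e : (φ ≫ pullback.fst f f) ≫ f ≫ g = φ ≫ ((pullback.fst f f ≫ f) ≫ g) := by
        simp only [Category.assoc]
      have e' : ((φ ≫ pullback.fst f f) ≫ f ≫ g).base t =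
          ((pullback.fst f f ≫ f) ≫ g).base (φ.base t) :=
        congrArg (fun k : Spec (CommRingCat.of K) ⟶ S => k.base t) e
      rw [e', hφ]; exact hz
    obtain ⟨b, hb⟩ := exists_factor_fromSpecResidueField ((φ ≫ pullback.fst f f) ≫ f ≫ g) s hpt
    have hb2 : (φ ≫ pullback.snd f f) ≫ f ≫ g = b ≫ S.fromSpecResidueField s := by
      rw [hb, ← Category.assoc, ← ha, Category.assoc]
    let c₁ : Spec (CommRingCat.of K) ⟶ pullback (f ≫ g) (S.fromSpecResidueField s) :=
      pullback.lift (φ ≫ pullback.fst f f) b hb.symm
    let c₂ : Spec (CommRingCat.of K) ⟶ pullback (f ≫ g) (S.fromSpecResidueField s) :=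
      pullback.lift (φ ≫ pullback.snd f f) b hb2
    have e1 : c₁ ≫ pullback.fst (f ≫ g) (S.fromSpecResidueField s) = φ ≫ pullback.fst f f :=
      pullback.lift_fst _ _ _
    have e2 : c₂ ≫ pullback.fst (f ≫ g) (S.fromSpecResidueField s) = φ ≫ pullback.snd f f :=
      pullback.lift_fst _ _ _
    have e1' : c₁ ≫ pullback.snd (f ≫ g) (S.fromSpecResidueField s) = b := pullback.lift_snd _ _ _
    have e2' : c₂ ≫ pullback.snd (f ≫ g) (S.fromSpecResidueField s) = b := pullback.lift_snd _ _ _
    have hc : c₁ ≫ fibreMap f g s = c₂ ≫ fibreMap f g s := by
      apply pullback.hom_ext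
      · rw [Category.assoc, Category.assoc, hcomm, ← Category.assoc, ← Category.assoc, e1, e2]
        exact ha
      · rw [Category.assoc, Category.assoc, hcomm2, e1', e2']
    have h01 : UniversallyInjective (fibreMap f g s) → ∀ (K : Type u) [Field K],
        Function.Injective (fun k : Spec (CommRingCat.of K) ⟶
          pullback (f ≫ g) (S.fromSpecResidueField s) ↦ k ≫ fibreMap f g s) :=
      ((tfae_universallyInjective (fibreMap f g s)).out 0 1).mp
    have hinj := h01 huniv K
    have hc12 : c₁ = c₂ := hinj hc
    have ha12 : φ ≫ pullback.fst f f = φ ≫ pullback.snd f f := by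
      rw [← e1, ← e2, hc12]
    have hφΔ : φ = (φ ≫ pullback.fst f f) ≫ pullback.diagonal f := by
      apply pullback.hom_ext
      · simp only [Category.assoc, pullback.diagonal_fst, Category.comp_id]
      · simp only [Category.assoc, pullback.diagonal_snd, Category.comp_id]
        exact ha12.symm
    obtain ⟨t⟩ : Nonempty ↥(Spec (CommRingCat.of K)) := inferInstance
    refine ⟨(φ ≫ pullback.fst f f).base t, ?_⟩
    have e' : (pullback.diagonal f).base ((φ ≫ pullback.fst f f).base t) = φ.base t :=
      (congrArg (fun k : Spec (CommRingCat.of K) ⟶ pullback f f => k.base t) hφΔ).symm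
    rw [e', hφ]
  · intro h
    rw [UniversallyInjective.iff_diagonal]
    let m : pullback (fibreMap f g s) (fibreMap f g s) ⟶ pullback f f :=
      pullback.map _ _ _ _ (pullback.fst (f ≫ g) (S.fromSpecResidueField s))
        (pullback.fst (f ≫ g) (S.fromSpecResidueField s))
        (pullback.fst g (S.fromSpecResidueField s)) hcomm hcomm
    have hm1 : m ≫ pullback.fst f f = pullback.fst (fibreMap f g s) (fibreMap f g s) ≫
        pullback.fst (f ≫ g) (S.fromSpecResidueField s) := pullback.lift_fst _ _ _
    have hm2 : m ≫ pullback.snd f f = pullback.snd (fibreMap f g s) (fibreMap f g s) ≫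
        pullback.fst (f ≫ g) (S.fromSpecResidueField s) := pullback.lift_snd _ _ _
    have hm_mono : Mono m := by
      constructor
      intro T u v huv
      apply pullback.hom_ext
      · have := congrArg (fun k => k ≫ pullback.fst f f) huv
        simp only [Category.assoc, hm1] at this
        rw [← Category.assoc, ← Category.assoc] at this
        exact (cancel_mono _).mp this
      · have := congrArg (fun k => k ≫ pullback.snd f f) huv
        simp only [Category.assoc, hm2] at this
        rw [← Category.assoc, ← Category.assoc] at this
        exact (cancel_mono _).mp this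
    have hm_inj : Function.Injective m.base := m.injective
    have hnat : pullback.diagonal (fibreMap f g s) ≫ m =
        pullback.fst (f ≫ g) (S.fromSpecResidueField s) ≫ pullback.diagonal f := by
      apply pullback.hom_ext
      · rw [Category.assoc, hm1, pullback.diagonal_fst_assoc, Category.assoc,
          pullback.diagonal_fst, Category.comp_id]
      · rw [Category.assoc, hm2, pullback.diagonal_snd_assoc, Category.assoc,
          pullback.diagonal_snd, Category.comp_id]
    refine ⟨fun w => ?_⟩
    have hrX := range_fst_fromSpecResidueField (f ≫ g) s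
    have hz : ((pullback.fst f f ≫ f) ≫ g).base (m.base w) = s := by
      have e : m ≫ (pullback.fst f f ≫ f) ≫ g =
          pullback.fst (fibreMap f g s) (fibreMap f g s) ≫
            pullback.fst (f ≫ g) (S.fromSpecResidueField s) ≫ (f ≫ g) := by
        simp only [Category.assoc]
        rw [← Category.assoc m, hm1]
        simp only [Category.assoc]
      have e' : ((pullback.fst f f ≫ f) ≫ g).base (m.base w) =
          (f ≫ g).base ((pullback.fst (f ≫ g) (S.fromSpecResidueField s)).base
            ((pullback.fst (fibreMap f g s) (fibreMap f g s)).base w)) :=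
        congrArg (fun k : pullback (fibreMap f g s) (fibreMap f g s) ⟶ S => k.base w) e
      rw [e']
      have : (pullback.fst (f ≫ g) (S.fromSpecResidueField s)).base
          ((pullback.fst (fibreMap f g s) (fibreMap f g s)).base w) ∈
          (f ≫ g).base ⁻¹' {s} := by rw [← hrX]; exact mem_range_self _
      exact this
    obtain ⟨x, hx⟩ := h (m.base w) hz
    have hxs : x ∈ (f ≫ g).base ⁻¹' {s} := by
      change (f ≫ g).base x = s
      have e : pullback.diagonal f ≫ (pullback.fst f f ≫ f) ≫ g = f ≫ g := by
        simp only [Category.assoc, pullback.diagonal_fst_assoc]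
      have e' : ((pullback.fst f f ≫ f) ≫ g).base ((pullback.diagonal f).base x) =
          (f ≫ g).base x :=
        congrArg (fun k : X ⟶ S => k.base x) e
      rw [← e', hx]; exact hz
    rw [← hrX] at hxs
    obtain ⟨x', rfl⟩ := hxs
    refine ⟨x', hm_inj ?_⟩
    have e' : m.base ((pullback.diagonal (fibreMap f g s)).base x') =
        (pullback.diagonal f).base ((pullback.fst (f ≫ g) (S.fromSpecResidueField s)).base x') :=
      congrArg (fun k : pullback (f ≫ g) (S.fromSpecResidueField s) ⟶ pullback f f => k.base x') hnat
    rw [e', hx]

theorem isLocallyConstructible_setOf_fibreMap_universallyInjective (f : X ⟶ Y) (g : Y ⟶ S)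
    [LocallyOfFinitePresentation g] [QuasiCompact g] [QuasiSeparated g]
    [LocallyOfFinitePresentation (f ≫ g)] [QuasiCompact (f ≫ g)] [QuasiSeparated (f ≫ g)] :
    IsLocallyConstructible {s : S | UniversallyInjective (fibreMap f g s)} := by
  have hfp : LocallyOfFinitePresentation f := locallyOfFinitePresentation_of_comp f g
  have hqc : QuasiCompact f := QuasiCompact.of_comp f g
  have hqs : QuasiSeparated f := QuasiSeparated.of_comp f g
  -- the diagonal
  have hΔqc : QuasiCompact (pullback.diagonal f) := QuasiSeparated.quasiCompact_diagonal
  have hΔfp : LocallyOfFinitePresentation (pullback.diagonal f) := by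
    have hid : pullback.diagonal f ≫ pullback.fst f f = 𝟙 X := pullback.diagonal_fst f
    have : LocallyOfFinitePresentation (pullback.diagonal f ≫ pullback.fst f f) := by
      rw [hid]; infer_instance
    exact locallyOfFinitePresentation_of_comp (pullback.diagonal f) (pullback.fst f f)
  -- the structure map of X ×_Y X over S
  have hqfp : LocallyOfFinitePresentation ((pullback.fst f f ≫ f) ≫ g) := by
    rw [Category.assoc]; infer_instance
  have hqqc : QuasiCompact ((pullback.fst f f ≫ f) ≫ g) := by
    rw [Category.assoc]; infer_instance
  have h1 : IsLocallyConstructible (Set.range (pullback.diagonal f).base) := by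
    have := (pullback.diagonal f).isLocallyConstructible_image (s := Set.univ)
      IsLocallyConstructible.univ
    rwa [Set.image_univ] at this
  have h2 : IsLocallyConstructible
      (((pullback.fst f f ≫ f) ≫ g).base '' (Set.range (pullback.diagonal f).base)ᶜ) :=
    ((pullback.fst f f ≫ f) ≫ g).isLocallyConstructible_image (isLocallyConstructible_compl' h1)
  have heq : {s : S | UniversallyInjective (fibreMap f g s)} =
      (((pullback.fst f f ≫ f) ≫ g).base '' (Set.range (pullback.diagonal f).base)ᶜ)ᶜ := by
    ext s
    rw [Set.mem_ofPred_eq, fibreMap_universallyInjective_iff]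
    simp only [mem_compl_iff, mem_image, not_exists, not_and]
    constructor
    · intro h z hz hgz
      exact hz (h z hgz)
    · intro h z hgz
      by_contra hz
      exact h z hz hgz
  rw [heq]
  exact isLocallyConstructible_compl' h2

end Groth.Agent.H17
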