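import Groth.Prelude.Def_ProCons
import Mathlib.Topology.Constructible

set_option autoImplicit false

namespace Groth.Agent.H17

open Topology Set

variable {X : Type*} [TopologicalSpace X]

theorem isLocallyConstructible_compl {s : Set X} (hs : IsLocallyConstructible s) :
    IsLocallyConstructible sᶜ := by
  intro x
  obtain ⟨U, hU, hUo, hc⟩ := hs x
  exact ⟨U, hU, hUo, by rw [preimage_compl]; exact hc.compl⟩

theorem ind_compl_of_pro {E : Set X} (hE : ProCons.IsProConstructible E) :
    ProCons.IsIndConstructible Eᶜ := by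
  intro x
  obtain ⟨U, hU, hxU, S, hS, hES⟩ := hE x
  refine ⟨U, hU, hxU, compl '' S, ?_, ?_⟩
  · rintro _ ⟨T, hT, rfl⟩
    exact isLocallyConstructible_compl (hS T hT)
  · rw [preimage_compl, hES, compl_sInter]

theorem pro_compl_of_ind {E : Set X} (hE : ProCons.IsIndConstructible E) :
    ProCons.IsProConstructible Eᶜ := by
  intro x
  obtain ⟨U, hU, hxU, S, hS, hES⟩ := hE x
  refine ⟨U, hU, hxU, compl '' S, ?_, ?_⟩
  · rintro _ ⟨T, hT, rfl⟩
    exact isLocallyConstructible_compl (hS T hT)
  · rw [preimage_compl, hES, compl_sUnion]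

end Groth.Agent.H17
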