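import Groth.Agent.H17.ProConsAbs
import Mathlib.AlgebraicGeometry.Morphisms.FinitePresentation
import Mathlib.AlgebraicGeometry.Morphisms.QuasiCompact
import Mathlib.AlgebraicGeometry.Properties

set_option autoImplicit false

namespace Groth.Agent.H17

open Topology Set Set.Notation AlgebraicGeometry CategoryTheory

universe u

/-- the underlying sets of affine opens -/
def IsAffSet (X : Scheme.{u}) (W : Set X) : Prop :=
  ∃ U : X.Opens, IsAffineOpen U ∧ (U : Set X) = W

theorem goodBasis_scheme (X : Scheme.{u}) : GoodBasis X (IsAffSet X) where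
  isOpen := by
    rintro W ⟨U, -, rfl⟩
    exact U.isOpen
  isCompact := by
    rintro W ⟨U, hU, rfl⟩
    exact hU.isCompact
  isQuasiSeparated := by
    rintro W ⟨U, hU, rfl⟩
    exact hU.isQuasiSeparated
  basis := by
    intro x O hO hxO
    obtain ⟨U, hU, hxU, hUO⟩ :=
      TopologicalSpace.Opens.isBasis_iff_nbhd.mp X.isBasis_affineOpens (U := ⟨O, hO⟩) hxO
    exact ⟨U, ⟨U, hU, rfl⟩, hxU, hUO⟩

variable {X' X : Scheme.{u}} (f : X' ⟶ X)

theorem resLE_base_val {U : X.Opens} {V : X'.Opens} (e : V ≤ f ⁻¹ᵁ U) (z : V) :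
    U.ι.base ((f.resLE U V e).base z) = f.base (V.ι.base z) := by
  have h := Scheme.Hom.resLE_comp_ι f e
  have h2 : (f.resLE U V e ≫ U.ι).base z = (V.ι ≫ f).base z := by rw [h]
  exact h2

theorem restrict_eq_resLE_base {U : X.Opens} {V : X'.Opens} (e : V ≤ f ⁻¹ᵁ U)
    (h : MapsTo f.base (V : Set X') (U : Set X)) :
    h.restrict f.base (V : Set X') (U : Set X) = (f.resLE U V e).base := by
  funext z
  apply Subtype.ext
  exact (resLE_base_val f e z).symm

set_option backward.isDefEq.respectTransparency.types false in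
theorem isSpectralMap_restrict (W' : Set X') (W : Set X) (h : MapsTo f.base W' W)
    (hW' : IsAffSet X' W') (hW : IsAffSet X W) : IsSpectralMap (h.restrict f.base W' W) := by
  obtain ⟨V, hV, rfl⟩ := hW'
  obtain ⟨U, hU, rfl⟩ := hW
  have e : V ≤ f ⁻¹ᵁ U := h
  rw [restrict_eq_resLE_base f e h]
  have : IsAffine U.toScheme := hU
  have : CompactSpace V.toScheme := isCompact_iff_compactSpace.mp hV.isCompact
  have : QuasiCompact (f.resLE U V e) := (HasAffineProperty.iff_of_isAffine (P := @QuasiCompact)).mpr this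
  exact (f.resLE U V e).isSpectralMap

set_option backward.isDefEq.respectTransparency.types false in
theorem isConstructible_image_restrict [LocallyOfFinitePresentation f] (W' : Set X') (W : Set X)
    (h : MapsTo f.base W' W) (hW' : IsAffSet X' W') (hW : IsAffSet X W) (T : Set ↥W')
    (hT : IsConstructible T) : IsConstructible (h.restrict f.base W' W '' T) := by
  obtain ⟨V, hV, rfl⟩ := hW'
  obtain ⟨U, hU, rfl⟩ := hW
  have e : V ≤ f ⁻¹ᵁ U := h
  rw [restrict_eq_resLE_base f e h]
  have : IsAffine U.toScheme := hU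
  have : CompactSpace V.toScheme := isCompact_iff_compactSpace.mp hV.isCompact
  have : QuasiCompact (f.resLE U V e) := (HasAffineProperty.iff_of_isAffine (P := @QuasiCompact)).mpr this
  exact (f.resLE U V e).isConstructible_image hT

end Groth.Agent.H17
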