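import Groth.Agent.H17.FibreRadicial
import Mathlib.AlgebraicGeometry.ZariskisMainTheorem

set_option autoImplicit false

namespace Groth.Agent.H17

open Topology Set AlgebraicGeometry CategoryTheory TopologicalSpace Limits TensorProduct

universe u

variable {X Y S : Scheme.{u}}

/-- flexible form of `quasiFiniteAt_iff_isOpen_singleton_asFiber` -/
theorem quasiFiniteAt_fiberι_iff (f : X ⟶ Y) [LocallyOfFiniteType f] (y : Y) (z : f.fiber y) :
    f.QuasiFiniteAt (f.fiberι y z) ↔ IsOpen ({z} : Set (f.fiber y)) := by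
  have key : ∀ x : X, f.fiberι y z = x → (f.QuasiFiniteAt x ↔ IsOpen ({z} : Set (f.fiber y))) := by
    intro x hx
    have hy : f.base x = y := by
      have h1 : f.fiberι y z ∈ Set.range (f.fiberι y) := mem_range_self z
      rw [f.range_fiberι y, hx] at h1
      exact h1
    subst hy
    have hz : z = f.asFiber x :=
      (f.fiberι (f.base x)).isEmbedding.injective (by rw [hx, f.fiberι_asFiber])
    rw [hz]
    exact Scheme.Hom.quasiFiniteAt_iff_isOpen_singleton_asFiber
  exact key _ rfl

theorem locallyOfFiniteType_snd_of_isPullback {P X Y Z : Scheme.{u}} {fst : P ⟶ X} {snd : P ⟶ Y}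
    {f : X ⟶ Z} {g : Y ⟶ Z} (h : IsPullback fst snd f g) [LocallyOfFiniteType f] :
    LocallyOfFiniteType snd :=
  MorphismProperty.of_isPullback (P := @LocallyOfFiniteType) h inferInstance

/-- The quasi-finite locus commutes with arbitrary base change. -/
theorem quasiFiniteAt_iff_of_isPullback {P X Y Z : Scheme.{u}} {fst : P ⟶ X} {snd : P ⟶ Y}
    {f : X ⟶ Z} {g : Y ⟶ Z} (h : IsPullback fst snd f g) [LocallyOfFiniteType f] (p : P) :
    snd.QuasiFiniteAt p ↔ f.QuasiFiniteAt (fst.base p) := by
  have hsnd : LocallyOfFiniteType snd := locallyOfFiniteType_snd_of_isPullback h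
  constructor
  · intro hp
    -- the map between fibres is open
    let y : Y := snd.base p
    let φ : snd.fiber y ⟶ f.fiber (g.base y) :=
      pullback.map _ _ _ _ fst (Spec.map (g.residueFieldMap y)) g h.w.symm (by simp)
    have hφ : IsPullback φ (snd.fiberToSpecResidueField y) (f.fiberToSpecResidueField (g.base y))
        (Spec.map (g.residueFieldMap y)) := isPullback_fiberToSpecResidueField_of_isPullback h y
    have hopen : UniversallyOpen φ :=
      MorphismProperty.of_isPullback (P := @UniversallyOpen) hφ.flip inferInstance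
    have hφι : φ ≫ f.fiberι (g.base y) = snd.fiberι y ≫ fst := pullback.lift_fst _ _ _
    have h1 : IsOpen ({snd.asFiber p} : Set (snd.fiber y)) :=
      Scheme.Hom.quasiFiniteAt_iff_isOpen_singleton_asFiber.mp hp
    have h2 : IsOpen ({φ.base (snd.asFiber p)} : Set (f.fiber (g.base y))) := by
      have := φ.isOpenMap _ h1
      rwa [Set.image_singleton] at this
    have h3 := (quasiFiniteAt_fiberι_iff f (g.base y) (φ.base (snd.asFiber p))).mpr h2
    have h4 : (f.fiberι (g.base y)).base (φ.base (snd.asFiber p)) = fst.base p := by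
      have e := congrArg (fun k : snd.fiber y ⟶ X => k.base (snd.asFiber p)) hφι
      simp only [Scheme.Hom.comp_base, TopCat.hom_comp, ContinuousMap.comp_apply] at e
      rw [e]
      congr 1
      exact snd.fiberι_asFiber p
    rwa [h4] at h3
  · intro hp
    let U : X.Opens := f.quasiFiniteLocus
    have hpb : IsPullback (fst ∣_ U) ((fst ⁻¹ᵁ U).ι ≫ snd) (U.ι ≫ f) g :=
      (isPullback_morphismRestrict fst U).paste_vert h
    have hqf : LocallyQuasiFinite ((fst ⁻¹ᵁ U).ι ≫ snd) :=
      MorphismProperty.of_isPullback (P := @LocallyQuasiFinite) hpb inferInstance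
    have hpU : p ∈ fst ⁻¹ᵁ U := hp
    let p' : ↥(fst ⁻¹ᵁ U).toScheme := ⟨p, hpU⟩
    have h1 : snd.QuasiFiniteAt ((fst ⁻¹ᵁ U).ι.base p') :=
      (Scheme.Hom.quasiFiniteAt_comp_iff_of_isOpenImmersion (f := (fst ⁻¹ᵁ U).ι) (g := snd)
        (x := p')).mp (Scheme.Hom.quasiFiniteAt _ _)
    exact h1

theorem exists_noetherian_model (A B : Type u) [CommRing A] [CommRing B] [Algebra A B]
    [Algebra.FinitePresentation A B] :
    ∃ (A₀ : Subalgebra ℤ A) (B₀ : Type u) (_ : CommRing B₀) (_ : Algebra A₀ B₀),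
      A₀.FG ∧ Algebra.FinitePresentation A₀ B₀ ∧ Nonempty (B ≃ₐ[A] A ⊗[A₀] B₀) := by
  let P := Algebra.Presentation.ofFinitePresentation A B
  let A₀ : Subalgebra ℤ A := Algebra.adjoin ℤ P.coeffs
  have : P.HasCoeffs A₀ := ⟨by simp [A₀]⟩
  exact ⟨A₀, (P.ModelOfHasCoeffs A₀:), inferInstance, inferInstance,
    ⟨P.finite_coeffs.toFinset, by simp [A₀]⟩, inferInstance,
    ⟨(P.tensorModelOfHasCoeffsEquiv A₀).symm⟩⟩

theorem exists_isPullback_noetherian {A B : CommRingCat.{u}} (φ : A ⟶ B)
    (hφ : φ.hom.FinitePresentation) :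
    ∃ (A₀ B₀ : CommRingCat.{u}) (φ₀ : A₀ ⟶ B₀) (α : A₀ ⟶ A) (β : B₀ ⟶ B),
      IsNoetherianRing A₀ ∧ IsNoetherianRing B₀ ∧ φ₀.hom.FinitePresentation ∧
      IsPullback (Spec.map β) (Spec.map φ) (Spec.map φ₀) (Spec.map α) := by
  algebraize [φ.hom]
  obtain ⟨A₀, B₀, _, _, hfg, hfp, ⟨e⟩⟩ := exists_noetherian_model A B
  have hft : Algebra.FiniteType ℤ A₀ := (Subalgebra.fg_iff_finiteType A₀).mp hfg
  have hN : IsNoetherianRing A₀ := Algebra.FiniteType.isNoetherianRing ℤ A₀
  have hN' : IsNoetherianRing B₀ := Algebra.FiniteType.isNoetherianRing A₀ B₀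
  let β : CommRingCat.of B₀ ⟶ B := CommRingCat.ofHom
      ((e.symm.toRingEquiv.toRingHom).comp Algebra.TensorProduct.includeRight.toRingHom)
  have hpo : IsPushout (CommRingCat.ofHom (algebraMap A₀ A)) (CommRingCat.ofHom (algebraMap A₀ B₀))
      φ β := by
    refine (CommRingCat.isPushout_tensorProduct A₀ A B₀).of_iso (Iso.refl _) (Iso.refl _)
      (Iso.refl _) e.symm.toRingEquiv.toCommRingCatIso (by simp) (by simp) ?_ ?_
    · ext a
      simp
      have h1 : (a ⊗ₜ[↥A₀] (1 : B₀)) = algebraMap A (A ⊗[↥A₀] B₀) a := rfl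
      rw [h1, AlgEquiv.commutes]
      rfl
    · ext b
      simp [β]
  refine ⟨CommRingCat.of A₀, CommRingCat.of B₀, CommRingCat.ofHom (algebraMap A₀ B₀),
    CommRingCat.ofHom (algebraMap A₀ A), β, hN, hN', ?_, ?_⟩
  · exact RingHom.finitePresentation_algebraMap.mpr hfp
  · exact (isPullback_SpecMap_of_isPushout _ _ _ _ hpo).flip

/-- the quasi-finite locus of a finitely presented morphism of affine schemes is constructible -/
theorem isConstructible_quasiFiniteAt_SpecMap {A B : CommRingCat.{u}} (φ : A ⟶ B)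
    (hφ : φ.hom.FinitePresentation) :
    IsConstructible {x : ↥(Spec B) | (Spec.map φ).QuasiFiniteAt x} := by
  obtain ⟨A₀, B₀, φ₀, α, β, hN, hN', hfp, hpb⟩ := exists_isPullback_noetherian φ hφ
  have hft : LocallyOfFiniteType (Spec.map φ₀) := by
    rw [HasRingHomProperty.Spec_iff (P := @LocallyOfFiniteType)]
    exact RingHom.FiniteType.of_finitePresentation hfp
  have heq : {x : ↥(Spec B) | (Spec.map φ).QuasiFiniteAt x} =
      (Spec.map β).base ⁻¹' {x | (Spec.map φ₀).QuasiFiniteAt x} := by
    ext p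
    exact quasiFiniteAt_iff_of_isPullback hpb p
  rw [heq]
  apply Scheme.Hom.isConstructible_preimage
  have hNS : NoetherianSpace ↥(Spec B₀) := inferInstanceAs (NoetherianSpace (PrimeSpectrum B₀))
  exact IsRetrocompact.isConstructible (Spec.map φ₀).isOpen_quasiFiniteAt
    (fun _ _ _ => NoetherianSpace.isCompact _)

/-- the quasi-finite locus of a l.f.p. morphism of affine schemes is constructible -/
theorem isConstructible_quasiFiniteAt_of_isAffine (g : X ⟶ Y) [IsAffine X] [IsAffine Y]
    [LocallyOfFinitePresentation g] :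
    IsConstructible {x : X | g.QuasiFiniteAt x} := by
  have hφ : g.appTop.hom.FinitePresentation :=
    (HasRingHomProperty.iff_of_isAffine (P := @LocallyOfFinitePresentation)).mp inferInstance
  have hnat : g ≫ Y.toSpecΓ = X.toSpecΓ ≫ Spec.map g.appTop := Scheme.toSpecΓ_naturality g
  have heq : {x : X | g.QuasiFiniteAt x} =
      X.toSpecΓ.base ⁻¹' {x | (Spec.map g.appTop).QuasiFiniteAt x} := by
    ext x
    simp only [mem_ofPred_eq, mem_preimage]
    rw [← Scheme.Hom.quasiFiniteAt_comp_iff_of_isOpenImmersion (f := X.toSpecΓ), ← hnat,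
      Scheme.Hom.quasiFiniteAt_comp_iff]
  rw [heq]
  exact Scheme.Hom.isConstructible_preimage _ (isConstructible_quasiFiniteAt_SpecMap _ hφ)

/-- the quasi-finite locus of a morphism locally of finite presentation is locally constructible
(hence a retrocompact open) -/
theorem isLocallyConstructible_quasiFiniteAt (f : X ⟶ Y) [LocallyOfFinitePresentation f] :
    IsLocallyConstructible {x : X | f.QuasiFiniteAt x} := by
  intro x
  obtain ⟨_, ⟨W : Y.Opens, hW, rfl⟩, hxW, -⟩ := Y.isBasis_affineOpens.exists_subset_of_mem_open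
    (Set.mem_univ (f.base x)) isOpen_univ
  obtain ⟨_, ⟨V : X.Opens, hV, rfl⟩, hxV, hVW⟩ := X.isBasis_affineOpens.exists_subset_of_mem_open
    hxW (f ⁻¹ᵁ W).2
  refine ⟨V, V.2.mem_nhds hxV, V.2, ?_⟩
  have : IsAffine (W : Scheme.{u}) := hW
  have : IsAffine (V : Scheme.{u}) := hV
  have hVW' : V ≤ f ⁻¹ᵁ W := hVW
  have : LocallyOfFinitePresentation (f.resLE W V hVW') := by
    have h1 : LocallyOfFinitePresentation (f.resLE W V hVW' ≫ W.ι) := by
      rw [Scheme.Hom.resLE_comp_ι]; infer_instance
    exact locallyOfFinitePresentation_of_comp (f.resLE W V hVW') W.ι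
  have hc := isConstructible_quasiFiniteAt_of_isAffine (f.resLE W V hVW')
  have key : ∀ v : ↥(V : Scheme.{u}),
      f.QuasiFiniteAt (V.ι.base v) ↔ (f.resLE W V hVW').QuasiFiniteAt v := by
    intro v
    rw [← Scheme.Hom.quasiFiniteAt_comp_iff (g := W.ι) (f := f.resLE W V hVW'),
      Scheme.Hom.resLE_comp_ι, Scheme.Hom.quasiFiniteAt_comp_iff_of_isOpenImmersion]
  have h2 : IsConstructible (V.ι.base ⁻¹' {x : X | f.QuasiFiniteAt x}) := by
    convert hc using 1
    ext v
    exact key v
  exact h2

/-- the square `X_s → X`, `Y_s → Y` is cartesian -/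
theorem isPullback_fibreMap (f : X ⟶ Y) (g : Y ⟶ S) (s : S) :
    IsPullback (pullback.fst (f ≫ g) (S.fromSpecResidueField s)) (fibreMap f g s) f
      (pullback.fst g (S.fromSpecResidueField s)) := by
  have hcomm : fibreMap f g s ≫ pullback.fst g (S.fromSpecResidueField s) =
      pullback.fst (f ≫ g) (S.fromSpecResidueField s) ≫ f := pullback.lift_fst _ _ _
  have hcomm2 : fibreMap f g s ≫ pullback.snd g (S.fromSpecResidueField s) =
      pullback.snd (f ≫ g) (S.fromSpecResidueField s) := pullback.lift_snd _ _ _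
  have big : IsPullback (fibreMap f g s ≫ pullback.snd g (S.fromSpecResidueField s))
      (pullback.fst (f ≫ g) (S.fromSpecResidueField s)) (S.fromSpecResidueField s) (f ≫ g) := by
    rw [hcomm2]
    exact (IsPullback.of_hasPullback (f ≫ g) (S.fromSpecResidueField s)).flip
  exact (IsPullback.of_right big hcomm
    (IsPullback.of_hasPullback g (S.fromSpecResidueField s)).flip).flip

theorem fibreMap_locallyQuasiFinite_iff (f : X ⟶ Y) (g : Y ⟶ S) [LocallyOfFiniteType f] (s : S) :
    LocallyQuasiFinite (fibreMap f g s) ↔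
      ∀ x : X, (f ≫ g).base x = s → f.QuasiFiniteAt x := by
  have hpb := isPullback_fibreMap f g s
  have hft : LocallyOfFiniteType (fibreMap f g s) := locallyOfFiniteType_snd_of_isPullback hpb
  rw [← Scheme.Hom.quasiFiniteLocus_eq_top_iff]
  have hrX := range_fst_fromSpecResidueField (f ≫ g) s
  constructor
  · intro h x hx
    have hx' : x ∈ (f ≫ g).base ⁻¹' {s} := hx
    rw [← hrX] at hx'
    obtain ⟨p, rfl⟩ := hx'
    rw [← quasiFiniteAt_iff_of_isPullback hpb p]
    have : p ∈ (fibreMap f g s).quasiFiniteLocus := by rw [h]; trivial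
    exact this
  · intro h
    apply top_le_iff.mp
    intro p _
    change (fibreMap f g s).QuasiFiniteAt p
    rw [quasiFiniteAt_iff_of_isPullback hpb p]
    apply h
    have : (pullback.fst (f ≫ g) (S.fromSpecResidueField s)).base p ∈
        (f ≫ g).base ⁻¹' {s} := by rw [← hrX]; exact mem_range_self _
    exact this

theorem isLocallyConstructible_setOf_fibreMap_locallyQuasiFinite (f : X ⟶ Y) (g : Y ⟶ S)
    [LocallyOfFinitePresentation g] [QuasiCompact g] [QuasiSeparated g]
    [LocallyOfFinitePresentation (f ≫ g)] [QuasiCompact (f ≫ g)] [QuasiSeparated (f ≫ g)] :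
    IsLocallyConstructible {s : S | LocallyQuasiFinite (fibreMap f g s)} := by
  have hfp : LocallyOfFinitePresentation f := locallyOfFinitePresentation_of_comp f g
  have h1 : IsLocallyConstructible {x : X | f.QuasiFiniteAt x} :=
    isLocallyConstructible_quasiFiniteAt f
  have h2 : IsLocallyConstructible ((f ≫ g).base '' {x : X | f.QuasiFiniteAt x}ᶜ) :=
    (f ≫ g).isLocallyConstructible_image (isLocallyConstructible_compl' h1)
  have heq : {s : S | LocallyQuasiFinite (fibreMap f g s)} =
      ((f ≫ g).base '' {x : X | f.QuasiFiniteAt x}ᶜ)ᶜ := by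
    ext s
    rw [Set.mem_ofPred_eq, fibreMap_locallyQuasiFinite_iff]
    simp only [mem_compl_iff, mem_image, not_exists, not_and, mem_ofPred_eq]
    constructor
    · intro h x hx hgx
      exact hx (h x hgx)
    · intro h x hgx
      by_contra hx
      exact h x hx hgx
  rw [heq]
  exact isLocallyConstructible_compl' h2

end Groth.Agent.H17
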