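import Mathlib
import Groth.Prelude.Def_EGA4Misc
import Groth.Agent.H17.QFLocus
import Groth.Agent.H17.FibreRadicial
import Groth.Agent.H17.ProConsScheme
import Groth.Agent.H17.ProConsCompl

set_option autoImplicit false

namespace Groth.Agent.H17

open AlgebraicGeometry CategoryTheory Limits MorphismProperty Topology

universe u

/-- morphisms between one-point integral schemes are fpqc coverings -/
theorem fpqc_of_onePoint {T T' : Scheme.{u}} [IsIntegral T] [Subsingleton T] [IsIntegral T']
    [Subsingleton T'] (h : T' ⟶ T) :
    (@Surjective ⊓ @Flat ⊓ @QuasiCompact : MorphismProperty Scheme.{u}) h := by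
  refine ⟨⟨?_, inferInstance⟩, ?_⟩
  · obtain ⟨t'⟩ : Nonempty T' := inferInstance
    exact ⟨fun t => ⟨t', Subsingleton.elim _ _⟩⟩
  · exact ⟨fun U _ _ => (Set.toFinite _).isCompact⟩

/-- base change of a morphism between one-point integral schemes is fpqc -/
theorem fpqc_of_isPullback_onePoint {Y Y' T T' : Scheme.{u}} {g : Y ⟶ T} {g' : Y' ⟶ T'}
    {eY : Y' ⟶ Y} {h : T' ⟶ T} [IsIntegral T] [Subsingleton T] [IsIntegral T'] [Subsingleton T']
    (hY : IsPullback eY g' g h) :
    (@Surjective ⊓ @Flat ⊓ @QuasiCompact : MorphismProperty Scheme.{u}) eY := by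
  obtain ⟨⟨h1, h2⟩, h3⟩ := fpqc_of_onePoint h
  exact ⟨⟨MorphismProperty.of_isPullback (P := @Surjective) hY.flip h1,
    MorphismProperty.of_isPullback (P := @Flat) hY.flip h2⟩,
    MorphismProperty.of_isPullback (P := @QuasiCompact) hY.flip h3⟩

section descent

variable {X X' Y Y' : Scheme.{u}} {f : X ⟶ Y} {f' : X' ⟶ Y'} {eX : X' ⟶ X} {eY : Y' ⟶ Y}

theorem universallyInjective_iff_of_fpqc (hX : IsPullback eX f' f eY)
    (hQ : (@Surjective ⊓ @Flat ⊓ @QuasiCompact : MorphismProperty Scheme.{u}) eY) :
    UniversallyInjective f ↔ UniversallyInjective f' :=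
  (MorphismProperty.iff_of_isPullback (P := @UniversallyInjective) hX.flip hQ).symm

theorem locallyOfFiniteType_iff_of_fpqc (hX : IsPullback eX f' f eY)
    (hQ : (@Surjective ⊓ @Flat ⊓ @QuasiCompact : MorphismProperty Scheme.{u}) eY) :
    LocallyOfFiniteType f ↔ LocallyOfFiniteType f' :=
  (MorphismProperty.iff_of_isPullback (P := @LocallyOfFiniteType) hX.flip hQ).symm

theorem quasiCompact_iff_of_fpqc (hX : IsPullback eX f' f eY)
    (hQ : (@Surjective ⊓ @Flat ⊓ @QuasiCompact : MorphismProperty Scheme.{u}) eY) :
    QuasiCompact f ↔ QuasiCompact f' := by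
  constructor
  · intro hf
    exact MorphismProperty.of_isPullback (P := @QuasiCompact) hX hf
  · intro hf'
    have hs : Surjective eX := MorphismProperty.of_isPullback (P := @Surjective) hX.flip hQ.1.1
    have hqc : QuasiCompact eY := hQ.2
    refine ⟨fun U hU hUc => ?_⟩
    have h1 : IsCompact (eY.base ⁻¹' U) := hqc.1 U hU hUc
    have h2 : IsCompact (f'.base ⁻¹' (eY.base ⁻¹' U)) :=
      hf'.1 _ (hU.preimage eY.continuous) h1
    have h3 : f.base ⁻¹' U = eX.base '' (f'.base ⁻¹' (eY.base ⁻¹' U)) := by
      ext x
      constructor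
      · intro hx
        obtain ⟨x', rfl⟩ := hs.surj x
        refine ⟨x', ?_, rfl⟩
        change eY.base (f'.base x') ∈ U
        have e : eY.base (f'.base x') = f.base (eX.base x') := by
          have := congrArg (fun k : X' ⟶ Y => k.base x') hX.w
          simpa using this.symm
        rw [e]
        exact hx
      · rintro ⟨x', hx', rfl⟩
        change f.base (eX.base x') ∈ U
        have e : eY.base (f'.base x') = f.base (eX.base x') := by
          have := congrArg (fun k : X' ⟶ Y => k.base x') hX.w
          simpa using this.symm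
        rw [← e]
        exact hx'
    rw [h3]
    exact h2.image eX.continuous

theorem locallyQuasiFinite_iff_of_surjective (hX : IsPullback eX f' f eY) [LocallyOfFiniteType f]
    (hs : Surjective eY) :
    LocallyQuasiFinite f ↔ LocallyQuasiFinite f' := by
  constructor
  · intro hf
    exact MorphismProperty.of_isPullback (P := @LocallyQuasiFinite) hX hf
  · intro hf'
    have hsX : Surjective eX := MorphismProperty.of_isPullback (P := @Surjective) hX.flip hs
    have hft : LocallyOfFiniteType f' := locallyOfFiniteType_snd_of_isPullback hX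
    rw [← Scheme.Hom.quasiFiniteLocus_eq_top_iff]
    apply top_le_iff.mp
    intro x _
    obtain ⟨x', rfl⟩ := hsX.surj x
    change f.QuasiFiniteAt (eX.base x')
    rw [← quasiFiniteAt_iff_of_isPullback hX x']
    exact Scheme.Hom.quasiFiniteAt _ _

end descent

/-- in an irreducible scheme, a locally constructible set or its complement has nonempty
interior -/
theorem interior_nonempty_or_of_isLocallyConstructible {S : Scheme.{u}} [IrreducibleSpace S]
    {E : Set S} (hE : IsLocallyConstructible E) :
    (interior E).Nonempty ∨ (interior Eᶜ).Nonempty := by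
  have key : ∀ F : Set S, IsLocallyConstructible F → genericPoint S ∈ F →
      genericPoint S ∈ interior F := by
    intro F hF hη
    have hind := ((lc_iff_ind_and_pro (goodBasis_scheme S) F).mp hF).1
    rw [mem_interior_iff_of_ind (goodBasis_scheme S) hind]
    intro x' hx'
    have h2 : genericPoint S ⤳ x' := (genericPoint_spec S).specializes (Set.mem_univ _)
    rwa [(hx'.antisymm h2).eq]
  by_cases hη : genericPoint S ∈ E
  · exact Or.inl ⟨_, key E hE hη⟩
  · exact Or.inr ⟨_, key Eᶜ (isLocallyConstructible_compl hE) hη⟩

section fibre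

variable {X S : Scheme.{u}}


theorem fibreMap_id_iff (P : MorphismProperty Scheme.{u}) [P.RespectsIso] (u : X ⟶ S) (s : S) :
    P (fibreMap u (𝟙 S) s) ↔ P (u.fiberToSpecResidueField s) := by
  have hcomm2 : fibreMap u (𝟙 S) s ≫ pullback.snd (𝟙 S) (S.fromSpecResidueField s) =
      pullback.snd (u ≫ 𝟙 S) (S.fromSpecResidueField s) := pullback.lift_snd _ _ _
  rw [← P.cancel_right_of_respectsIso (fibreMap u (𝟙 S) s)
    (pullback.snd (𝟙 S) (S.fromSpecResidueField s)), hcomm2]
  have key : ∀ v : X ⟶ S, v = u → (P (pullback.snd v (S.fromSpecResidueField s)) ↔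
      P (pullback.snd u (S.fromSpecResidueField s))) := by
    rintro v rfl
    exact Iff.rfl
  exact key _ (Category.comp_id u)

theorem isLocallyConstructible_setOf_fiber_universallyInjective (u : X ⟶ S)
    [LocallyOfFinitePresentation u] [QuasiCompact u] [QuasiSeparated u] :
    IsLocallyConstructible {s : S | UniversallyInjective (u.fiberToSpecResidueField s)} := by
  have h1 : LocallyOfFinitePresentation (u ≫ 𝟙 S) := by rw [Category.comp_id]; infer_instance
  have h2 : QuasiCompact (u ≫ 𝟙 S) := by rw [Category.comp_id]; infer_instance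
  have h3 : QuasiSeparated (u ≫ 𝟙 S) := by rw [Category.comp_id]; infer_instance
  have hlc := isLocallyConstructible_setOf_fibreMap_universallyInjective u (𝟙 S)
  have : MorphismProperty.RespectsIso (@UniversallyInjective : MorphismProperty Scheme.{u}) :=
    MorphismProperty.IsStableUnderBaseChange.respectsIso
  simpa only [fibreMap_id_iff @UniversallyInjective u] using hlc

theorem isLocallyConstructible_setOf_fiber_locallyQuasiFinite (u : X ⟶ S)
    [LocallyOfFinitePresentation u] [QuasiCompact u] [QuasiSeparated u] :
    IsLocallyConstructible {s : S | LocallyQuasiFinite (u.fiberToSpecResidueField s)} := by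
  have h1 : LocallyOfFinitePresentation (u ≫ 𝟙 S) := by rw [Category.comp_id]; infer_instance
  have h2 : QuasiCompact (u ≫ 𝟙 S) := by rw [Category.comp_id]; infer_instance
  have h3 : QuasiSeparated (u ≫ 𝟙 S) := by rw [Category.comp_id]; infer_instance
  have hlc := isLocallyConstructible_setOf_fibreMap_locallyQuasiFinite u (𝟙 S)
  have : MorphismProperty.RespectsIso (@LocallyQuasiFinite : MorphismProperty Scheme.{u}) :=
    MorphismProperty.IsStableUnderBaseChange.respectsIso
  simpa only [fibreMap_id_iff @LocallyQuasiFinite u] using hlc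

/-- over a one-point integral base, finite = quasi-finite (given finite type) -/
theorem isFinite_iff_locallyQuasiFinite_of_onePoint {Y T : Scheme.{u}} (g : Y ⟶ T)
    [IsIntegral T] [Subsingleton T] [QuasiCompact g] :
    IsFinite g ↔ LocallyQuasiFinite g := by
  constructor
  · intro h
    infer_instance
  · intro h
    exact IsFinite.of_locallyQuasiFinite g

end fibre

end Groth.Agent.H17
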