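import Mathlib
import Groth.Agent.H54.Dim

/-!
# Noether normalisation of a fibre, lifted to the base ring
-/

set_option autoImplicit false
open scoped TensorProduct

namespace Groth.Agent.H17

universe u

theorem exists_smul_eq_one_tmul {A B : Type*} [CommRing A] [CommRing B] [Algebra A B]
    (p : Ideal A) [p.IsPrime] (z : p.ResidueField ⊗[A] B) :
    ∃ r : A, r ∉ p ∧ ∃ b : B, algebraMap A p.ResidueField r • z = 1 ⊗ₜ[A] b := by
  induction z using TensorProduct.induction_on with
  | zero => exact ⟨1, fun h => (Ideal.IsPrime.ne_top ‹_›) ((Ideal.eq_top_iff_one _).mpr h), 0, by simp⟩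
  | tmul k b =>
    obtain ⟨x, y, hy, rfl⟩ := IsFractionRing.div_surjective (A := A ⧸ p) k
    obtain ⟨a, rfl⟩ := Ideal.Quotient.mk_surjective x
    obtain ⟨r, rfl⟩ := Ideal.Quotient.mk_surjective y
    have hr : r ∉ p := by
      intro h
      have : (Ideal.Quotient.mk p r) = 0 := Ideal.Quotient.eq_zero_iff_mem.mpr h
      rw [this] at hy
      exact zero_notMem_nonZeroDivisors hy
    refine ⟨r, hr, a • b, ?_⟩
    have hr' : algebraMap A p.ResidueField r ≠ 0 := by
      rwa [Ne, Ideal.algebraMap_residueField_eq_zero]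
    have e1 : algebraMap (A ⧸ p) p.ResidueField (Ideal.Quotient.mk p r) = algebraMap A p.ResidueField r := by
      rw [← Ideal.Quotient.algebraMap_eq, ← IsScalarTower.algebraMap_apply]
    have e2 : algebraMap (A ⧸ p) p.ResidueField (Ideal.Quotient.mk p a) = algebraMap A p.ResidueField a := by
      rw [← Ideal.Quotient.algebraMap_eq, ← IsScalarTower.algebraMap_apply]
    rw [e1, e2, TensorProduct.smul_tmul', smul_eq_mul, mul_div_cancel₀ _ hr',
      ← TensorProduct.smul_tmul, Algebra.algebraMap_eq_smul_one]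
  | add z₁ z₂ h₁ h₂ =>
    obtain ⟨r₁, hr₁, b₁, e₁⟩ := h₁
    obtain ⟨r₂, hr₂, b₂, e₂⟩ := h₂
    refine ⟨r₁ * r₂, fun h => ((Ideal.IsPrime.mem_or_mem ‹_› h).elim hr₁ hr₂), r₂ • b₁ + r₁ • b₂, ?_⟩
    have h1 : (algebraMap A p.ResidueField (r₁ * r₂)) • z₁ = 1 ⊗ₜ[A] (r₂ • b₁) := by
      rw [mul_comm, map_mul, mul_smul, e₁, TensorProduct.tmul_smul, algebraMap_smul]
    have h2 : (algebraMap A p.ResidueField (r₁ * r₂)) • z₂ = 1 ⊗ₜ[A] (r₁ • b₂) := by
      rw [map_mul, mul_smul, e₂, TensorProduct.tmul_smul, algebraMap_smul]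
    rw [smul_add, h1, h2, TensorProduct.tmul_add]

theorem exists_mvPolynomial_algHom_finite_fibre (A B : Type u) [CommRing A] [CommRing B] [Algebra A B]
    [Algebra.FiniteType A B]
    (p : Ideal A) [p.IsPrime] (d : ℕ) (hd : ringKrullDim (p.ResidueField ⊗[A] B) = d) :
    ∃ π : MvPolynomial (Fin d) A →ₐ[A] B,
      (Algebra.TensorProduct.map (AlgHom.id p.ResidueField p.ResidueField) π).toRingHom.Finite := by
  set K := p.ResidueField with hK
  have hnt : Nontrivial (K ⊗[A] B) := by
    by_contra h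
    rw [not_nontrivial_iff_subsingleton] at h
    rw [ringKrullDim_eq_bot_of_subsingleton] at hd
    exact absurd hd (by simp)
  obtain ⟨s, g, hginj, hgfin⟩ := exists_finite_inj_algHom_of_fg K (K ⊗[A] B)
  have hs : s = d := by
    have h1 := Groth.Agent.H54.ringKrullDim_eq_of_ringHom_isIntegral_of_injective g.toRingHom
      (RingHom.Finite.to_isIntegral hgfin) hginj
    rw [Groth.Agent.H54.ringKrullDim_mvPolynomial_fin_field, hd] at h1
    exact_mod_cast h1
  subst hs
  choose r hr b hb using fun i : Fin s => exists_smul_eq_one_tmul p (g (MvPolynomial.X i))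
  refine ⟨MvPolynomial.aeval b, ?_⟩
  have hu : ∀ i, algebraMap A K (r i) ≠ 0 := fun i => by
    rw [Ne, Ideal.algebraMap_residueField_eq_zero]; exact hr i
  let τ : MvPolynomial (Fin s) K →ₐ[K] MvPolynomial (Fin s) K :=
    MvPolynomial.aeval (fun i => MvPolynomial.C (algebraMap A K (r i)) * MvPolynomial.X i)
  let τ' : MvPolynomial (Fin s) K →ₐ[K] MvPolynomial (Fin s) K :=
    MvPolynomial.aeval (fun i => MvPolynomial.C (algebraMap A K (r i))⁻¹ * MvPolynomial.X i)
  have hττ' : τ.comp τ' = AlgHom.id K _ := by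
    apply MvPolynomial.algHom_ext
    intro i
    simp only [τ, τ', AlgHom.comp_apply, MvPolynomial.aeval_X, map_mul, MvPolynomial.aeval_C,
      AlgHom.id_apply, MvPolynomial.algebraMap_eq]
    rw [← mul_assoc, ← map_mul, inv_mul_cancel₀ (hu i), map_one, one_mul]
  have hτsurj : Function.Surjective τ := fun x => ⟨τ' x, by
    have := congrArg (fun f => f x) hττ'
    simpa using this⟩
  let e := MvPolynomial.algebraTensorAlgEquiv (σ := Fin s) A K
  set Ψ := Algebra.TensorProduct.map (AlgHom.id K K)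
    (MvPolynomial.aeval b : MvPolynomial (Fin s) A →ₐ[A] B) with hΨ
  have key : Ψ.comp e.symm.toAlgHom = g.comp τ := by
    apply MvPolynomial.algHom_ext
    intro i
    change Ψ (e.symm (MvPolynomial.X i)) = g (τ (MvPolynomial.X i))
    have h1 : e.symm (MvPolynomial.X i) = 1 ⊗ₜ MvPolynomial.X i :=
      MvPolynomial.algebraTensorAlgEquiv_symm_X A K i
    rw [h1, hΨ, Algebra.TensorProduct.map_tmul, MvPolynomial.aeval_X, AlgHom.id_apply, ← hb i]
    simp only [τ, MvPolynomial.aeval_X]
    rw [MvPolynomial.C_mul', map_smul]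
  have hΨeq : Ψ = (g.comp τ).comp e.toAlgHom := by
    rw [← key]
    ext x
    simp
  have : Ψ.toRingHom = (g.toRingHom.comp τ.toRingHom).comp e.toAlgHom.toRingHom := by
    rw [hΨeq]; rfl
  rw [this]
  refine RingHom.Finite.comp (RingHom.Finite.comp hgfin (RingHom.Finite.of_surjective _ hτsurj))
    (RingHom.Finite.of_surjective _ e.surjective)

theorem exists_smul_eq_one_tmul' {A B K : Type*} [CommRing A] [CommRing B] [Algebra A B]
    [Field K] [Algebra A K]
    (hK : ∀ k : K, ∃ a r : A, algebraMap A K r ≠ 0 ∧ k * algebraMap A K r = algebraMap A K a)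
    (z : K ⊗[A] B) :
    ∃ r : A, algebraMap A K r ≠ 0 ∧ ∃ b : B, algebraMap A K r • z = 1 ⊗ₜ[A] b := by
  induction z using TensorProduct.induction_on with
  | zero => exact ⟨1, by simp, 0, by simp⟩
  | tmul k b =>
    obtain ⟨a, r, hr, h⟩ := hK k
    refine ⟨r, hr, a • b, ?_⟩
    rw [TensorProduct.smul_tmul', smul_eq_mul, mul_comm, h, ← TensorProduct.smul_tmul,
      Algebra.algebraMap_eq_smul_one]
  | add z₁ z₂ h₁ h₂ =>
    obtain ⟨r₁, hr₁, b₁, e₁⟩ := h₁
    obtain ⟨r₂, hr₂, b₂, e₂⟩ := h₂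
    refine ⟨r₁ * r₂, by rw [map_mul]; exact mul_ne_zero hr₁ hr₂, r₂ • b₁ + r₁ • b₂, ?_⟩
    have h1 : (algebraMap A K (r₁ * r₂)) • z₁ = 1 ⊗ₜ[A] (r₂ • b₁) := by
      rw [mul_comm, map_mul, mul_smul, e₁, TensorProduct.tmul_smul, algebraMap_smul]
    have h2 : (algebraMap A K (r₁ * r₂)) • z₂ = 1 ⊗ₜ[A] (r₁ • b₂) := by
      rw [map_mul, mul_smul, e₂, TensorProduct.tmul_smul, algebraMap_smul]
    rw [smul_add, h1, h2, TensorProduct.tmul_add]

theorem exists_finite_aeval_of_isPushout (A K B C : Type*) [CommRing A] [Field K] [CommRing B]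
    [CommRing C] [Algebra A K] [Algebra A B] [Algebra A C] [Algebra K C] [Algebra B C]
    [IsScalarTower A K C] [IsScalarTower A B C] [Algebra.IsPushout A K B C]
    [Algebra.FiniteType A B]
    (hK : ∀ k : K, ∃ a r : A, algebraMap A K r ≠ 0 ∧ k * algebraMap A K r = algebraMap A K a)
    (d : ℕ) (hd : ringKrullDim C = d) :
    ∃ b : Fin d → B,
      (MvPolynomial.aeval (fun i => algebraMap B C (b i)) : MvPolynomial (Fin d) K →ₐ[K] C).Finite := by
  have hnt : Nontrivial C := by
    by_contra h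
    rw [not_nontrivial_iff_subsingleton] at h
    rw [ringKrullDim_eq_bot_of_subsingleton] at hd
    exact absurd hd (by simp)
  have hft : Algebra.FiniteType K C :=
    Algebra.FiniteType.equiv (inferInstance : Algebra.FiniteType K (K ⊗[A] B))
      (Algebra.IsPushout.equiv A K B C)
  obtain ⟨s, g, hginj, hgfin⟩ := exists_finite_inj_algHom_of_fg K C
  have hs : s = d := by
    have h1 := Groth.Agent.H54.ringKrullDim_eq_of_ringHom_isIntegral_of_injective g.toRingHom
      (RingHom.Finite.to_isIntegral hgfin) hginj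
    rw [Groth.Agent.H54.ringKrullDim_mvPolynomial_fin_field, hd] at h1
    exact_mod_cast h1
  subst hs
  have hz : ∀ z : C, ∃ r : A, algebraMap A K r ≠ 0 ∧ ∃ b : B,
      algebraMap A K r • z = algebraMap B C b := by
    intro z
    obtain ⟨r, hr, b, hb⟩ := exists_smul_eq_one_tmul' (B := B) hK
      ((Algebra.IsPushout.equiv A K B C).symm z)
    refine ⟨r, hr, b, ?_⟩
    have := congrArg (Algebra.IsPushout.equiv A K B C) hb
    rwa [map_smul, AlgEquiv.apply_symm_apply, Algebra.IsPushout.equiv_tmul, map_one, one_mul]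
      at this
  choose r hu b hb using fun i : Fin s => hz (g (MvPolynomial.X i))
  refine ⟨b, ?_⟩
  let τ : MvPolynomial (Fin s) K →ₐ[K] MvPolynomial (Fin s) K :=
    MvPolynomial.aeval (fun i => MvPolynomial.C (algebraMap A K (r i)) * MvPolynomial.X i)
  let τ' : MvPolynomial (Fin s) K →ₐ[K] MvPolynomial (Fin s) K :=
    MvPolynomial.aeval (fun i => MvPolynomial.C (algebraMap A K (r i))⁻¹ * MvPolynomial.X i)
  have hττ' : τ.comp τ' = AlgHom.id K _ := by
    apply MvPolynomial.algHom_ext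
    intro i
    simp only [τ, τ', AlgHom.comp_apply, MvPolynomial.aeval_X, map_mul, MvPolynomial.aeval_C,
      AlgHom.id_apply, MvPolynomial.algebraMap_eq]
    rw [← mul_assoc, ← map_mul, inv_mul_cancel₀ (hu i), map_one, one_mul]
  have hτsurj : Function.Surjective τ := fun x => ⟨τ' x, by
    have := congrArg (fun f => f x) hττ'
    simpa using this⟩
  have key : (MvPolynomial.aeval (fun i => algebraMap B C (b i)) : MvPolynomial (Fin s) K →ₐ[K] C)
      = g.comp τ := by
    apply MvPolynomial.algHom_ext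
    intro i
    rw [MvPolynomial.aeval_X, ← hb i]
    simp only [τ, AlgHom.comp_apply, MvPolynomial.aeval_X]
    rw [MvPolynomial.C_mul', map_smul]
  rw [key]
  exact RingHom.Finite.comp hgfin (RingHom.Finite.of_surjective _ hτsurj)


end Groth.Agent.H17
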