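import Mathlib
import Groth.Agent.H17.FibreNoether
/-!
# Noether normalisation of a fibre, scheme version
-/

set_option autoImplicit false
open CategoryTheory CategoryTheory.Limits AlgebraicGeometry

universe u
namespace Groth.Agent.H17

theorem topologicalKrullDim_of_isAffine (W : Scheme.{u}) [IsAffine W] :
    topologicalKrullDim W = ringKrullDim Γ(W, ⊤) := by
  rw [← PrimeSpectrum.topologicalKrullDim_eq_ringKrullDim Γ(W, ⊤)]
  change _ = topologicalKrullDim (Spec Γ(W, ⊤))
  exact IsHomeomorph.topologicalKrullDim_eq _ W.isoSpec.hom.homeomorph.isHomeomorph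

theorem fromSpecResidueField_appTop_ΓSpecIso (Y : Scheme.{u}) (y : Y) (hy : y ∈ (⊤ : Y.Opens)) :
    (Y.fromSpecResidueField y).appTop ≫ (Scheme.ΓSpecIso (Y.residueField y)).hom =
      Y.evaluation ⊤ y hy := by
  rw [Scheme.fromSpecResidueField, Scheme.Hom.comp_appTop, Scheme.fromSpecStalk_appTop]
  simp only [Category.assoc]
  have h1 : (Spec (Y.presheaf.stalk y)).presheaf.map (homOfLE (le_top : (⊤ : (Spec (Y.presheaf.stalk y)).Opens) ≤ ⊤)).op = 𝟙 _ := by
    exact (Spec (Y.presheaf.stalk y)).presheaf.map_id _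
  have := Scheme.ΓSpecIso_naturality (Y.residue y)
  erw [h1]
  rw [Category.id_comp, this, Iso.inv_hom_id_assoc]
  rfl

theorem evaluation_fraction (Y : Scheme.{u}) [IsAffine Y] (y : Y) (hy : y ∈ (⊤ : Y.Opens))
    (k : Y.residueField y) :
    ∃ a r : Γ(Y, ⊤), (Y.evaluation ⊤ y hy).hom r ≠ 0 ∧
      k * (Y.evaluation ⊤ y hy).hom r = (Y.evaluation ⊤ y hy).hom a := by
  obtain ⟨s, rfl⟩ := Y.residue_surjective y k
  let _ := Y.presheaf.algebra_section_stalk (U := ⊤) ⟨y, hy⟩
  have hloc := (isAffineOpen_top Y).isLocalization_stalk ⟨y, hy⟩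
  obtain ⟨⟨a, r⟩, h⟩ := IsLocalization.surj ((isAffineOpen_top Y).primeIdealOf ⟨y, hy⟩).asIdeal.primeCompl s
  have hev : ∀ t : Γ(Y, ⊤), (Y.evaluation ⊤ y hy).hom t =
      (Y.residue y).hom (algebraMap Γ(Y, ⊤) (Y.presheaf.stalk y) t) := fun t => rfl
  refine ⟨a, r.1, ?_, ?_⟩
  · have hu := IsLocalization.map_units (Y.presheaf.stalk y) r
    have : IsUnit ((Y.evaluation ⊤ y hy).hom r.1) := by
      rw [hev]
      exact hu.map (Y.residue y).hom
    exact this.ne_zero
  · rw [hev, hev]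
    have := congrArg (Y.residue y).hom h
    simpa using this

theorem exists_finite_eval₂Hom_of_isPushout {A B C : CommRingCat.{u}} (K : Type u) [Field K]
    (f : A ⟶ B) (φ : A ⟶ CommRingCat.of K) (i1 : B ⟶ C) (i2 : CommRingCat.of K ⟶ C)
    (h : IsPushout f φ i1 i2) (hf : f.hom.FiniteType)
    (hK : ∀ k : K, ∃ a r : A, φ.hom r ≠ 0 ∧ k * φ.hom r = φ.hom a) (d : ℕ)
    (hd : ringKrullDim C = d) :
    ∃ b : Fin d → B, (MvPolynomial.eval₂Hom i2.hom (fun i => i1.hom (b i))).Finite := by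
  algebraize [f.hom, φ.hom, i1.hom, i2.hom, i1.hom.comp f.hom]
  have : IsScalarTower A K C := .of_algebraMap_eq' <| congr($(h.1.1).hom)
  have h1 : Algebra.IsPushout A B K C := CommRingCat.isPushout_iff_isPushout.mp h
  have h2 : Algebra.IsPushout A K B C := h1.symm
  obtain ⟨b, hb⟩ := exists_finite_aeval_of_isPushout A K B C hK d hd
  exact ⟨b, hb⟩

set_option backward.isDefEq.respectTransparency.types false in
theorem exists_hom_affineSpace_finite_fibre {X Y : Scheme.{u}} [IsAffine X] [IsAffine Y] (f : X ⟶ Y)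
    [LocallyOfFiniteType f] (y : Y) (e : ℕ)
    (he : topologicalKrullDim ↥(f.fiber y) = e) :
    ∃ g : X ⟶ 𝔸(ULift.{u} (Fin e); Y), g ≫ (𝔸(ULift.{u} (Fin e); Y) ↘ Y) = f ∧
      IsFinite (pullback.snd g ((𝔸(ULift.{u} (Fin e); Y) ↘ Y).fiberι y)) := by
  have hyt : y ∈ (⊤ : Y.Opens) := trivial
  let φ : Γ(Y, ⊤) ⟶ Y.residueField y :=
    (Y.fromSpecResidueField y).appTop ≫ (Scheme.ΓSpecIso (Y.residueField y)).hom
  have hφ : φ = Y.evaluation ⊤ y hyt := fromSpecResidueField_appTop_ΓSpecIso Y y hyt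
  have hpo0 := isPushout_appTop_of_isPullback (IsPullback.of_hasPullback f (Y.fromSpecResidueField y))
  have hpo : IsPushout f.appTop φ (f.fiberι y).appTop
      ((Scheme.ΓSpecIso (Y.residueField y)).inv ≫ (f.fiberToSpecResidueField y).appTop) :=
    IsPushout.of_iso hpo0 (Iso.refl _) (Iso.refl _) (Scheme.ΓSpecIso (Y.residueField y)) (Iso.refl _)
      (by simp) (by simp [φ]) (Category.comp_id _) (by simp [Scheme.Hom.fiberToSpecResidueField]; exact Category.comp_id _)
  have hft : f.appTop.hom.FiniteType :=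
    (HasRingHomProperty.iff_of_isAffine (P := @LocallyOfFiniteType)).mp inferInstance
  haveI : IsAffine (f.fiber y) := inferInstanceAs (IsAffine (pullback f (Y.fromSpecResidueField y)))
  have hdim : ringKrullDim Γ(f.fiber y, ⊤) = e := by
    rw [← topologicalKrullDim_of_isAffine, he]
  have hK : ∀ k : Y.residueField y, ∃ a r : Γ(Y, ⊤), φ.hom r ≠ 0 ∧ k * φ.hom r = φ.hom a := by
    rw [hφ]
    exact evaluation_fraction Y y hyt
  obtain ⟨b, hb⟩ := exists_finite_eval₂Hom_of_isPushout (Y.residueField y) f.appTop φ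
    (f.fiberι y).appTop
    ((Scheme.ΓSpecIso (Y.residueField y)).inv ≫ (f.fiberToSpecResidueField y).appTop) hpo hft hK e hdim
  set q := 𝔸(ULift.{u} (Fin e); Y) ↘ Y with hq
  let g : X ⟶ 𝔸(ULift.{u} (Fin e); Y) := AffineSpace.homOfVector f (fun i => b i.down)
  have hgq : g ≫ q = f := AffineSpace.homOfVector_over _ _
  refine ⟨g, hgq, ?_⟩
  have hpb : IsPullback (pullback.fst g (q.fiberι y))
      (pullback.snd g (q.fiberι y) ≫ q.fiberToSpecResidueField y) (g ≫ q)
      (Y.fromSpecResidueField y) :=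
    (IsPullback.of_hasPullback g (q.fiberι y)).paste_vert
      (IsPullback.of_hasPullback q (Y.fromSpecResidueField y))
  rw [hgq] at hpb
  let θ : pullback g (q.fiberι y) ≅ f.fiber y := hpb.isoPullback
  have hθ1 : θ.hom ≫ f.fiberι y = pullback.fst g (q.fiberι y) := hpb.isoPullback_hom_fst
  have hθ2 : θ.hom ≫ f.fiberToSpecResidueField y =
      pullback.snd g (q.fiberι y) ≫ q.fiberToSpecResidueField y := hpb.isoPullback_hom_snd
  let h' : f.fiber y ⟶ q.fiber y := θ.inv ≫ pullback.snd g (q.fiberι y)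
  have hh1 : h' ≫ q.fiberι y = f.fiberι y ≫ g :=
    calc h' ≫ q.fiberι y = θ.inv ≫ (pullback.snd g (q.fiberι y) ≫ q.fiberι y) :=
          Category.assoc _ _ _
      _ = θ.inv ≫ (pullback.fst g (q.fiberι y) ≫ g) := by rw [pullback.condition]
      _ = θ.inv ≫ ((θ.hom ≫ f.fiberι y) ≫ g) := by rw [hθ1]
      _ = f.fiberι y ≫ g := by rw [Category.assoc, Iso.inv_hom_id_assoc]
  have hh2 : h' ≫ q.fiberToSpecResidueField y = f.fiberToSpecResidueField y :=
    calc h' ≫ q.fiberToSpecResidueField y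
        = θ.inv ≫ (pullback.snd g (q.fiberι y) ≫ q.fiberToSpecResidueField y) :=
          Category.assoc _ _ _
      _ = θ.inv ≫ (θ.hom ≫ f.fiberToSpecResidueField y) := by rw [hθ2]
      _ = f.fiberToSpecResidueField y := by rw [Iso.inv_hom_id_assoc]
  have hsnd : pullback.snd g (q.fiberι y) = θ.hom ≫ h' := by
    change _ = θ.hom ≫ θ.inv ≫ _
    rw [Iso.hom_inv_id_assoc]
  have : IsAffine (q.fiber y) := inferInstanceAs (IsAffine (pullback q (Y.fromSpecResidueField y)))
  suffices hfin : IsFinite h' by rw [hsnd]; infer_instance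
  rw [HasAffineProperty.iff_of_isAffine (P := @IsFinite)]
  refine ⟨inferInstance, ?_⟩
  let ψ : MvPolynomial (Fin e) (Y.residueField y) →+* Γ(q.fiber y, ⊤) :=
    MvPolynomial.eval₂Hom
      ((Scheme.ΓSpecIso (Y.residueField y)).inv ≫ (q.fiberToSpecResidueField y).appTop).hom
      (fun i => (q.fiberι y).appTop.hom (AffineSpace.coord Y ⟨i⟩))
  have hcomp : h'.appTop.hom.comp ψ = MvPolynomial.eval₂Hom
      ((Scheme.ΓSpecIso (Y.residueField y)).inv ≫ (f.fiberToSpecResidueField y).appTop).hom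
      (fun i => (f.fiberι y).appTop.hom (b i)) := by
    apply MvPolynomial.ringHom_ext
    · intro r
      simp only [ψ, RingHom.comp_apply, MvPolynomial.eval₂Hom_C]
      rw [← hh2, Scheme.Hom.comp_appTop]
      rfl
    · intro i
      simp only [ψ, RingHom.comp_apply, MvPolynomial.eval₂Hom_X']
      have := congrArg (fun m => m.appTop.hom (AffineSpace.coord Y ⟨i⟩)) hh1
      simp only [Scheme.Hom.comp_appTop] at this
      refine this.trans ?_
      simp only [CommRingCat.hom_comp, RingHom.comp_apply, g]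
      erw [AffineSpace.homOfVector_appTop_coord]
  exact RingHom.Finite.of_comp_finite (f := ψ) (by rw [hcomp]; exact hb)

end Groth.Agent.H17
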