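import Mathlib
import Groth.Agent.H54.Dim
import Groth.Agent.H17.FibreNoetherScheme
import Groth.Agent.H17.QFLocus
/-!
# Finite fibrewise projection to affine space: surjectivity and quasi-finiteness near the fibre
-/

set_option autoImplicit false
open CategoryTheory CategoryTheory.Limits AlgebraicGeometry

universe u
namespace Groth.Agent.H17

/-- An integral ring map from a finite-dimensional domain to a ring of the same dimension
is injective. -/
theorem injective_of_isIntegral_of_ringKrullDim_eq {R C : Type*} [CommRing R] [IsDomain R]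
    [CommRing C] (φ : R →+* C) (hφ : φ.IsIntegral) (e : ℕ) (hR : ringKrullDim R = e)
    (hC : ringKrullDim C = e) : Function.Injective φ := by
  rw [injective_iff_map_eq_zero]
  intro r hr
  by_contra hr0
  have hrnzd : r ∈ nonZeroDivisors R := mem_nonZeroDivisors_of_ne_zero hr0
  -- factor through the quotient by the kernel
  let ψ : R ⧸ RingHom.ker φ →+* C := RingHom.kerLift φ
  have hψinj : Function.Injective ψ := RingHom.kerLift_injective φ
  have hψint : ψ.IsIntegral := by
    have : ψ.comp (Ideal.Quotient.mk (RingHom.ker φ)) = φ := by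
      ext x; rfl
    exact RingHom.IsIntegral.tower_top (Ideal.Quotient.mk (RingHom.ker φ)) ψ (by rw [this]; exact hφ)
  have h1 := Groth.Agent.H54.ringKrullDim_eq_of_ringHom_isIntegral_of_injective ψ hψint hψinj
  have h2 := ringKrullDim_succ_le_of_surjective (Ideal.Quotient.mk (RingHom.ker φ))
    Ideal.Quotient.mk_surjective hrnzd (by
      rw [Ideal.Quotient.eq_zero_iff_mem]; exact hr)
  rw [h1, hC, hR] at h2
  have : ((e + 1 : ℕ) : WithBot ℕ∞) ≤ (e : ℕ) := by exact_mod_cast h2
  have h3 : (e + 1 : ℕ) ≤ e := by exact_mod_cast this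
  omega

theorem comap_surjective_of_isIntegral_of_ringKrullDim_eq {R C : Type*} [CommRing R] [IsDomain R]
    [CommRing C] (φ : R →+* C) (hφ : φ.IsIntegral) (e : ℕ) (hR : ringKrullDim R = e)
    (hC : ringKrullDim C = e) : Function.Surjective (PrimeSpectrum.comap φ) :=
  hφ.comap_surjective (injective_of_isIntegral_of_ringKrullDim_eq φ hφ e hR hC)

/-- Global sections of the fibre of affine space are a polynomial ring over the residue field. -/
noncomputable def fiberAffineSpaceΓEquiv (Y : Scheme.{u}) (y : Y) (n : Type u) :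
    Γ((𝔸(n; Y) ↘ Y).fiber y, ⊤) ≃+* MvPolynomial n (Y.residueField y) := by
  let θ : 𝔸(n; Spec (Y.residueField y)) ≅ (𝔸(n; Y) ↘ Y).fiber y :=
    (AffineSpace.isPullback_map (n := n) (Y.fromSpecResidueField y)).isoPullback
  let θ' := (AffineSpace.SpecIso n (Y.residueField y)).symm ≪≫ θ
  exact ((Scheme.Γ.mapIso θ'.op) ≪≫ Scheme.ΓSpecIso _).commRingCatIsoToRingEquiv

theorem isDomain_Γ_fiber_affineSpace (Y : Scheme.{u}) (y : Y) (n : Type u) :
    IsDomain Γ((𝔸(n; Y) ↘ Y).fiber y, ⊤) :=
  (fiberAffineSpaceΓEquiv Y y n).toMulEquiv.isDomain _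

theorem ringKrullDim_Γ_fiber_affineSpace (Y : Scheme.{u}) (y : Y) (n : Type u) [Finite n] :
    ringKrullDim Γ((𝔸(n; Y) ↘ Y).fiber y, ⊤) = Nat.card n := by
  rw [ringKrullDim_eq_of_ringEquiv (fiberAffineSpaceΓEquiv Y y n),
    MvPolynomial.ringKrullDim_of_isNoetherianRing, ringKrullDim_eq_zero_of_field]
  simp


theorem surjective_of_comap_surjective {W Z : Scheme.{u}} [IsAffine W] [IsAffine Z] (h : W ⟶ Z)
    (hs : Function.Surjective (PrimeSpectrum.comap h.appTop.hom)) : Function.Surjective h.base := by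
  have h1 : Surjective (Spec.map h.appTop) := ⟨hs⟩
  have h2 : Surjective h :=
    (MorphismProperty.arrow_mk_iso_iff @Surjective (arrowIsoSpecΓOfIsAffine h)).mpr h1
  exact h2.surj

set_option backward.isDefEq.respectTransparency.types false in
theorem surjective_and_quasiFinite_of_finite_fibre {X Y : Scheme.{u}} [IsAffine X] [IsAffine Y]
    (f : X ⟶ Y) [LocallyOfFiniteType f] (y : Y) (e : ℕ)
    (he : topologicalKrullDim ↥(f.fiber y) = e) (g : X ⟶ 𝔸(ULift.{u} (Fin e); Y))
    (hg : g ≫ (𝔸(ULift.{u} (Fin e); Y) ↘ Y) = f)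
    (hfin : IsFinite (pullback.snd g ((𝔸(ULift.{u} (Fin e); Y) ↘ Y).fiberι y))) :
    Function.Surjective (pullback.snd g ((𝔸(ULift.{u} (Fin e); Y) ↘ Y).fiberι y)).base ∧
      ∃ U : X.Opens, f.base ⁻¹' {y} ⊆ (U : Set X) ∧ LocallyQuasiFinite (U.ι ≫ g) := by
  set q := 𝔸(ULift.{u} (Fin e); Y) ↘ Y with hq
  have hpb : IsPullback (pullback.fst g (q.fiberι y))
      (pullback.snd g (q.fiberι y) ≫ q.fiberToSpecResidueField y) (g ≫ q)
      (Y.fromSpecResidueField y) :=
    (IsPullback.of_hasPullback g (q.fiberι y)).paste_vert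
      (IsPullback.of_hasPullback q (Y.fromSpecResidueField y))
  rw [hg] at hpb
  let θ : pullback g (q.fiberι y) ≅ f.fiber y := hpb.isoPullback
  have hAq : IsAffine (q.fiber y) :=
    inferInstanceAs (IsAffine (pullback q (Y.fromSpecResidueField y)))
  have hgft : LocallyOfFiniteType g := by
    have : LocallyOfFiniteType (g ≫ q) := by rw [hg]; infer_instance
    exact locallyOfFiniteType_of_comp g q
  refine ⟨?_, ?_⟩
  · apply surjective_of_comap_surjective
    have hdomain := isDomain_Γ_fiber_affineSpace Y y (ULift.{u} (Fin e))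
    refine comap_surjective_of_isIntegral_of_ringKrullDim_eq _
      (RingHom.Finite.to_isIntegral (Scheme.Hom.finite_appTop _)) e ?_ ?_
    · rw [ringKrullDim_Γ_fiber_affineSpace]
      simp
    · rw [← topologicalKrullDim_of_isAffine, ← he]
      exact IsHomeomorph.topologicalKrullDim_eq _ θ.hom.homeomorph.isHomeomorph
  · refine ⟨g.quasiFiniteLocus, ?_, inferInstance⟩
    intro x hx
    have hx' : x ∈ Set.range (pullback.fst g (q.fiberι y)).base := by
      rw [Scheme.Pullback.range_fst, Scheme.Hom.range_fiberι]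
      simp only [Set.mem_preimage, Set.mem_singleton_iff]
      rw [← Scheme.Hom.comp_apply, hg]
      exact hx
    obtain ⟨p, rfl⟩ := hx'
    have := (quasiFiniteAt_iff_of_isPullback (IsPullback.of_hasPullback g (q.fiberι y)) p).mp
      (Scheme.Hom.quasiFiniteAt _ p)
    exact this

end Groth.Agent.H17
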