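import Mathlib
import Groth.Agent.H54.Dim
import Groth.Agent.H17.FibreNoetherScheme
import Groth.Agent.H49.FibreDimBC

/-!
# Fibre dimension of a finite type morphism to a quasi-compact scheme is bounded
-/

set_option autoImplicit false
open CategoryTheory CategoryTheory.Limits AlgebraicGeometry
open scoped TensorProduct

universe u
namespace Groth.Agent.H17

theorem ringKrullDim_le_of_isPushout_of_surjective (A K B C : Type*) [CommRing A] [Field K]
    [CommRing B] [CommRing C] [Algebra A K] [Algebra A B] [Algebra A C] [Algebra K C] [Algebra B C]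
    [IsScalarTower A K C] [IsScalarTower A B C] [Algebra.IsPushout A K B C]
    (N : ℕ) (π : MvPolynomial (Fin N) A →ₐ[A] B) (hπ : Function.Surjective π) :
    ringKrullDim C ≤ N := by
  let e := MvPolynomial.algebraTensorAlgEquiv (σ := Fin N) A K
  let Ψ : K ⊗[A] MvPolynomial (Fin N) A →ₐ[K] K ⊗[A] B :=
    Algebra.TensorProduct.map (AlgHom.id K K) π
  have hΨ : Function.Surjective Ψ :=
    Algebra.TensorProduct.map_surjective (AlgHom.id K K) π Function.surjective_id hπ
  let Φ : MvPolynomial (Fin N) K →ₐ[K] C :=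
    ((Algebra.IsPushout.equiv A K B C).toAlgHom.comp Ψ).comp e.symm.toAlgHom
  have hΦ : Function.Surjective Φ :=
    ((Algebra.IsPushout.equiv A K B C).surjective.comp hΨ).comp e.symm.surjective
  calc ringKrullDim C ≤ ringKrullDim (MvPolynomial (Fin N) K) :=
        ringKrullDim_le_of_surjective Φ.toRingHom hΦ
    _ = N := Groth.Agent.H54.ringKrullDim_mvPolynomial_fin_field K N

theorem ringKrullDim_le_of_isPushout_cat {A B C : CommRingCat.{u}} (K : Type u) [Field K]
    (f : A ⟶ B) (φ : A ⟶ CommRingCat.of K) (i1 : B ⟶ C) (i2 : CommRingCat.of K ⟶ C)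
    (h : IsPushout f φ i1 i2) (N : ℕ)
    (hN : letI := f.hom.toAlgebra
      ∃ π : MvPolynomial (Fin N) A →ₐ[A] B, Function.Surjective π) :
    ringKrullDim C ≤ N := by
  algebraize [f.hom, φ.hom, i1.hom, i2.hom, i1.hom.comp f.hom]
  have : IsScalarTower A K C := .of_algebraMap_eq' <| congr($(h.1.1).hom)
  have h1 : Algebra.IsPushout A B K C := CommRingCat.isPushout_iff_isPushout.mp h
  have h2 : Algebra.IsPushout A K B C := h1.symm
  obtain ⟨π, hπ⟩ := hN
  exact ringKrullDim_le_of_isPushout_of_surjective A K B C N π hπ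

/-- Affine case: fibre dimension is bounded by the number of generators. -/
theorem exists_fiber_dim_le_of_isAffine {X Y : Scheme.{u}} [IsAffine X] [IsAffine Y] (f : X ⟶ Y)
    [LocallyOfFiniteType f] : ∃ n : ℕ, ∀ y : Y, topologicalKrullDim ↥(f.fiber y) ≤ n := by
  have hft : f.appTop.hom.FiniteType :=
    (HasRingHomProperty.iff_of_isAffine (P := @LocallyOfFiniteType)).mp inferInstance
  let _ := f.appTop.hom.toAlgebra
  have hft' : Algebra.FiniteType Γ(Y, ⊤) Γ(X, ⊤) := hft
  obtain ⟨N, π, hπ⟩ := Algebra.FiniteType.iff_quotient_mvPolynomial''.mp hft'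
  refine ⟨N, fun y => ?_⟩
  let φ : Γ(Y, ⊤) ⟶ Y.residueField y :=
    (Y.fromSpecResidueField y).appTop ≫ (Scheme.ΓSpecIso (Y.residueField y)).hom
  have hpo0 := isPushout_appTop_of_isPullback (IsPullback.of_hasPullback f (Y.fromSpecResidueField y))
  have hpo : IsPushout f.appTop φ (f.fiberι y).appTop
      ((Scheme.ΓSpecIso (Y.residueField y)).inv ≫ (f.fiberToSpecResidueField y).appTop) :=
    IsPushout.of_iso hpo0 (Iso.refl _) (Iso.refl _) (Scheme.ΓSpecIso (Y.residueField y)) (Iso.refl _)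
      (by simp) (by simp [φ]) (Category.comp_id _) (by simp [Scheme.Hom.fiberToSpecResidueField]; exact Category.comp_id _)
  have : IsAffine (f.fiber y) := inferInstanceAs (IsAffine (pullback f (Y.fromSpecResidueField y)))
  rw [topologicalKrullDim_of_isAffine]
  exact ringKrullDim_le_of_isPushout_cat (Y.residueField y) f.appTop φ _ _ hpo N ⟨π, hπ⟩

theorem topologicalKrullDim_eq_iSup_schemeOpenCover (Z : Scheme.{u}) (𝒰 : Z.OpenCover) :
    topologicalKrullDim Z = ⨆ i, topologicalKrullDim (𝒰.X i) := by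
  rw [Groth.Agent.H49.FibreDimBC.topologicalKrullDim_eq_iSup_of_openCover Z
    (fun i => (𝒰.f i).opensRange) 𝒰.iSup_opensRange]
  refine iSup_congr fun i => ?_
  exact (IsHomeomorph.topologicalKrullDim_eq _
    (𝒰.f i).isOpenEmbedding.isEmbedding.toHomeomorph.isHomeomorph).symm

/-- Step B: affine base, quasi-compact source. -/
theorem exists_fiber_dim_le_of_isAffine_base {X Y : Scheme.{u}} [CompactSpace X] [IsAffine Y]
    (f : X ⟶ Y) [LocallyOfFiniteType f] :
    ∃ n : ℕ, ∀ y : Y, topologicalKrullDim ↥(f.fiber y) ≤ n := by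
  let 𝒰 := X.affineCover.finiteSubcover
  have : Finite 𝒰.I₀ := inferInstance
  have hN : ∀ k : 𝒰.I₀, ∃ n : ℕ, ∀ y : Y, topologicalKrullDim ↥((𝒰.f k ≫ f).fiber y) ≤ n :=
    fun k => exists_fiber_dim_le_of_isAffine (𝒰.f k ≫ f)
  choose N hN using hN
  obtain ⟨n, hn⟩ := Finite.exists_le N
  refine ⟨n, fun y => ?_⟩
  change topologicalKrullDim ↥(pullback f (Y.fromSpecResidueField y)) ≤ _
  rw [topologicalKrullDim_eq_iSup_schemeOpenCover _
    (Scheme.Pullback.openCoverOfLeft 𝒰 f (Y.fromSpecResidueField y))]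
  refine iSup_le fun k => ?_
  exact (hN k y).trans (by exact_mod_cast hn k)

theorem exists_fiber_dim_le {X Y : Scheme.{u}} [CompactSpace Y] (f : X ⟶ Y)
    [LocallyOfFiniteType f] [QuasiCompact f] :
    ∃ n : ℕ, ∀ y : Y, topologicalKrullDim ↥(f.fiber y) ≤ n := by
  let 𝒱 := Y.affineCover.finiteSubcover
  have : Finite 𝒱.I₀ := inferInstance
  have hN : ∀ j : 𝒱.I₀, ∃ n : ℕ, ∀ y : 𝒱.X j,
      topologicalKrullDim ↥((pullback.snd f (𝒱.f j)).fiber y) ≤ n := by
    intro j
    have : CompactSpace ↥(pullback f (𝒱.f j)) :=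
      QuasiCompact.compactSpace_of_compactSpace (pullback.snd f (𝒱.f j))
    exact exists_fiber_dim_le_of_isAffine_base (pullback.snd f (𝒱.f j))
  choose N hN using hN
  obtain ⟨n, hn⟩ := Finite.exists_le N
  refine ⟨n, fun y => ?_⟩
  obtain ⟨j, y', rfl⟩ := 𝒱.exists_eq y
  rw [← Groth.Agent.H49.FibreDimBC.topologicalKrullDim_fiber_eq f (𝒱.f j) (pullback.snd f (𝒱.f j))
    (pullback.fst f (𝒱.f j)) (IsPullback.of_hasPullback f (𝒱.f j)) y']
  exact (hN j y').trans (by exact_mod_cast hn j)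

end Groth.Agent.H17
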