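import Groth.Agent.H17.GenFreeAlg

set_option autoImplicit false

namespace Groth.Agent.H17

open Submodule TensorProduct

universe u

/-- Over a domain `R`, a submodule `L` of a finite `R[X₁..Xₙ]`-module is, after inverting a single
nonzero `a ∈ R`, generated by finitely many elements. -/
theorem exists_finset_pow_smul_mem {R : Type u} [CommRing R] [IsDomain R] (n : ℕ)
    {N : Type u} [AddCommGroup N] [Module R N] [Module (MvPolynomial (Fin n) R) N]
    [IsScalarTower R (MvPolynomial (Fin n) R) N]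
    [Module.Finite (MvPolynomial (Fin n) R) N] (L : Submodule (MvPolynomial (Fin n) R) N) :
    ∃ g : Finset N, (g : Set N) ⊆ L ∧ ∃ a : R, a ≠ 0 ∧ ∀ l ∈ L, ∃ k : ℕ,
      a ^ k • l ∈ Submodule.span (MvPolynomial (Fin n) R) (g : Set N) := by
  obtain ⟨g, hgL, hg⟩ := exists_finset_torsion_quotient n L
  refine ⟨g, hgL, ?_⟩
  let P := MvPolynomial (Fin n) R
  let G : Submodule P N := Submodule.span P (g : Set N)
  let N' := N ⧸ G
  have hgf : GenFree R N' := genFree_of_finite_of_finiteType R P N'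
  obtain ⟨a, ha, h⟩ := hgf
  refine ⟨a, ha, fun l hl => ?_⟩
  let Ra := Localization.Away a
  have hfree : Module.Free Ra (Ra ⊗[R] N') := h Ra (IsLocalization.Away.algebraMap_isUnit a)
  have hflat : Module.Flat R (Ra ⊗[R] N') := Module.Flat.trans R Ra (Ra ⊗[R] N')
  obtain ⟨r, hr, hrl⟩ := hg l hl
  let x : N' := G.mkQ l
  have hrx : r • x = 0 := by
    change r • G.mkQ l = 0
    rw [← LinearMap.map_smul_of_tower G.mkQ r l, Submodule.mkQ_apply, Submodule.Quotient.mk_eq_zero]
    rw [← algebraMap_smul P r l]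
    exact hrl
  have hz : (1 : Ra) ⊗ₜ[R] x = 0 := by
    have hreg := Module.Flat.isSMulRegular_of_nonZeroDivisors (M := Ra ⊗[R] N')
      (mem_nonZeroDivisors_of_ne_zero hr)
    apply hreg
    change r • _ = r • 0
    rw [smul_zero, ← TensorProduct.tmul_smul, hrx, TensorProduct.tmul_zero]
  have hz' : TensorProduct.mk R Ra N' 1 x = 0 := hz
  obtain ⟨⟨_, ⟨k, rfl⟩⟩, hk⟩ :=
    (IsLocalizedModule.eq_zero_iff (Submonoid.powers a) (TensorProduct.mk R Ra N' 1)).mp hz'
  refine ⟨k, ?_⟩
  have hk' : a ^ k • G.mkQ l = 0 := hk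
  rw [← LinearMap.map_smul_of_tower G.mkQ (a ^ k) l, Submodule.mkQ_apply,
    Submodule.Quotient.mk_eq_zero] at hk'
  exact hk'

/-- version over an arbitrary finite type algebra -/
theorem exists_finset_pow_smul_mem' (R : Type u) [CommRing R] [IsDomain R]
    (S : Type u) [CommRing S] [Algebra R S] [Algebra.FiniteType R S]
    {W : Type u} [AddCommGroup W] [Module R W] [Module S W] [IsScalarTower R S W]
    [Module.Finite S W] (L : Submodule S W) :
    ∃ g : Finset W, (g : Set W) ⊆ L ∧ ∃ a : R, a ≠ 0 ∧ ∀ l ∈ L, ∃ k : ℕ,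
      a ^ k • l ∈ Submodule.span S (g : Set W) := by
  obtain ⟨n, f, hf⟩ := Algebra.FiniteType.iff_quotient_mvPolynomial''.mp
    (inferInstance : Algebra.FiniteType R S)
  letI algInst : Algebra (MvPolynomial (Fin n) R) S := f.toRingHom.toAlgebra
  letI modInst : Module (MvPolynomial (Fin n) R) W := Module.compHom W f.toRingHom
  have hsmul : ∀ (p : MvPolynomial (Fin n) R) (m : W), p • m = f p • m := fun _ _ => rfl
  have t1 : IsScalarTower R (MvPolynomial (Fin n) R) W := by
    refine ⟨fun a p m => ?_⟩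
    rw [hsmul, hsmul, map_smul, smul_assoc]
  have t2 : IsScalarTower (MvPolynomial (Fin n) R) S W := by
    refine ⟨fun p s m => ?_⟩
    rw [hsmul]
    change (f p * s) • m = _
    rw [mul_smul]
  have h1 : Module.Finite (MvPolynomial (Fin n) R) S :=
    Module.Finite.of_surjective (Algebra.linearMap (MvPolynomial (Fin n) R) S) hf
  have h2 : Module.Finite (MvPolynomial (Fin n) R) W := Module.Finite.trans S W
  obtain ⟨g, hgL, a, ha, h⟩ := exists_finset_pow_smul_mem n
    (L.restrictScalars (MvPolynomial (Fin n) R))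
  refine ⟨g, hgL, a, ha, fun l hl => ?_⟩
  obtain ⟨k, hk⟩ := h l hl
  refine ⟨k, ?_⟩
  have hle : Submodule.span (MvPolynomial (Fin n) R) (g : Set W) ≤
      (Submodule.span S (g : Set W)).restrictScalars (MvPolynomial (Fin n) R) :=
    Submodule.span_le.mpr Submodule.subset_span
  exact hle hk

/-- if the relation module of `M` is finitely generated up to powers of `s`, then `M[1/s]` is
finitely presented over `S[1/s]` -/
theorem finitePresentation_localizedModule_of_pow_smul {S : Type u} [CommRing S]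
    {M : Type u} [AddCommGroup M] [Module S M] (s : S) {m : ℕ}
    (σ₀ : (Fin m → S) →ₗ[S] M) (hσ₀ : Function.Surjective σ₀) (g : Finset (Fin m → S))
    (hg : (g : Set (Fin m → S)) ⊆ LinearMap.ker σ₀)
    (h : ∀ l ∈ LinearMap.ker σ₀, ∃ k : ℕ, s ^ k • l ∈ Submodule.span S (g : Set (Fin m → S))) :
    Module.FinitePresentation (Localization.Away s) (LocalizedModule (Submonoid.powers s) M) := by
  let G : Submodule S (Fin m → S) := Submodule.span S (g : Set (Fin m → S))
  have hGker : G ≤ LinearMap.ker σ₀ := Submodule.span_le.mpr hg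
  let M' := (Fin m → S) ⧸ G
  have hfp : Module.FinitePresentation S M' :=
    Module.finitePresentation_of_surjective G.mkQ G.mkQ_surjective
      (by rw [Submodule.ker_mkQ]; exact ⟨g, rfl⟩)
  let ψ : M' →ₗ[S] M := G.liftQ σ₀ hGker
  have hψ : Function.Surjective ψ := by
    intro y
    obtain ⟨v, rfl⟩ := hσ₀ y
    exact ⟨G.mkQ v, rfl⟩
  have hker : ∀ x ∈ LinearMap.ker ψ, ∃ k : ℕ, s ^ k • x = 0 := by
    intro x hx
    obtain ⟨v, rfl⟩ := G.mkQ_surjective x
    have hv : v ∈ LinearMap.ker σ₀ := hx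
    obtain ⟨k, hk⟩ := h v hv
    refine ⟨k, ?_⟩
    rw [← map_smul, Submodule.mkQ_apply, Submodule.Quotient.mk_eq_zero]
    exact hk
  let Sp := Submonoid.powers s
  let ψf : LocalizedModule Sp M' →ₗ[Localization Sp] LocalizedModule Sp M :=
    LocalizedModule.map Sp ψ
  have hsurj : Function.Surjective ψf := LocalizedModule.map_surjective Sp ψ hψ
  have hsub : Subsingleton (LocalizedModule Sp ↥(LinearMap.ker ψ)) := by
    rw [LocalizedModule.subsingleton_iff]
    intro x
    obtain ⟨k, hk⟩ := hker x.1 x.2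
    exact ⟨s ^ k, ⟨k, rfl⟩, Subtype.ext hk⟩
  have hinj : Function.Injective ψf := by
    rw [← LinearMap.ker_eq_bot, LinearMap.ker_eq_bot']
    intro w hw
    have hex := LocalizedModule.map_exact Sp (LinearMap.ker ψ).subtype ψ
      (LinearMap.exact_subtype_ker_map ψ)
    obtain ⟨z, rfl⟩ := (hex w).mp hw
    rw [Subsingleton.elim z 0, map_zero]
  exact Module.FinitePresentation.of_equiv (LinearEquiv.ofBijective ψf ⟨hinj, hsurj⟩)

/-- if the kernel of `P → S` is finitely generated up to powers of `a`, then `R' ⊗ S` is finitely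
presented over `R'` whenever `a` is invertible in `R'` -/
theorem finitePresentation_baseChange_of_pow_smul {R : Type u} [CommRing R]
    {P S : Type u} [CommRing P] [CommRing S] [Algebra R P] [Algebra R S]
    [Algebra.FinitePresentation R P] (φ : P →ₐ[R] S) (hφ : Function.Surjective φ)
    (R' : Type u) [CommRing R'] [Algebra R R'] (g : Finset P)
    (hg : (g : Set P) ⊆ RingHom.ker φ) (a : R) (ha : IsUnit (algebraMap R R' a))
    (h : ∀ p ∈ RingHom.ker φ, ∃ k : ℕ, a ^ k • p ∈ Ideal.span (g : Set P)) :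
    Algebra.FinitePresentation R' (R' ⊗[R] S) := by
  let Φ : R' ⊗[R] P →ₐ[R'] R' ⊗[R] S := Algebra.TensorProduct.map (AlgHom.id R' R') φ
  let ΦR : R' ⊗[R] P →ₐ[R] R' ⊗[R] S := Algebra.TensorProduct.map (AlgHom.id R R') φ
  have hΦsurj : Function.Surjective Φ :=
    Algebra.TensorProduct.map_surjective (AlgHom.id R' R') φ Function.surjective_id hφ
  have hkerR : RingHom.ker ΦR =
      (RingHom.ker φ).map (Algebra.TensorProduct.includeRight : P →ₐ[R] R' ⊗[R] P) :=
    Algebra.TensorProduct.lTensor_ker φ hφ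
  have hker : RingHom.ker Φ.toRingHom = RingHom.ker ΦR := by
    ext x
    rfl
  let J' : Ideal (R' ⊗[R] P) :=
    (Ideal.span (g : Set P)).map (Algebra.TensorProduct.includeRight : P →ₐ[R] R' ⊗[R] P)
  have hJ'fg : J'.FG := Ideal.FG.map ⟨g, rfl⟩ _
  have hle : (RingHom.ker φ).map (Algebra.TensorProduct.includeRight : P →ₐ[R] R' ⊗[R] P) ≤ J' := by
    rw [Ideal.map_le_iff_le_comap]
    intro p hp
    obtain ⟨k, hk⟩ := h p hp
    rw [Ideal.mem_comap]
    have h1 : (Algebra.TensorProduct.includeRight : P →ₐ[R] R' ⊗[R] P) (a ^ k • p) ∈ J' :=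
      Ideal.mem_map_of_mem _ hk
    rw [map_smul, Algebra.smul_def] at h1
    have hu : IsUnit (algebraMap R (R' ⊗[R] P) (a ^ k)) := by
      rw [IsScalarTower.algebraMap_apply R R' (R' ⊗[R] P), map_pow]
      exact (ha.pow k).map _
    exact (Ideal.unit_mul_mem_iff_mem J' hu).mp h1
  have hge : J' ≤ (RingHom.ker φ).map
      (Algebra.TensorProduct.includeRight : P →ₐ[R] R' ⊗[R] P) :=
    Ideal.map_mono (Ideal.span_le.mpr hg)
  have hkerfg : (RingHom.ker Φ.toRingHom).FG := by
    rw [hker, hkerR, le_antisymm hle hge]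
    exact hJ'fg
  exact Algebra.FinitePresentation.of_surjective hΦsurj hkerfg

/-- **Generic freeness** (Stacks 051R). -/
theorem generic_freeness {R S M : Type u} [CommRing R] [IsDomain R] [CommRing S] [Algebra R S]
    [Algebra.FiniteType R S] [AddCommGroup M] [Module S M] [Module R M] [IsScalarTower R S M]
    [Module.Finite S M] :
    ∃ f : R, f ≠ 0 ∧ Module.Free (Localization.Away f) (Localization.Away f ⊗[R] M) ∧
      Module.Free (Localization.Away f) (Localization.Away f ⊗[R] S) ∧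
      Algebra.FinitePresentation (Localization.Away f) (Localization.Away f ⊗[R] S) ∧
      Module.FinitePresentation (Localization.Away (algebraMap R S f))
        (LocalizedModule (Submonoid.powers (algebraMap R S f)) M) := by
  classical
  -- (a), (b)
  obtain ⟨a₁, ha₁, h₁⟩ := genFree_of_finite_of_finiteType R S M
  obtain ⟨a₂, ha₂, h₂⟩ := genFree_of_finiteType_algebra R S
  -- (c)
  obtain ⟨n, φ, hφ⟩ := Algebra.FiniteType.iff_quotient_mvPolynomial''.mp
    (inferInstance : Algebra.FiniteType R S)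
  obtain ⟨gc, hgc, a₃, ha₃, h₃⟩ := exists_finset_pow_smul_mem n (N := MvPolynomial (Fin n) R)
    (RingHom.ker φ.toRingHom : Ideal (MvPolynomial (Fin n) R))
  -- (d)
  obtain ⟨m, σ₀, hσ₀⟩ := Module.Finite.exists_fin' S M
  obtain ⟨gd, hgd, a₄, ha₄, h₄⟩ := exists_finset_pow_smul_mem' R S (LinearMap.ker σ₀)
  have hunit : IsUnit (algebraMap R (Localization.Away (a₁ * a₂ * a₃ * a₄)) (a₁ * a₂ * a₃ * a₄)) :=
    IsLocalization.Away.algebraMap_isUnit _
  refine ⟨a₁ * a₂ * a₃ * a₄, mul_ne_zero (mul_ne_zero (mul_ne_zero ha₁ ha₂) ha₃) ha₄, ?_, ?_, ?_, ?_⟩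
  · refine h₁ _ ?_
    refine isUnit_of_dvd_unit (map_dvd _ ?_) hunit
    exact ⟨a₂ * a₃ * a₄, by ring⟩
  · refine h₂ _ ?_
    refine isUnit_of_dvd_unit (map_dvd _ ?_) hunit
    exact ⟨a₁ * a₃ * a₄, by ring⟩
  · refine finitePresentation_baseChange_of_pow_smul φ hφ _ gc hgc a₃ ?_ (fun p hp => ?_)
    · refine isUnit_of_dvd_unit (map_dvd _ ?_) hunit
      exact ⟨a₁ * a₂ * a₄, by ring⟩
    · exact h₃ p hp
  · refine finitePresentation_localizedModule_of_pow_smul _ σ₀ hσ₀ gd hgd (fun l hl => ?_)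
    obtain ⟨k, hk⟩ := h₄ l hl
    refine ⟨k, ?_⟩
    have : (algebraMap R S (a₁ * a₂ * a₃ * a₄)) ^ k • l = (a₁ * a₂ * a₃) ^ k • (a₄ ^ k • l) := by
      rw [← map_pow, algebraMap_smul, smul_smul, ← mul_pow]
    rw [this, ← algebraMap_smul S ((a₁ * a₂ * a₃) ^ k)]
    exact Submodule.smul_mem _ _ hk

end Groth.Agent.H17
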