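import Mathlib
import Groth.Prelude
import Groth.Agent.H29.DimFormula
import Groth.Agent.H11.FtDim

set_option autoImplicit false
set_option linter.style.haveILetI false
universe u
open TensorProduct

namespace Groth.Agent.H17.DimIneq

/-- transcendence degree is insensitive to an algebraic bottom step -/
theorem trdeg_eq_of_isAlgebraic_bot (A B C : Type u) [CommRing A] [CommRing B] [CommRing C]
    [Algebra A B] [Algebra B C] [Algebra A C] [IsScalarTower A B C] [Nontrivial A]
    [NoZeroDivisors C] [FaithfulSMul A B] [FaithfulSMul B C] [Algebra.IsAlgebraic A B] :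
    Algebra.trdeg A C = Algebra.trdeg B C := by
  rw [← trdeg_add_eq A B (A := C), trdeg_eq_zero (R := A) (A := B), zero_add]

/-- transcendence degree is insensitive to an algebraic top step -/
theorem trdeg_eq_of_isAlgebraic_top (A B C : Type u) [CommRing A] [CommRing B] [CommRing C]
    [Algebra A B] [Algebra B C] [Algebra A C] [IsScalarTower A B C] [Nontrivial A]
    [NoZeroDivisors C] [FaithfulSMul A B] [FaithfulSMul B C] [Algebra.IsAlgebraic B C] :
    Algebra.trdeg A C = Algebra.trdeg A B := by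
  rw [← trdeg_add_eq A B (A := C), trdeg_eq_zero (R := B) (A := C), add_zero]

/-- Two "parallel" extensions with algebraic vertical maps have the same transcendence degree. -/
theorem trdeg_eq_of_square (A B K L : Type u) [CommRing A] [CommRing B] [Field K] [Field L]
    [Algebra A B] [Algebra A K] [Algebra K L] [Algebra B L] [Algebra A L]
    [IsScalarTower A K L] [IsScalarTower A B L] [Nontrivial A]
    [FaithfulSMul A B] [FaithfulSMul A K] [FaithfulSMul B L]
    [Algebra.IsAlgebraic A K] [Algebra.IsAlgebraic B L] :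
    Algebra.trdeg K L = Algebra.trdeg A B := by
  rw [← trdeg_eq_of_isAlgebraic_bot A K L, trdeg_eq_of_isAlgebraic_top A B L]

section
variable (R S : Type u) [CommRing R] [CommRing S] [Algebra R S] (p : Ideal R) [p.IsPrime]
  (Q : Ideal (p.Fiber S)) [Q.IsPrime]

/-- the ring map `S → κ(Q)` -/
noncomputable def toResidueFieldFiber : S →+* Q.ResidueField :=
  (algebraMap (p.Fiber S) Q.ResidueField).comp
    (Algebra.TensorProduct.includeRight : S →ₐ[R] p.Fiber S).toRingHom

theorem toResidueFieldFiber_algebraMap (r : R) :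
    toResidueFieldFiber R S p Q (algebraMap R S r) = algebraMap R Q.ResidueField r := by
  simp only [toResidueFieldFiber, RingHom.comp_apply]
  rw [IsScalarTower.algebraMap_apply R (p.Fiber S) Q.ResidueField]
  congr 1
  exact (Algebra.TensorProduct.includeRight : S →ₐ[R] p.Fiber S).commutes r

theorem algebraMap_residueField_ne_zero {r : R} (hr : r ∉ p) :
    algebraMap R Q.ResidueField r ≠ 0 := by
  rw [IsScalarTower.algebraMap_apply R (p.Fiber S) Q.ResidueField, Ne,
    Ideal.algebraMap_residueField_eq_zero]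
  intro h
  apply hr
  have : r ∈ Q.under R := h
  rwa [← Ideal.over_def Q p] at this

theorem exists_mul_eq_of_fiber (x : p.Fiber S) :
    ∃ a b : S, toResidueFieldFiber R S p Q b ≠ 0 ∧
      algebraMap (p.Fiber S) Q.ResidueField x * toResidueFieldFiber R S p Q b =
        toResidueFieldFiber R S p Q a := by
  obtain ⟨r, hr, s, hs⟩ := Ideal.Fiber.exists_smul_eq_one_tmul p x
  refine ⟨s, algebraMap R S r, ?_, ?_⟩
  · rw [toResidueFieldFiber_algebraMap]
    exact algebraMap_residueField_ne_zero R S p Q hr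
  · rw [toResidueFieldFiber_algebraMap, IsScalarTower.algebraMap_apply R (p.Fiber S) Q.ResidueField,
      ← map_mul, mul_comm, ← Algebra.smul_def, hs]
    rfl

/-- every element of `κ(Q)` is a quotient of images of elements of `S` -/
theorem exists_toResidueFieldFiber_mul_eq (c : Q.ResidueField) :
    ∃ a b : S, toResidueFieldFiber R S p Q b ≠ 0 ∧
      c * toResidueFieldFiber R S p Q b = toResidueFieldFiber R S p Q a := by
  obtain ⟨x', y', hy'0, hxy⟩ := IsFractionRing.div_surjective (A := p.Fiber S ⧸ Q) c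
  obtain ⟨x, rfl⟩ := Ideal.Quotient.mk_surjective x'
  obtain ⟨y, rfl⟩ := Ideal.Quotient.mk_surjective y'
  rw [Ideal.algebraMap_quotient_residueField_mk, Ideal.algebraMap_quotient_residueField_mk]
    at hxy
  have hy0 : algebraMap (p.Fiber S) Q.ResidueField y ≠ 0 := by
    rw [Ne, Ideal.algebraMap_residueField_eq_zero]
    intro hyQ
    have : (Ideal.Quotient.mk Q) y = 0 := Ideal.Quotient.eq_zero_iff_mem.mpr hyQ
    exact nonZeroDivisors.ne_zero hy'0 this
  obtain ⟨a₁, b₁, hb₁, h₁⟩ := exists_mul_eq_of_fiber R S p Q y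
  obtain ⟨a₂, b₂, hb₂, h₂⟩ := exists_mul_eq_of_fiber R S p Q x
  have ha₁ : toResidueFieldFiber R S p Q a₁ ≠ 0 := by
    rw [← h₁]
    exact mul_ne_zero hy0 hb₁
  refine ⟨a₂ * b₁, a₁ * b₂, ?_, ?_⟩
  · rw [map_mul]
    exact mul_ne_zero ha₁ hb₂
  · rw [map_mul, map_mul, ← h₁, ← h₂, ← hxy]
    field_simp

theorem ker_toResidueFieldFiber :
    RingHom.ker (toResidueFieldFiber R S p Q) =
      Q.comap (Algebra.TensorProduct.includeRight : S →ₐ[R] p.Fiber S).toRingHom := by
  ext s
  simp only [toResidueFieldFiber, RingHom.mem_ker, RingHom.comp_apply, Ideal.mem_comap]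
  exact Ideal.algebraMap_residueField_eq_zero

theorem trdeg_residueField_fiber [iA : Algebra p.ResidueField Q.ResidueField]
    [IsScalarTower R p.ResidueField Q.ResidueField] (q : Ideal S) [q.IsPrime] [q.LiesOver p]
    (hq : Q.comap (Algebra.TensorProduct.includeRight : S →ₐ[R] p.Fiber S).toRingHom = q) :
    Algebra.trdeg p.ResidueField Q.ResidueField = Algebra.trdeg (R ⧸ p) (S ⧸ q) := by
  let g := toResidueFieldFiber R S p Q
  have hker : RingHom.ker g = q := (ker_toResidueFieldFiber R S p Q).trans hq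
  let j : S ⧸ q →+* Q.ResidueField := Ideal.Quotient.lift q g (fun s hs => by
    rw [← RingHom.mem_ker, hker]; exact hs)
  have hj : Function.Injective j := by
    apply RingHom.lift_injective_of_ker_le_ideal
    rw [hker]
  letI : Algebra (S ⧸ q) Q.ResidueField := j.toAlgebra
  letI : Algebra (R ⧸ p) Q.ResidueField := (j.comp (algebraMap (R ⧸ p) (S ⧸ q))).toAlgebra
  haveI : IsScalarTower (R ⧸ p) (S ⧸ q) Q.ResidueField := IsScalarTower.of_algebraMap_eq' rfl
  haveI : IsScalarTower (R ⧸ p) p.ResidueField Q.ResidueField := by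
    refine IsScalarTower.of_algebraMap_eq (R := R ⧸ p) (S := p.ResidueField) (A := Q.ResidueField) ?_
    intro a
    obtain ⟨r, rfl⟩ := Ideal.Quotient.mk_surjective a
    change j (algebraMap (R ⧸ p) (S ⧸ q) (Ideal.Quotient.mk p r)) = _
    rw [Ideal.Quotient.algebraMap_mk_of_liesOver]
    change g (algebraMap R S r) = _
    rw [toResidueFieldFiber_algebraMap, Ideal.algebraMap_quotient_residueField_mk,
      ← IsScalarTower.algebraMap_apply R p.ResidueField Q.ResidueField]
  haveI : FaithfulSMul (R ⧸ p) (S ⧸ q) := inferInstance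
  haveI : FaithfulSMul (R ⧸ p) p.ResidueField :=
    (faithfulSMul_iff_algebraMap_injective _ _).mpr (Ideal.injective_algebraMap_quotient_residueField p)
  haveI : FaithfulSMul (S ⧸ q) Q.ResidueField := (faithfulSMul_iff_algebraMap_injective _ _).mpr hj
  haveI : Algebra.IsAlgebraic (R ⧸ p) p.ResidueField :=
    (IsFractionRing.comap_isAlgebraic_iff (A := R ⧸ p) (K := p.ResidueField)
      (C := p.ResidueField)).mpr inferInstance
  haveI : Algebra.IsAlgebraic (S ⧸ q) Q.ResidueField := by
    refine ⟨fun c => ?_⟩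
    obtain ⟨a, b, hb, hab⟩ := exists_toResidueFieldFiber_mul_eq R S p Q c
    refine ⟨Polynomial.C (Ideal.Quotient.mk q b) * Polynomial.X - Polynomial.C (Ideal.Quotient.mk q a),
      ?_, ?_⟩
    · intro h
      have := congrArg (fun P => Polynomial.coeff P 1) h
      simp only [Polynomial.coeff_sub, Polynomial.coeff_C_mul, Polynomial.coeff_X_one, mul_one,
        Polynomial.coeff_C_succ, sub_zero, Polynomial.coeff_zero] at this
      apply hb
      change j (Ideal.Quotient.mk q b) ≠ 0 at hb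
      exact absurd (by rw [this, map_zero]) hb
    · simp only [map_sub, map_mul, Polynomial.aeval_C, Polynomial.aeval_X]
      change j (Ideal.Quotient.mk q b) * c - j (Ideal.Quotient.mk q a) = 0
      change g b * c - g a = 0
      rw [mul_comm, hab, sub_self]
  exact trdeg_eq_of_square (R ⧸ p) (S ⧸ q) p.ResidueField Q.ResidueField

end

open Groth.Agent.H24 Groth.Agent.H11.FtDim

theorem trdeg_eq_of_ringEquiv_square {A B A' B' : Type u} [CommRing A] [CommRing B] [CommRing A']
    [CommRing B'] [Algebra A B] [Algebra A' B'] [IsDomain B] [FaithfulSMul A B] [Nontrivial A']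
    (α : A' ≃+* A) (β : B' ≃+* B)
    (h : ∀ a, β (algebraMap A' B' a) = algebraMap A B (α a)) :
    Algebra.trdeg A' B' = Algebra.trdeg A B := by
  letI : Algebra A' A := α.toRingHom.toAlgebra
  letI : Algebra A' B := ((algebraMap A B).comp α.toRingHom).toAlgebra
  haveI : IsScalarTower A' A B := IsScalarTower.of_algebraMap_eq' rfl
  let β' : B' ≃ₐ[A'] B := { β with commutes' := fun a => h a }
  rw [β'.trdeg_eq]
  haveI : FaithfulSMul A' A := (faithfulSMul_iff_algebraMap_injective _ _).mpr α.injective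
  haveI : Algebra.IsIntegral A' A := Algebra.isIntegral_of_surjective α.surjective
  haveI : Algebra.IsAlgebraic A' A := inferInstance
  exact trdeg_eq_of_isAlgebraic_bot A' A B

/-- heights do not change modulo an ideal contained in the nilradical -/
theorem height_le_height_map_mk_of_le_nilradical {A : Type u} [CommRing A] (I : Ideal A)
    (hI : I ≤ nilradical A) (q : Ideal A) [q.IsPrime] (hIq : I ≤ q)
    [(q.map (Ideal.Quotient.mk I)).IsPrime] :
    q.height ≤ (q.map (Ideal.Quotient.mk I)).height := by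
  let P : PrimeSpectrum A := ⟨q, inferInstance⟩
  change P.asIdeal.height ≤ (mapMk I P hIq).asIdeal.height
  rw [PrimeSpectrum.height_eq_orderHeight, PrimeSpectrum.height_eq_orderHeight]
  rw [Order.height_le_iff']
  intro c hc
  have hIc : I ≤ c.head.asIdeal := hI.trans (nilradical_le_prime _)
  have := length_le_height_mapMk I c hIc
  convert this using 3
  exact hc.symm

theorem height_map_mk_le {A : Type u} [CommRing A] (I : Ideal A) (q : Ideal A) [q.IsPrime]
    (hIq : I ≤ q) [(q.map (Ideal.Quotient.mk I)).IsPrime] :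
    (q.map (Ideal.Quotient.mk I)).height ≤ q.height := by
  let P : PrimeSpectrum A := ⟨q, inferInstance⟩
  change (mapMk I P hIq).asIdeal.height ≤ P.asIdeal.height
  rw [PrimeSpectrum.height_eq_orderHeight, PrimeSpectrum.height_eq_orderHeight]
  exact height_mapMk_le I P hIq

/-- The dimension inequality for a finite type algebra over a Noetherian ring, both with
irreducible spectrum. -/
theorem height_add_trdeg_le (R S : Type u) [CommRing R] [IsNoetherianRing R] [CommRing S]
    [Algebra R S] [Algebra.FiniteType R S] (P₀ : Ideal R) [P₀.IsPrime] (Q₀ : Ideal S) [Q₀.IsPrime]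
    [Q₀.LiesOver P₀] (hQ₀ : Q₀ ≤ nilradical S)
    (p : Ideal R) [p.IsPrime] (q : Ideal S) [q.IsPrime] [q.LiesOver p] :
    (q.height : Cardinal.{u}) + Algebra.trdeg (R ⧸ p) (S ⧸ q) ≤
      (p.height : Cardinal.{u}) + Algebra.trdeg (R ⧸ P₀) (S ⧸ Q₀) := by
  have hQq : Q₀ ≤ q := hQ₀.trans (nilradical_le_prime q)
  have hPp : P₀ ≤ p := by
    rw [Ideal.over_def Q₀ P₀, Ideal.over_def q p]
    exact Ideal.comap_mono hQq
  set p' : Ideal (R ⧸ P₀) := p.map (Ideal.Quotient.mk P₀) with hp'
  set q' : Ideal (S ⧸ Q₀) := q.map (Ideal.Quotient.mk Q₀) with hq'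
  haveI : p'.IsPrime := map_mk_isPrime_of_le hPp
  haveI : q'.IsPrime := map_mk_isPrime_of_le hQq
  haveI : q'.LiesOver p' := by
    constructor
    ext a
    obtain ⟨r, rfl⟩ := Ideal.Quotient.mk_surjective a
    rw [Ideal.under_def, Ideal.mem_comap, Ideal.Quotient.algebraMap_mk_of_liesOver, hp', hq',
      Ideal.mem_quotient_iff_mem hPp, Ideal.mem_quotient_iff_mem hQq, Ideal.over_def q p,
      Ideal.under_def, Ideal.mem_comap]
  haveI : Algebra.FiniteType (R ⧸ P₀) (S ⧸ Q₀) := by
    haveI : Algebra.FiniteType R (S ⧸ Q₀) :=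
      Algebra.FiniteType.of_surjective (Ideal.Quotient.mkₐ R Q₀) (Ideal.Quotient.mkₐ_surjective R Q₀)
    exact Algebra.FiniteType.of_restrictScalars_finiteType R (R ⧸ P₀) (S ⧸ Q₀)
  have key := Groth.Agent.H29.DimFormula.dimension_formula_le (R ⧸ P₀) (S ⧸ Q₀) p' q'
  have h1 : q.height ≤ q'.height := height_le_height_map_mk_of_le_nilradical Q₀ hQ₀ q hQq
  have h2 : p'.height ≤ p.height := height_map_mk_le P₀ p hPp
  have h3 : Algebra.trdeg ((R ⧸ P₀) ⧸ p') ((S ⧸ Q₀) ⧸ q') = Algebra.trdeg (R ⧸ p) (S ⧸ q) := by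
    refine trdeg_eq_of_ringEquiv_square (DoubleQuot.quotQuotEquivQuotOfLE hPp)
      (DoubleQuot.quotQuotEquivQuotOfLE hQq) ?_
    intro a
    obtain ⟨a', rfl⟩ := Ideal.Quotient.mk_surjective a
    obtain ⟨r, rfl⟩ := Ideal.Quotient.mk_surjective a'
    rw [Ideal.Quotient.algebraMap_mk_of_liesOver, Ideal.Quotient.algebraMap_mk_of_liesOver]
    change (DoubleQuot.quotQuotEquivQuotOfLE hQq) (DoubleQuot.quotQuotMk Q₀ q (algebraMap R S r)) =
      algebraMap (R ⧸ p) (S ⧸ q) ((DoubleQuot.quotQuotEquivQuotOfLE hPp) (DoubleQuot.quotQuotMk P₀ p r))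
    rw [DoubleQuot.quotQuotEquivQuotOfLE_quotQuotMk, DoubleQuot.quotQuotEquivQuotOfLE_quotQuotMk,
      Ideal.Quotient.algebraMap_mk_of_liesOver]
  rw [h3] at key
  calc (q.height : Cardinal.{u}) + Algebra.trdeg (R ⧸ p) (S ⧸ q)
      ≤ (q'.height : Cardinal.{u}) + Algebra.trdeg (R ⧸ p) (S ⧸ q) := by
        gcongr
    _ ≤ (p'.height : Cardinal.{u}) + Algebra.trdeg (R ⧸ P₀) (S ⧸ Q₀) := key
    _ ≤ (p.height : Cardinal.{u}) + Algebra.trdeg (R ⧸ P₀) (S ⧸ Q₀) := by
        gcongr

theorem finiteType_quotient_of_liesOver (R S : Type u) [CommRing R] [CommRing S] [Algebra R S]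
    [Algebra.FiniteType R S] (p : Ideal R) (q : Ideal S) [q.LiesOver p] :
    Algebra.FiniteType (R ⧸ p) (S ⧸ q) := by
  haveI : Algebra.FiniteType R (S ⧸ q) :=
    Algebra.FiniteType.of_surjective (Ideal.Quotient.mkₐ R q) (Ideal.Quotient.mkₐ_surjective R q)
  exact Algebra.FiniteType.of_restrictScalars_finiteType R (R ⧸ p) (S ⧸ q)

/-- the local dimension of the fibre at a point, in terms of the height in the fibre and the
residual transcendence degree -/
theorem localDim_fiber_eq (R S : Type u) [CommRing R] [CommRing S] [Algebra R S]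
    [Algebra.FiniteType R S] (p : Ideal R) [p.IsPrime] (q : Ideal S) [q.IsPrime] [q.LiesOver p]
    (Q : PrimeSpectrum (p.Fiber S))
    (hQ : Q.asIdeal.comap (Algebra.TensorProduct.includeRight : S →ₐ[R] p.Fiber S).toRingHom = q) :
    ∃ r : ℕ, Algebra.trdeg (R ⧸ p) (S ⧸ q) = r ∧
      FlatMor.localDim (PrimeSpectrum (p.Fiber S)) Q = (Q.asIdeal.height : WithBot ℕ∞) + r := by
  haveI := finiteType_quotient_of_liesOver R S p q
  have hlt : Algebra.trdeg (R ⧸ p) (S ⧸ q) < Cardinal.aleph0 :=
    trdeg_lt_aleph0_of_finiteType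
  obtain ⟨r, hr⟩ := Cardinal.lt_aleph0.mp hlt
  refine ⟨r, hr, ?_⟩
  have := localDim_eq_dim_add_trdeg (k := p.ResidueField) (S := p.Fiber S) Q.asIdeal r
    ((trdeg_residueField_fiber R S p Q.asIdeal (iA := IsLocalRing.ResidueField.algebra _) q hQ).trans hr)
  rw [IsLocalization.AtPrime.ringKrullDim_eq_height Q.asIdeal (Localization.AtPrime Q.asIdeal)]
    at this
  exact this

/-- **Dimension inequality, fibre form.** -/
theorem height_add_localDim_fiber_le (R S : Type u) [CommRing R] [IsNoetherianRing R] [CommRing S]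
    [Algebra R S] [Algebra.FiniteType R S] (P₀ : Ideal R) [P₀.IsPrime] (Q₀ : Ideal S) [Q₀.IsPrime]
    [Q₀.LiesOver P₀] (hQ₀ : Q₀ ≤ nilradical S)
    (p : Ideal R) [p.IsPrime] (q : Ideal S) [q.IsPrime] [q.LiesOver p]
    (Q : PrimeSpectrum (p.Fiber S))
    (hQ : Q.asIdeal.comap (Algebra.TensorProduct.includeRight : S →ₐ[R] p.Fiber S).toRingHom = q)
    (Q' : PrimeSpectrum (P₀.Fiber S))
    (hQ' : Q'.asIdeal.comap
      (Algebra.TensorProduct.includeRight : S →ₐ[R] P₀.Fiber S).toRingHom = Q₀) :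
    (q.height : WithBot ℕ∞) + FlatMor.localDim (PrimeSpectrum (p.Fiber S)) Q ≤
      (p.height : WithBot ℕ∞) + (Q.asIdeal.height : WithBot ℕ∞) +
        FlatMor.localDim (PrimeSpectrum (P₀.Fiber S)) Q' := by
  obtain ⟨r, hr, hl⟩ := localDim_fiber_eq R S p q Q hQ
  obtain ⟨r₀, hr₀, hl₀⟩ := localDim_fiber_eq R S P₀ Q₀ Q' hQ'
  have key := height_add_trdeg_le R S P₀ Q₀ hQ₀ p q
  rw [hr, hr₀] at key
  have key' : q.height + (r : ℕ∞) ≤ p.height + (r₀ : ℕ∞) := by
    have : ((q.height + (r : ℕ∞) : ℕ∞) : Cardinal.{u}) ≤ ((p.height + (r₀ : ℕ∞) : ℕ∞) : Cardinal.{u}) := by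
      simpa using key
    exact_mod_cast this
  rw [hl, hl₀]
  have h3 : ((q.height + (r : ℕ∞) : ℕ∞) : WithBot ℕ∞) ≤ ((p.height + (r₀ : ℕ∞) : ℕ∞) : WithBot ℕ∞) :=
    WithBot.coe_le_coe.mpr key'
  push_cast at h3
  calc (q.height : WithBot ℕ∞) + ((Q.asIdeal.height : WithBot ℕ∞) + (r : WithBot ℕ∞))
      = ((q.height : WithBot ℕ∞) + (r : WithBot ℕ∞)) + (Q.asIdeal.height : WithBot ℕ∞) := by ring
    _ ≤ ((p.height : WithBot ℕ∞) + (r₀ : WithBot ℕ∞)) + (Q.asIdeal.height : WithBot ℕ∞) := by
        gcongr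
    _ ≤ (p.height : WithBot ℕ∞) + (Q.asIdeal.height : WithBot ℕ∞) +
        ((Q'.asIdeal.height : WithBot ℕ∞) + (r₀ : WithBot ℕ∞)) := by
        have h0 : (0 : WithBot ℕ∞) ≤ (Q'.asIdeal.height : WithBot ℕ∞) := by
          exact_mod_cast bot_le
        calc ((p.height : WithBot ℕ∞) + (r₀ : WithBot ℕ∞)) + (Q.asIdeal.height : WithBot ℕ∞)
            = (p.height : WithBot ℕ∞) + (Q.asIdeal.height : WithBot ℕ∞) + (0 + (r₀ : WithBot ℕ∞)) := by
              ring
          _ ≤ _ := by gcongr

end Groth.Agent.H17.DimIneq
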