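import Mathlib.RingTheory.KrullDimension.Module
import Mathlib.RingTheory.FiniteLength
import Mathlib.RingTheory.HopkinsLevitzki
import Mathlib.RingTheory.Ideal.KrullsHeightTheorem
import Mathlib.RingTheory.Jacobson.Radical
import Mathlib.RingTheory.Spectrum.Maximal.Basic
import Mathlib.RingTheory.Artinian.Module
import Mathlib.RingTheory.Support
import Mathlib.RingTheory.Ideal.MinimalPrime.Noetherian

set_option autoImplicit false

namespace Groth.Agent.H17

universe u

variable {A : Type u} [CommRing A] [IsNoetherianRing A]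

/-- a finitely generated module over a Noetherian ring has finite length iff its support has
dimension `≤ 0` -/
theorem isFiniteLength_iff_supportDim_le_zero (N : Type u) [AddCommGroup N] [Module A N]
    [Module.Finite A N] : IsFiniteLength A N ↔ Module.supportDim A N ≤ 0 := by
  rw [Module.supportDim_eq_ringKrullDim_quotient_annihilator]
  set B := A ⧸ Module.annihilator A N with hB
  letI : Module B N := Module.quotientAnnihilator
  haveI : IsScalarTower A B N :=
    (Module.isTorsionBySet_annihilator A N).isScalarTower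
  have hcast : ringKrullDim B ≤ 0 ↔ Ring.KrullDimLE 0 B := by
    rw [Ring.krullDimLE_iff]; simp
  rw [hcast, ← isArtinianRing_iff_krullDimLE_zero]
  constructor
  · intro h
    have hArt : IsArtinian A N := (isFiniteLength_iff_isNoetherian_isArtinian.mp h).2
    -- `B` embeds into a power of `N`
    obtain ⟨s, hs⟩ := (Module.Finite.fg_top : (⊤ : Submodule A N).FG)
    let g : A →ₗ[A] (s → N) := LinearMap.pi fun i => LinearMap.toSpanSingleton A N i.1
    have hker : LinearMap.ker g = (Module.annihilator A N).restrictScalars A := by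
      ext a
      simp only [LinearMap.mem_ker, Submodule.restrictScalars_mem, Module.mem_annihilator]
      constructor
      · intro ha n
        have hn : n ∈ Submodule.span A (s : Set N) := by rw [hs]; trivial
        induction hn using Submodule.span_induction with
        | mem n hn =>
          have := congrFun ha ⟨n, hn⟩
          simpa [g] using this
        | zero => simp
        | add n n' _ _ h1 h2 => rw [smul_add, h1, h2, add_zero]
        | smul c n _ h1 => rw [smul_comm, h1, smul_zero]
      · intro ha
        ext i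
        simp [g, ha]
    let g' : B →ₗ[A] (s → N) := Submodule.liftQ _ g (le_of_eq hker.symm)
    have hg' : Function.Injective g' := by
      rw [← LinearMap.ker_eq_bot]
      apply Submodule.ker_liftQ_eq_bot'
      exact hker.symm
    haveI : IsArtinian A (s → N) := inferInstance
    have : IsArtinian A B := isArtinian_of_injective g' hg'
    exact isArtinian_of_tower A this
  · intro h
    haveI : IsArtinianRing B := h
    haveI : Module.Finite B N := Module.Finite.of_restrictScalars_finite A B N
    have hArtB : IsArtinian B N := isArtinian_of_fg_of_artinian' 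
    have hArt : IsArtinian A N :=
      isArtinian_of_surjective_algebraMap (S := A) (R := B) Ideal.Quotient.mk_surjective
    exact isFiniteLength_iff_isNoetherian_isArtinian.mpr ⟨inferInstance, hArt⟩

end Groth.Agent.H17

namespace Groth.Agent.H17

universe u

variable {A : Type u} [CommRing A] [IsNoetherianRing A]

theorem supportDim_quotient_smul_top (M : Type u) [AddCommGroup M] [Module A M] [Module.Finite A M]
    (I : Ideal A) :
    Module.supportDim A (M ⧸ (I • ⊤ : Submodule A M)) =
      ringKrullDim (A ⧸ (Module.annihilator A M ⊔ I)) := by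
  rw [Module.supportDim, Module.support_quotient, Module.support_eq_zeroLocus,
    ← PrimeSpectrum.zeroLocus_sup, ringKrullDim_quotient]

theorem mk_mem_jacobson_of_mem {J : Ideal A} {x : A} (hx : x ∈ Ring.jacobson A) :
    Ideal.Quotient.mk J x ∈ Ring.jacobson (A ⧸ J) := by
  rw [Ring.jacobson_eq_sInf_isMaximal, Ideal.mem_sInf] at hx ⊢
  intro m hm
  have hm' : (m.comap (Ideal.Quotient.mk J)).IsMaximal :=
    Ideal.comap_isMaximal_of_surjective _ Ideal.Quotient.mk_surjective (H := hm)
  exact hx hm'

/-- the easy inequality `dim M ≤ s(M)` -/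
theorem supportDim_le_of_isFiniteLength_quotient (M : Type u) [AddCommGroup M] [Module A M]
    [Module.Finite A M] {n : ℕ} (x : Fin n → A) (hx : ∀ i, x i ∈ Ring.jacobson A)
    (hfl : IsFiniteLength A (M ⧸ (Ideal.span (Set.range x) • ⊤ : Submodule A M))) :
    Module.supportDim A M ≤ (n : WithBot ℕ∞) := by
  classical
  set I := Ideal.span (Set.range x) with hI
  set J := Module.annihilator A M with hJ
  rw [Module.supportDim_eq_ringKrullDim_quotient_annihilator]
  let mk := Ideal.Quotient.mk J
  let s : Finset (A ⧸ J) := Finset.univ.image fun i => mk (x i)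
  have hs : (s : Set (A ⧸ J)) ⊆ Ring.jacobson (A ⧸ J) := by
    intro y hy
    simp only [s, Finset.coe_image, Finset.coe_univ, Set.image_univ, Set.mem_range] at hy
    obtain ⟨i, rfl⟩ := hy
    exact mk_mem_jacobson_of_mem (hx i)
  have hspan : Ideal.span (s : Set (A ⧸ J)) = I.map mk := by
    rw [hI, Ideal.map_span]
    congr 1
    ext y
    simp [s]
  have h1 := ringKrullDim_le_ringKrullDim_quotient_add_card s hs
  have h2 : ringKrullDim ((A ⧸ J) ⧸ Ideal.span (s : Set (A ⧸ J))) ≤ 0 := by
    rw [hspan, ringKrullDim_eq_of_ringEquiv (DoubleQuot.quotQuotEquivQuotSup J I),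
      ← supportDim_quotient_smul_top, ← isFiniteLength_iff_supportDim_le_zero]
    exact hfl
  have h3 : s.card ≤ n := by
    calc s.card ≤ (Finset.univ : Finset (Fin n)).card := Finset.card_image_le
      _ = n := by simp
  calc ringKrullDim (A ⧸ J) ≤ ringKrullDim ((A ⧸ J) ⧸ Ideal.span (s : Set (A ⧸ J))) + s.card := h1
    _ ≤ 0 + (n : WithBot ℕ∞) := by
      gcongr
    _ = n := zero_add _

end Groth.Agent.H17

namespace Groth.Agent.H17

universe u

variable {A : Type u} [CommRing A] [IsNoetherianRing A]

/-- prime avoidance in a semi-local ring: an element of the Jacobson radical outside all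
non-maximal minimal primes over `J` -/
theorem exists_mem_jacobson_notMem_minimalPrimes [Finite (MaximalSpectrum A)] (J : Ideal A) :
    ∃ x ∈ Ring.jacobson A, ∀ P ∈ J.minimalPrimes, ¬ P.IsMaximal → x ∉ P := by
  classical
  have hfin : J.minimalPrimes.Finite := Ideal.finite_minimalPrimes_of_isNoetherianRing A J
  let T : Finset (Ideal A) := hfin.toFinset.filter fun P => ¬ P.IsMaximal
  haveI : Fintype (MaximalSpectrum A) := Fintype.ofFinite _
  have hjac : (Finset.univ : Finset (MaximalSpectrum A)).inf (fun m => m.asIdeal) ≤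
      Ring.jacobson A := by
    rw [Ring.jacobson_eq_sInf_isMaximal]
    apply le_sInf
    intro I hI
    exact Finset.inf_le (f := fun m : MaximalSpectrum A => m.asIdeal)
      (Finset.mem_univ (⟨I, hI⟩ : MaximalSpectrum A))
  have havoid : ¬ ((Ring.jacobson A : Set A) ⊆ ⋃ P ∈ (T : Set (Ideal A)), (P : Set A)) := by
    intro hsub
    rw [Ideal.subset_union_prime (f := fun P : Ideal A => P) ⊥ ⊥
      (fun P hP _ _ => ((Set.Finite.mem_toFinset hfin).mp (Finset.mem_filter.mp hP).1).1.1)] at hsub
    obtain ⟨P, hP, hle⟩ := hsub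
    have hPprime : P.IsPrime := ((Set.Finite.mem_toFinset hfin).mp (Finset.mem_filter.mp hP).1).1.1
    have hPnm : ¬ P.IsMaximal := (Finset.mem_filter.mp hP).2
    obtain ⟨m, -, hm⟩ := (Ideal.IsPrime.inf_le' hPprime).mp (hjac.trans hle)
    exact hPnm (by rw [← m.isMaximal.eq_of_le hPprime.ne_top hm]; exact m.isMaximal)
  rw [Set.not_subset] at havoid
  obtain ⟨x, hx, hxT⟩ := havoid
  refine ⟨x, hx, fun P hP hPm hxP => hxT ?_⟩
  simp only [Set.mem_iUnion, SetLike.mem_coe, exists_prop]
  exact ⟨P, Finset.mem_filter.mpr ⟨(Set.Finite.mem_toFinset hfin).mpr hP, hPm⟩, hxP⟩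

/-- the dimension drops after dividing by such an element -/
theorem supportDim_quotient_le (M : Type u) [AddCommGroup M] [Module A M] [Module.Finite A M]
    {x : A} (hx : ∀ P ∈ (Module.annihilator A M).minimalPrimes, ¬ P.IsMaximal → x ∉ P) {d : ℕ}
    (hd : Module.supportDim A M ≤ ((d + 1 : ℕ) : WithBot ℕ∞)) :
    Module.supportDim A (M ⧸ (Ideal.span {x} • ⊤ : Submodule A M)) ≤ (d : WithBot ℕ∞) := by
  unfold Module.supportDim at hd ⊢
  rw [Order.krullDim, iSup_le_iff]
  intro p
  have hsub : Module.support A (M ⧸ (Ideal.span {x} • ⊤ : Submodule A M)) ⊆ Module.support A M :=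
    Module.support_subset_of_surjective _ (Submodule.mkQ_surjective _)
  -- the head of the chain
  have hmem : ∀ q : PrimeSpectrum A, q ∈ Module.support A (M ⧸ (Ideal.span {x} • ⊤ : Submodule A M)) →
      q ∈ PrimeSpectrum.zeroLocus (Module.annihilator A M) ∩
        PrimeSpectrum.zeroLocus (Ideal.span {x}) := by
    intro q hq
    rw [Module.support_quotient, Module.support_eq_zeroLocus] at hq
    exact hq
  have hhead := hmem _ (p.head).2
  obtain ⟨hq1, hq2⟩ := hhead
  have hJq : Module.annihilator A M ≤ (p.head).1.asIdeal := hq1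
  have hxq : x ∈ (p.head).1.asIdeal := by
    have : (Ideal.span {x} : Set A) ⊆ (p.head).1.asIdeal := hq2
    exact this (Ideal.subset_span rfl)
  obtain ⟨P, hP, hPq⟩ := Ideal.exists_minimalPrimes_le hJq
  haveI := hP.1.1
  by_cases hPm : P.IsMaximal
  · -- the head is maximal, so the chain has length zero
    have hqP : (p.head).1.asIdeal = P := (hPm.eq_of_le (p.head).1.isPrime.ne_top hPq).symm
    have hlen : p.length = 0 := by
      by_contra hne
      have hpos : 0 < p.length := Nat.pos_of_ne_zero hne
      have hlt : p 0 < p 1 := p.strictMono (by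
        rw [Fin.lt_def]; simp [Nat.one_mod_eq_one.mpr (by omega : p.length + 1 ≠ 1)]
        )
      have hlt' : (p 0).1.asIdeal < (p 1).1.asIdeal := hlt
      have h0 : (p 0).1.asIdeal = P := hqP
      rw [h0] at hlt'
      exact (p 1).1.isPrime.ne_top (hPm.1.2 _ hlt')
    rw [hlen]
    exact_mod_cast Nat.zero_le d
  · -- prepend `P`
    have hxP : x ∉ P := hx P hP hPm
    let p' : LTSeries (Module.support A M) :=
      p.map (fun q => ⟨q.1, hsub q.2⟩) (fun a b hab => hab)
    have hPsupp : (⟨P, hP.1.1⟩ : PrimeSpectrum A) ∈ Module.support A M := by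
      rw [Module.support_eq_zeroLocus]
      exact hP.1.2
    have hlt : (⟨⟨P, hP.1.1⟩, hPsupp⟩ : Module.support A M) < p'.head := by
      change P < (p.head).1.asIdeal
      exact lt_of_le_of_ne hPq (fun h => hxP (h ▸ hxq))
    let p'' := p'.cons ⟨⟨P, hP.1.1⟩, hPsupp⟩ hlt
    have hlen := (Order.LTSeries.length_le_krullDim p'').trans hd
    have : p''.length = p.length + 1 := by
      simp only [p'', RelSeries.cons_length]
      rfl
    rw [this] at hlen
    exact_mod_cast Nat.le_of_succ_le_succ (by exact_mod_cast hlen)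

end Groth.Agent.H17

namespace Groth.Agent.H17

universe u

variable {A : Type u} [CommRing A] [IsNoetherianRing A]

/-- existence of a system of parameters in the Jacobson radical -/
theorem exists_parameters [Finite (MaximalSpectrum A)] : ∀ (d : ℕ) (M : Type u) [AddCommGroup M]
    [Module A M] [Module.Finite A M], Module.supportDim A M ≤ (d : WithBot ℕ∞) →
    ∃ (n : ℕ) (x : Fin n → A), n ≤ d ∧ (∀ i, x i ∈ Ring.jacobson A) ∧
      IsFiniteLength A (M ⧸ (Ideal.span (Set.range x) • ⊤ : Submodule A M)) := by
  intro d
  induction d with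
  | zero =>
    intro M _ _ _ hd
    refine ⟨0, Fin.elim0, le_rfl, fun i => i.elim0, ?_⟩
    have hfl : IsFiniteLength A M := (isFiniteLength_iff_supportDim_le_zero M).mpr (by simpa using hd)
    exact hfl.of_surjective (f := Submodule.mkQ _) (Submodule.mkQ_surjective _)
  | succ d ih =>
    intro M _ _ _ hd
    obtain ⟨x, hxj, hx⟩ := exists_mem_jacobson_notMem_minimalPrimes (Module.annihilator A M)
    have hd' := supportDim_quotient_le M hx hd
    obtain ⟨n, x', hn, hx'j, hfl⟩ := ih (M ⧸ (Ideal.span {x} • ⊤ : Submodule A M)) hd'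
    refine ⟨n + 1, Fin.cons x x', by omega, ?_, ?_⟩
    · intro i
      refine Fin.cases ?_ (fun j => ?_) i
      · simpa using hxj
      · simpa using hx'j j
    · -- surjection from the iterated quotient
      set I := Ideal.span (Set.range (Fin.cons x x' : Fin (n + 1) → A)) with hI
      set I' := Ideal.span (Set.range x') with hI'
      have hxI : x ∈ I := Ideal.subset_span ⟨0, by simp⟩
      have hI'I : I' ≤ I := by
        rw [hI', Ideal.span_le]
        rintro _ ⟨j, rfl⟩
        exact Ideal.subset_span ⟨j.succ, by simp⟩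
      let f : M →ₗ[A] M ⧸ (I • ⊤ : Submodule A M) := Submodule.mkQ _
      have hf1 : (Ideal.span {x} • ⊤ : Submodule A M) ≤ LinearMap.ker f := by
        rw [Submodule.ker_mkQ]
        exact Submodule.smul_mono_left ((Ideal.span_singleton_le_iff_mem I).mpr hxI)
      let f' : (M ⧸ (Ideal.span {x} • ⊤ : Submodule A M)) →ₗ[A] M ⧸ (I • ⊤ : Submodule A M) :=
        Submodule.liftQ _ f hf1
      have hf2 : (I' • ⊤ : Submodule A (M ⧸ (Ideal.span {x} • ⊤ : Submodule A M))) ≤
          LinearMap.ker f' := by
        rw [Submodule.smul_le]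
        intro a ha m' _
        obtain ⟨m, rfl⟩ := Submodule.mkQ_surjective _ m'
        rw [LinearMap.mem_ker, map_smul]
        change a • f m = 0
        rw [← map_smul]
        change Submodule.mkQ _ (a • m) = 0
        rw [Submodule.mkQ_apply, Submodule.Quotient.mk_eq_zero]
        exact Submodule.smul_mem_smul (hI'I ha) trivial
      let f'' := Submodule.liftQ _ f' hf2
      have hsurj : Function.Surjective f'' := by
        intro y
        obtain ⟨m, rfl⟩ := Submodule.mkQ_surjective _ y
        exact ⟨Submodule.mkQ _ (Submodule.mkQ _ m), rfl⟩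
      exact hfl.of_surjective (f := f'') hsurj

/-- `dim M = s(M)` -/
theorem supportDim_eq_sInf [Finite (MaximalSpectrum A)] (M : Type u) [AddCommGroup M] [Module A M]
    [Module.Finite A M] [Nontrivial M] :
    Module.supportDim A M =
      sInf {k : WithBot ℕ∞ | ∃ (n : ℕ) (x : Fin n → A), k = n ∧ (∀ i, x i ∈ Ring.jacobson A) ∧
        IsFiniteLength A (M ⧸ (Ideal.span (Set.range x) • (⊤ : Submodule A M)))} := by
  apply le_antisymm
  · apply le_sInf
    rintro k ⟨n, x, rfl, hx, hfl⟩
    exact supportDim_le_of_isFiniteLength_quotient M x hx hfl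
  · -- case analysis on the dimension
    rcases h : Module.supportDim A M with _ | _ | d
    · exact absurd h (Module.supportDim_ne_bot_of_nontrivial A M)
    · exact le_top
    · have h' : Module.supportDim A M = ((d : ℕ) : WithBot ℕ∞) := h
      obtain ⟨n, x, hn, hx, hfl⟩ := exists_parameters d M (le_of_eq h')
      have hmem : ((n : ℕ) : WithBot ℕ∞) ∈ {k : WithBot ℕ∞ | ∃ (n : ℕ) (x : Fin n → A), k = n ∧
          (∀ i, x i ∈ Ring.jacobson A) ∧
          IsFiniteLength A (M ⧸ (Ideal.span (Set.range x) • (⊤ : Submodule A M)))} :=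
        ⟨n, x, rfl, hx, hfl⟩
      refine (sInf_le hmem).trans ?_
      change ((n : ℕ) : WithBot ℕ∞) ≤ ((d : ℕ) : WithBot ℕ∞)
      exact_mod_cast hn

end Groth.Agent.H17
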