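import Groth.Agent.H17.DimIneq
import Groth.Agent.H48.DimFun

/-!
# The dimension formula (equality) in fibre form, under a universally catenary hypothesis
-/

set_option autoImplicit false
set_option linter.style.haveILetI false
set_option linter.unusedSectionVars false
universe u
open TensorProduct

namespace Groth.Agent.H17.DimIneq
open Groth.Agent.H24 Groth.Agent.H11.FtDim

/-- The dimension formula for a finite type algebra over a Noetherian ring, both with
irreducible spectrum, at a prime whose local ring is universally catenary. -/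
theorem height_add_trdeg_eq (R S : Type u) [CommRing R] [IsNoetherianRing R] [CommRing S]
    [Algebra R S] [Algebra.FiniteType R S] (P₀ : Ideal R) [P₀.IsPrime] (Q₀ : Ideal S) [Q₀.IsPrime]
    [Q₀.LiesOver P₀] (hP₀ : P₀ ≤ nilradical R) (hQ₀ : Q₀ ≤ nilradical S)
    (p : Ideal R) [p.IsPrime] (q : Ideal S) [q.IsPrime] [q.LiesOver p]
    (O : Type u) [CommRing O] [Algebra R O] [IsLocalization.AtPrime O p]
    (hO : CAlg.IsUniversallyCatenary O) :
    (q.height : Cardinal.{u}) + Algebra.trdeg (R ⧸ p) (S ⧸ q) =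
      (p.height : Cardinal.{u}) + Algebra.trdeg (R ⧸ P₀) (S ⧸ Q₀) := by
  have hQq : Q₀ ≤ q := hQ₀.trans (nilradical_le_prime q)
  have hPp : P₀ ≤ p := hP₀.trans (nilradical_le_prime p)
  set p' : Ideal (R ⧸ P₀) := p.map (Ideal.Quotient.mk P₀) with hp'
  set q' : Ideal (S ⧸ Q₀) := q.map (Ideal.Quotient.mk Q₀) with hq'
  haveI : p'.IsPrime := map_mk_isPrime_of_le hPp
  haveI : q'.IsPrime := map_mk_isPrime_of_le hQq
  haveI : q'.LiesOver p' := by
    constructor
    ext a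
    obtain ⟨r, rfl⟩ := Ideal.Quotient.mk_surjective a
    rw [Ideal.under_def, Ideal.mem_comap, Ideal.Quotient.algebraMap_mk_of_liesOver, hp', hq',
      Ideal.mem_quotient_iff_mem hPp, Ideal.mem_quotient_iff_mem hQq, Ideal.over_def q p,
      Ideal.under_def, Ideal.mem_comap]
  haveI : Algebra.FiniteType (R ⧸ P₀) (S ⧸ Q₀) := finiteType_quotient_of_liesOver R S P₀ Q₀
  have hcat : Groth.Agent.H29.DimFormula.CatHyp (R ⧸ P₀) (S ⧸ Q₀) p' :=
    Groth.Agent.H48.DimFun.catHyp_of_localization p O hO P₀ hPp (S ⧸ Q₀)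
  have key := Groth.Agent.H29.DimFormula.dimension_formula_eq (R ⧸ P₀) (S ⧸ Q₀) p' q' hcat
  have h1 : q'.height = q.height :=
    le_antisymm (height_map_mk_le Q₀ q hQq)
      (height_le_height_map_mk_of_le_nilradical Q₀ hQ₀ q hQq)
  have h2 : p'.height = p.height :=
    le_antisymm (height_map_mk_le P₀ p hPp)
      (height_le_height_map_mk_of_le_nilradical P₀ hP₀ p hPp)
  have h3 : Algebra.trdeg ((R ⧸ P₀) ⧸ p') ((S ⧸ Q₀) ⧸ q') = Algebra.trdeg (R ⧸ p) (S ⧸ q) := by
    refine trdeg_eq_of_ringEquiv_square (DoubleQuot.quotQuotEquivQuotOfLE hPp)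
      (DoubleQuot.quotQuotEquivQuotOfLE hQq) ?_
    intro a
    obtain ⟨a', rfl⟩ := Ideal.Quotient.mk_surjective a
    obtain ⟨r, rfl⟩ := Ideal.Quotient.mk_surjective a'
    rw [Ideal.Quotient.algebraMap_mk_of_liesOver, Ideal.Quotient.algebraMap_mk_of_liesOver]
    change (DoubleQuot.quotQuotEquivQuotOfLE hQq) (DoubleQuot.quotQuotMk Q₀ q (algebraMap R S r)) =
      algebraMap (R ⧸ p) (S ⧸ q) ((DoubleQuot.quotQuotEquivQuotOfLE hPp) (DoubleQuot.quotQuotMk P₀ p r))
    rw [DoubleQuot.quotQuotEquivQuotOfLE_quotQuotMk, DoubleQuot.quotQuotEquivQuotOfLE_quotQuotMk,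
      Ideal.Quotient.algebraMap_mk_of_liesOver]
  rw [h3, h1, h2] at key
  exact key

/-- the point of the fibre ring over a prime contained in the nilradical has height zero -/
theorem height_fiber_eq_zero (R S : Type u) [CommRing R] [CommRing S] [Algebra R S]
    (P₀ : Ideal R) [P₀.IsPrime] (Q₀ : Ideal S) [Q₀.IsPrime] (hQ₀ : Q₀ ≤ nilradical S)
    (Q' : PrimeSpectrum (P₀.Fiber S))
    (hQ' : Q'.asIdeal.comap
      (Algebra.TensorProduct.includeRight : S →ₐ[R] P₀.Fiber S).toRingHom = Q₀) :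
    Q'.asIdeal.height = 0 := by
  rw [PrimeSpectrum.height_eq_orderHeight, Order.height_eq_zero]
  intro Q'' hle
  let e := PrimeSpectrum.preimageOrderIsoFiber R S ⟨P₀, inferInstance⟩
  rw [← e.symm.le_iff_le]
  change (e.symm Q').1.asIdeal ≤ (e.symm Q'').1.asIdeal
  have h1 : (e.symm Q').1.asIdeal = Q₀ := hQ'
  rw [h1]
  exact hQ₀.trans (nilradical_le_prime _)

/-- **Dimension formula, fibre form.** -/
theorem height_add_localDim_fiber_eq (R S : Type u) [CommRing R] [IsNoetherianRing R] [CommRing S]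
    [Algebra R S] [Algebra.FiniteType R S] (P₀ : Ideal R) [P₀.IsPrime] (Q₀ : Ideal S) [Q₀.IsPrime]
    [Q₀.LiesOver P₀] (hP₀ : P₀ ≤ nilradical R) (hQ₀ : Q₀ ≤ nilradical S)
    (p : Ideal R) [p.IsPrime] (q : Ideal S) [q.IsPrime] [q.LiesOver p]
    (O : Type u) [CommRing O] [Algebra R O] [IsLocalization.AtPrime O p]
    (hO : CAlg.IsUniversallyCatenary O)
    (Q : PrimeSpectrum (p.Fiber S))
    (hQ : Q.asIdeal.comap (Algebra.TensorProduct.includeRight : S →ₐ[R] p.Fiber S).toRingHom = q)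
    (Q' : PrimeSpectrum (P₀.Fiber S))
    (hQ' : Q'.asIdeal.comap
      (Algebra.TensorProduct.includeRight : S →ₐ[R] P₀.Fiber S).toRingHom = Q₀) :
    (q.height : WithBot ℕ∞) + FlatMor.localDim (PrimeSpectrum (p.Fiber S)) Q =
      (p.height : WithBot ℕ∞) + (Q.asIdeal.height : WithBot ℕ∞) +
        FlatMor.localDim (PrimeSpectrum (P₀.Fiber S)) Q' := by
  obtain ⟨r, hr, hl⟩ := localDim_fiber_eq R S p q Q hQ
  obtain ⟨r₀, hr₀, hl₀⟩ := localDim_fiber_eq R S P₀ Q₀ Q' hQ'
  have key := height_add_trdeg_eq R S P₀ Q₀ hP₀ hQ₀ p q O hO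
  rw [hr, hr₀] at key
  have key' : q.height + (r : ℕ∞) = p.height + (r₀ : ℕ∞) := by
    have : ((q.height + (r : ℕ∞) : ℕ∞) : Cardinal.{u}) = ((p.height + (r₀ : ℕ∞) : ℕ∞) : Cardinal.{u}) := by
      simpa using key
    exact_mod_cast this
  rw [hl, hl₀, height_fiber_eq_zero R S P₀ Q₀ hQ₀ Q' hQ']
  have h3 : ((q.height + (r : ℕ∞) : ℕ∞) : WithBot ℕ∞) = ((p.height + (r₀ : ℕ∞) : ℕ∞) : WithBot ℕ∞) :=
    congrArg _ key'
  push_cast at h3
  calc (q.height : WithBot ℕ∞) + ((Q.asIdeal.height : WithBot ℕ∞) + (r : WithBot ℕ∞))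
      = ((q.height : WithBot ℕ∞) + (r : WithBot ℕ∞)) + (Q.asIdeal.height : WithBot ℕ∞) := by ring
    _ = ((p.height : WithBot ℕ∞) + (r₀ : WithBot ℕ∞)) + (Q.asIdeal.height : WithBot ℕ∞) := by
        rw [h3]
    _ = _ := by
        simp only [WithBot.coe_zero, zero_add]
        ring

end Groth.Agent.H17.DimIneq
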