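import Groth.Agent.H17.ConsTop
import Mathlib.RingTheory.Spectrum.Prime.ConstructibleSet
import Mathlib.RingTheory.LocalRing.ResidueField.Ideal

set_option autoImplicit false

namespace Groth.Agent.H17

open Topology Set PrimeSpectrum

universe u

/-- the map on prime spectra induced by a ring hom is spectral -/
theorem isSpectralMap_comap {A B : Type*} [CommRing A] [CommRing B] (f : A →+* B) :
    IsSpectralMap (PrimeSpectrum.comap f) := by
  refine ⟨PrimeSpectrum.continuous_comap f, fun U hU hc => ?_⟩
  obtain ⟨s, hs, rfl⟩ := (isCompact_open_iff_eq_finite_iUnion_of_isTopologicalBasis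
    (fun r : A => (basicOpen r : Set (PrimeSpectrum A))) isTopologicalBasis_basic_opens
    (fun r => isCompact_basicOpen r) U).mp ⟨hc, hU⟩
  rw [preimage_iUnion₂]
  refine hs.isCompact_biUnion fun r _ => ?_
  exact isCompact_basicOpen (f r)

/-- range of `comap f` is closed in the constructible topology -/
theorem consClosed_range_comap {A B : Type*} [CommRing A] [CommRing B] (f : A →+* B) :
    ConsClosed (Set.range (PrimeSpectrum.comap f)) := by
  rw [← image_univ]
  refine ConsClosed.image (isSpectralMap_comap f) ?_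
  exact @isClosed_univ _ (constructibleTopology _)

section product

variable {A : Type u} [CommRing A] (E : Set (PrimeSpectrum A))

/-- product of the residue fields of the points of `E` -/
abbrev ProdRes : Type u := ∀ p : E, p.1.asIdeal.ResidueField

/-- the canonical map `A → ∏_{p ∈ E} κ(p)` -/
noncomputable def toProdRes : A →+* ProdRes E :=
  RingHom.pi fun p : E => algebraMap A p.1.asIdeal.ResidueField

@[simp] theorem toProdRes_apply (a : A) (p : E) :
    toProdRes E a p = algebraMap A p.1.asIdeal.ResidueField a := rfl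

theorem subset_range_comap_toProdRes : E ⊆ Set.range (PrimeSpectrum.comap (toProdRes E)) := by
  intro p hp
  let ev : ProdRes E →+* p.asIdeal.ResidueField := Pi.evalRingHom _ (⟨p, hp⟩ : E)
  refine ⟨PrimeSpectrum.comap ev ⊥, ?_⟩
  ext a
  simp only [PrimeSpectrum.comap_asIdeal, Ideal.mem_comap]
  change ev (toProdRes E a) ∈ (⊥ : PrimeSpectrum p.asIdeal.ResidueField).asIdeal ↔ _
  rw [PrimeSpectrum.asIdeal_bot, Ideal.mem_bot]
  exact Ideal.algebraMap_residueField_eq_zero

/-- key lemma: a basic constructible set meeting the range of `Spec (∏ κ(p)) → Spec A` contains a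
point of `E` -/
theorem exists_mem_of_comap_toProdRes_mem (q : PrimeSpectrum (ProdRes E)) (a : A) {n : ℕ}
    (b : Fin n → A) (ha : a ∉ (PrimeSpectrum.comap (toProdRes E) q).asIdeal)
    (hb : ∀ i, b i ∈ (PrimeSpectrum.comap (toProdRes E) q).asIdeal) :
    ∃ p ∈ E, a ∉ p.asIdeal ∧ ∀ i, b i ∈ p.asIdeal := by
  classical
  by_contra hcon
  push Not at hcon
  -- for each p ∈ E: a ∈ p or some b i ∉ p
  simp only [PrimeSpectrum.comap_asIdeal, Ideal.mem_comap] at ha hb
  -- the element `∏ (1 - e_i)` where `e_i = b_i * b_i⁻¹`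
  let u : Fin n → ProdRes E := fun i p => (toProdRes E (b i) p)⁻¹
  have he : ∀ i, toProdRes E (b i) * u i ∈ q.asIdeal := fun i => q.asIdeal.mul_mem_right _ (hb i)
  have h1 : ∀ s : Finset (Fin n), 1 - ∏ i ∈ s, (1 - toProdRes E (b i) * u i) ∈ q.asIdeal := by
    intro s
    induction s using Finset.induction_on with
    | empty => simp
    | insert i s his ih =>
      rw [Finset.prod_insert his]
      have : 1 - (1 - toProdRes E (b i) * u i) * ∏ i ∈ s, (1 - toProdRes E (b i) * u i) =
          (1 - ∏ i ∈ s, (1 - toProdRes E (b i) * u i)) +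
            toProdRes E (b i) * u i * ∏ i ∈ s, (1 - toProdRes E (b i) * u i) := by ring
      rw [this]
      exact q.asIdeal.add_mem ih (q.asIdeal.mul_mem_right _ (he i))
  have h2 : toProdRes E a * ∏ i, (1 - toProdRes E (b i) * u i) = 0 := by
    funext p
    simp only [Pi.mul_apply, Pi.zero_apply, Finset.prod_apply, Pi.sub_apply, Pi.one_apply]
    by_cases hap : a ∈ p.1.asIdeal
    · rw [toProdRes_apply, Ideal.algebraMap_residueField_eq_zero.mpr hap, zero_mul]
    · obtain ⟨i, hi⟩ := hcon p.1 p.2 hap
      have hne : toProdRes E (b i) p ≠ 0 := by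
        rw [toProdRes_apply, Ne, Ideal.algebraMap_residueField_eq_zero]
        exact hi
      rw [Finset.prod_eq_zero (Finset.mem_univ i), mul_zero]
      simp only [u]
      rw [mul_inv_cancel₀ hne, sub_self]
  have h3 : ∏ i, (1 - toProdRes E (b i) * u i) ∈ q.asIdeal := by
    have := q.2.mem_or_mem (show toProdRes E a * ∏ i, (1 - toProdRes E (b i) * u i) ∈ q.asIdeal by
      rw [h2]; exact q.asIdeal.zero_mem)
    exact this.resolve_left ha
  have h4 : (1 : ProdRes E) ∈ q.asIdeal := by
    have := q.asIdeal.add_mem (h1 Finset.univ) h3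
    rwa [sub_add_cancel] at this
  exact q.2.ne_top ((Ideal.eq_top_iff_one _).mpr h4)

/-- the range of `Spec (∏_{p∈E} κ(p)) → Spec A` is contained in every constructible set
containing `E` -/
theorem range_comap_toProdRes_subset {C : Set (PrimeSpectrum A)} (hC : IsConstructible C)
    (hEC : E ⊆ C) : Set.range (PrimeSpectrum.comap (toProdRes E)) ⊆ C := by
  rintro _ ⟨q, rfl⟩
  by_contra hq
  obtain ⟨S, hS⟩ := exists_constructibleSetData_iff.mpr hC.compl
  have hq' : PrimeSpectrum.comap (toProdRes E) q ∈ S.toSet := by rw [hS]; exact hq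
  simp only [ConstructibleSetData.toSet, mem_iUnion, BasicConstructibleSetData.toSet] at hq'
  obtain ⟨D, hDS, hD1, hD2⟩ := hq'
  have ha : D.f ∉ (PrimeSpectrum.comap (toProdRes E) q).asIdeal := by
    intro h
    apply hD2
    rw [mem_zeroLocus]
    intro x hx
    rw [mem_singleton_iff] at hx
    subst hx
    exact h
  have hb : ∀ i, D.g i ∈ (PrimeSpectrum.comap (toProdRes E) q).asIdeal := by
    intro i
    rw [mem_zeroLocus] at hD1
    exact hD1 (mem_range_self i)
  obtain ⟨p, hpE, hpa, hpb⟩ := exists_mem_of_comap_toProdRes_mem E q D.f D.g ha hb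
  have hpS : p ∈ S.toSet := by
    simp only [ConstructibleSetData.toSet, mem_iUnion, BasicConstructibleSetData.toSet]
    refine ⟨D, hDS, ?_, ?_⟩
    · rw [mem_zeroLocus]
      rintro _ ⟨i, rfl⟩
      exact hpb i
    · intro h
      rw [mem_zeroLocus] at h
      exact hpa (h (mem_singleton _))
  rw [hS] at hpS
  exact hpS (hEC hpE)

/-- if `E` is an intersection of constructible sets then `E` is the range of
`Spec (∏_{p∈E} κ(p)) → Spec A` -/
theorem range_comap_toProdRes_eq {S : Set (Set (PrimeSpectrum A))}
    (hS : ∀ s ∈ S, IsConstructible s) (hE : E = ⋂₀ S) :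
    Set.range (PrimeSpectrum.comap (toProdRes E)) = E := by
  refine Subset.antisymm ?_ (subset_range_comap_toProdRes E)
  intro x hx
  rw [hE]
  intro s hs
  exact range_comap_toProdRes_subset E (hS s hs) (by rw [hE]; exact sInter_subset_of_mem hs) hx

end product

end Groth.Agent.H17
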