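import Groth.Agent.H17.ProConsScheme
import Groth.Agent.H17.ConsRange
import Mathlib.AlgebraicGeometry.Limits
import Mathlib.AlgebraicGeometry.Morphisms.QuasiSeparated

set_option autoImplicit false

namespace Groth.Agent.H17

open Topology Set Set.Notation AlgebraicGeometry CategoryTheory

universe u

theorem isProConstructible_univ (X : Scheme.{u}) : ProCons.IsProConstructible (univ : Set X) := by
  apply pro_of_consClosed_restrict (goodBasis_scheme X)
  intro x
  obtain ⟨W, hW, hxW⟩ := (goodBasis_scheme X).exists_mem x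
  refine ⟨W, hW, hxW, ?_⟩
  rw [preimage_univ]
  exact @isClosed_univ _ (constructibleTopology _)

/-- a homeomorphism is a spectral map -/
theorem _root_.Homeomorph.isSpectralMap {α β : Type*} [TopologicalSpace α] [TopologicalSpace β]
    (e : α ≃ₜ β) : IsSpectralMap e :=
  ⟨e.continuous, fun _ _ hc => e.isCompact_preimage.mpr hc⟩

variable {X : Scheme.{u}}

/-- the preimage of a pro-constructible set under `Spec Γ(X,U) → X` is cons-closed -/
theorem consClosed_preimage_fromSpec {E : Set X} (hE : ProCons.IsProConstructible E)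
    {U : X.Opens} (hU : IsAffineOpen U) : ConsClosed (hU.fromSpec.base ⁻¹' E) := by
  have hW : IsAffSet X (Set.range hU.fromSpec.base) := ⟨U, hU, hU.range_fromSpec.symm⟩
  have hcons := consClosed_restrict_of_pro (goodBasis_scheme X) hE hW
  have hemb : IsEmbedding hU.fromSpec.base := hU.fromSpec.isOpenEmbedding.toIsEmbedding
  have := ConsClosed.preimage (hemb.toHomeomorph).isSpectralMap hcons
  exact this

theorem exists_affine_of_isAffineOpen {E : Set X} (hE : ProCons.IsProConstructible E)
    {U : X.Opens} (hU : IsAffineOpen U) :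
    ∃ (Y : Scheme.{u}) (h : Y ⟶ X), IsAffine Y ∧ Set.range h.base = E ∩ U := by
  have hcons := consClosed_preimage_fromSpec hE hU
  obtain ⟨S, hS, hES⟩ := consClosed_iff_exists_sInter.mp hcons
  have hr := range_comap_toProdRes_eq (hU.fromSpec.base ⁻¹' E) hS hES
  refine ⟨Spec (CommRingCat.of (ProdRes (hU.fromSpec.base ⁻¹' E))),
    Spec.map (CommRingCat.ofHom (toProdRes (hU.fromSpec.base ⁻¹' E))) ≫ hU.fromSpec,
    inferInstance, ?_⟩
  have h1 : Set.range (Spec.map (CommRingCat.ofHom (toProdRes (hU.fromSpec.base ⁻¹' E)))).base =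
      hU.fromSpec.base ⁻¹' E := hr
  have h2 : Set.range (Spec.map (CommRingCat.ofHom (toProdRes (hU.fromSpec.base ⁻¹' E))) ≫
      hU.fromSpec).base = hU.fromSpec.base '' (Set.range
        (Spec.map (CommRingCat.ofHom (toProdRes (hU.fromSpec.base ⁻¹' E)))).base) := by
    rw [← Set.range_comp]
    rfl
  rw [h2, h1, Set.image_preimage_eq_inter_range]
  congr 1
  exact hU.range_fromSpec

theorem exists_affine_of_isProConstructible [CompactSpace X] {E : Set X}
    (hE : ProCons.IsProConstructible E) :
    ∃ (X' : Scheme.{u}) (f : X' ⟶ X), IsAffine X' ∧ Set.range f.base = E := by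
  classical
  -- choose an affine open neighbourhood of every point
  have hnb : ∀ x : X, ∃ U : X.Opens, IsAffineOpen U ∧ x ∈ U := by
    intro x
    obtain ⟨W, ⟨U, hU, rfl⟩, hxW⟩ := (goodBasis_scheme X).exists_mem x
    exact ⟨U, hU, hxW⟩
  choose U hU hxU using hnb
  obtain ⟨t, ht⟩ := isCompact_univ.elim_finite_subcover (fun x => (U x : Set X))
    (fun x => (U x).isOpen) (fun x _ => mem_iUnion.mpr ⟨x, hxU x⟩)
  choose Y h hY hr using fun x : X => exists_affine_of_isAffineOpen hE (hU x)
  let g : (↥t) → Scheme.{u} := fun i => Y i.1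
  let F : ∀ i : ↥t, g i ⟶ X := fun i => h i.1
  have : ∀ i, IsAffine (g i) := fun i => hY i.1
  refine ⟨∐ g, Limits.Sigma.desc F, inferInstance, ?_⟩
  apply Subset.antisymm
  · rintro _ ⟨y, rfl⟩
    have hsurj : ∃ (i : ↥t) (z : g i), (Limits.Sigma.ι g i).base z = y :=
      (sigmaOpenCover g).exists_eq y
    obtain ⟨i, z, rfl⟩ := hsurj
    have h3 : (Limits.Sigma.desc F).base ((Limits.Sigma.ι g i).base z) = (F i).base z := by
      have : (Limits.Sigma.ι g i ≫ Limits.Sigma.desc F).base z = (F i).base z := by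
        rw [Limits.Sigma.ι_desc]
      exact this
    rw [h3]
    have : (F i).base z ∈ Set.range (h i.1).base := ⟨z, rfl⟩
    rw [hr] at this
    exact this.1
  · intro x hxE
    have hx : x ∈ ⋃ i ∈ t, (U i : Set X) := ht (mem_univ x)
    simp only [mem_iUnion] at hx
    obtain ⟨i, hit, hxi⟩ := hx
    have : x ∈ Set.range (h i).base := by
      rw [hr]
      exact ⟨hxE, hxi⟩
    obtain ⟨z, rfl⟩ := this
    refine ⟨(Limits.Sigma.ι g ⟨i, hit⟩).base z, ?_⟩
    have : (Limits.Sigma.ι g ⟨i, hit⟩ ≫ Limits.Sigma.desc F).base z = (F ⟨i, hit⟩).base z := by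
      rw [Limits.Sigma.ι_desc]
    exact this

end Groth.Agent.H17
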