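import Groth.Agent.H17.ProConsDense
import Groth.Agent.H17.ProConsAffine

set_option autoImplicit false

namespace Groth.Agent.H17

open Topology Set Set.Notation AlgebraicGeometry CategoryTheory

universe u

section top

variable {X : Type*} [TopologicalSpace X]

/-- every point of a quasi-sober space is a specialization of the generic point of an irreducible
component -/
theorem exists_generic_irreducibleComponent [QuasiSober X] (x : X) :
    ∃ η : X, η ⤳ x ∧ closure {η} ∈ irreducibleComponents X := by
  obtain ⟨η, hη⟩ := QuasiSober.sober (isIrreducible_irreducibleComponent (x := x))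
    isClosed_irreducibleComponent
  refine ⟨η, ?_, ?_⟩
  · rw [specializes_iff_mem_closure, hη.def]
    exact mem_irreducibleComponent
  · rw [hη.def]
    exact irreducibleComponent_mem_irreducibleComponents x

/-- the generic point of an irreducible component is a maximal point -/
theorem eq_of_specializes_of_mem_irreducibleComponents [T0Space X] {y : X}
    (hy : closure {y} ∈ irreducibleComponents X) {z : X} (hz : z ⤳ y) : z = y := by
  have hsub : closure {y} ⊆ closure {z} := hz.closure_subset
  have hle : closure {z} ⊆ closure {y} :=
    hy.2 (isIrreducible_singleton.closure) hsub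
  have : Inseparable z y := by
    rw [inseparable_iff_closure_eq]
    exact Subset.antisymm hle hsub
  exact this.eq

end top

variable {X Y : Scheme.{u}}

theorem isDominant_iff_maximal_points (f : X ⟶ Y) [QuasiCompact f] :
    IsDominant f ↔ ∀ y : Y, closure {y} ∈ irreducibleComponents Y →
      ∃ x : X, closure {x} ∈ irreducibleComponents X ∧ f.base x = y := by
  constructor
  · intro hf y hy
    have hpro : ProCons.IsProConstructible (Set.range f.base) := by
      have := pro_image (goodBasis_scheme X) (goodBasis_scheme Y)
        (fun W hW => by
          obtain ⟨U, hU, rfl⟩ := hW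
          exact QuasiCompact.isCompact_preimage (f := f) _ U.isOpen hU.isCompact)
        f.continuous
        (fun W' W h hW' hW => isSpectralMap_restrict f W' W h hW' hW) (isProConstructible_univ X)
      rwa [Set.image_univ] at this
    have hd : Dense (Set.range f.base) := f.denseRange
    obtain ⟨x₀, hx₀⟩ := mem_of_dense_pro_of_maximal hpro hd y
      (fun z hz => eq_of_specializes_of_mem_irreducibleComponents hy hz)
    obtain ⟨x, hx, hxc⟩ := exists_generic_irreducibleComponent x₀
    refine ⟨x, hxc, ?_⟩
    have : f.base x ⤳ y := by
      rw [← hx₀]
      exact hx.map f.continuous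
    exact eq_of_specializes_of_mem_irreducibleComponents hy this
  · intro h
    refine ⟨?_⟩
    intro y₀
    obtain ⟨y, hy, hyc⟩ := exists_generic_irreducibleComponent y₀
    obtain ⟨x, -, hx⟩ := h y hyc
    exact hy.mem_closed isClosed_closure (subset_closure ⟨x, hx⟩)

end Groth.Agent.H17
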