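import Groth.Agent.H17.AdamsGamma
import Mathlib.LinearAlgebra.Eigenspace.Basic
import Mathlib.LinearAlgebra.TensorProduct.Basic
import Mathlib.Algebra.Order.Interval.Finset.SuccPred

set_option autoImplicit false

namespace Groth.Agent.H17

open LambdaRing Finset TensorProduct

universe u

variable {K : Type u} [CommRing K] [LambdaOps K]

/-- the filtration on `ℚ ⊗ K` induced by the γ-filtration -/
def qFil (P : PosStructure K) (n : ℕ) : Submodule ℚ (ℚ ⊗[ℤ] K) :=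
  Submodule.span ℚ ((fun x : K => (1 : ℚ) ⊗ₜ[ℤ] x) '' (gammaFiltration P n : Set K))

theorem qFil_zero (P : PosStructure K) : qFil P 0 = ⊤ := by
  rw [eq_top_iff]
  intro v hv
  clear hv
  induction v using TensorProduct.induction_on with
  | zero => exact Submodule.zero_mem _
  | tmul q x =>
    have : q ⊗ₜ[ℤ] x = q • ((1 : ℚ) ⊗ₜ[ℤ] x) := by
      rw [TensorProduct.smul_tmul', smul_eq_mul, mul_one]
    rw [this]
    apply Submodule.smul_mem
    apply Submodule.subset_span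
    exact ⟨x, by rw [gammaFiltration_zero]; trivial, rfl⟩
  | add v w hv hw => exact Submodule.add_mem _ hv hw

theorem qFil_antitone (P : PosStructure K) {n n' : ℕ} (h : n ≤ n') : qFil P n' ≤ qFil P n := by
  apply Submodule.span_mono
  apply Set.image_mono
  exact gammaFiltration_antitone P h

theorem qFil_eq_bot (P : PosStructure K) {n : ℕ} (h : gammaFiltration P n = ⊥) : qFil P n = ⊥ := by
  rw [qFil, h, eq_bot_iff, Submodule.span_le]
  rintro _ ⟨x, hx, rfl⟩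
  have : x = 0 := hx
  subst this
  simp

theorem natCast_pow_smul_tmul (j n : ℕ) (x : K) :
    ((j : ℚ) ^ n) • ((1 : ℚ) ⊗ₜ[ℤ] x) = (1 : ℚ) ⊗ₜ[ℤ] ((j : K) ^ n * x) := by
  rw [TensorProduct.smul_tmul', smul_eq_mul, mul_one, ← Nat.cast_pow, ← Nat.cast_pow,
    ← nsmul_eq_mul, show ((j ^ n : ℕ) : ℚ) = (j ^ n) • (1 : ℚ) by simp,
    TensorProduct.smul_tmul]

section

variable (P : PosStructure K) (hK : HasSplitting K P) (j : ℕ) (hj : 2 ≤ j)
  (Ψ : ℚ ⊗[ℤ] K →ₗ[ℚ] ℚ ⊗[ℤ] K)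
  (hΨ : ∀ x : K, Ψ (1 ⊗ₜ[ℤ] x) = 1 ⊗ₜ[ℤ] LambdaRing.adams P j x)

include hK hj hΨ in
theorem sub_smul_mem_qFil (n : ℕ) (v : ℚ ⊗[ℤ] K) (hv : v ∈ qFil P n) :
    Ψ v - ((j : ℚ) ^ n) • v ∈ qFil P (n + 1) := by
  induction hv using Submodule.span_induction with
  | mem v hv =>
    obtain ⟨x, hx, rfl⟩ := hv
    rw [hΨ, natCast_pow_smul_tmul, ← tmul_sub]
    apply Submodule.subset_span
    exact ⟨_, adams_sub_pow_mul_mem P hK j (by omega) n x hx, rfl⟩
  | zero => simp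
  | add v w _ _ hv hw =>
    have : Ψ (v + w) - ((j : ℚ) ^ n) • (v + w) =
        (Ψ v - ((j : ℚ) ^ n) • v) + (Ψ w - ((j : ℚ) ^ n) • w) := by
      rw [map_add, smul_add]; abel
    rw [this]
    exact Submodule.add_mem _ hv hw
  | smul c v _ hv =>
    have : Ψ (c • v) - ((j : ℚ) ^ n) • (c • v) = c • (Ψ v - ((j : ℚ) ^ n) • v) := by
      rw [map_smul, smul_sub, smul_comm]
    rw [this]
    exact Submodule.smul_mem _ _ hv

include hj in
theorem pow_ne_pow_of_ne {m n : ℕ} (hmn : m ≠ n) : ((j : ℚ) ^ m) ≠ (j : ℚ) ^ n := by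
  intro h
  have h1 : j ^ m = j ^ n := by exact_mod_cast h
  exact hmn (Nat.pow_right_injective hj h1)

include hK hj hΨ in
/-- refined eigenspace decomposition of the pieces of the filtration -/
theorem exists_decomp (d : ℕ) (hd : gammaFiltration P (d + 1) = ⊥) :
    ∀ (k n : ℕ), n + k = d + 1 → ∀ v ∈ qFil P n,
      ∃ w : ℕ → ℚ ⊗[ℤ] K, (∀ m, w m ∈ Module.End.eigenspace Ψ ((j : ℚ) ^ m)) ∧
        v = ∑ m ∈ Finset.Icc n d, w m := by
  classical
  intro k
  induction k with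
  | zero =>
    intro n hn v hv
    have hn' : n = d + 1 := by omega
    subst hn'
    rw [qFil_eq_bot P hd] at hv
    refine ⟨fun _ => 0, fun m => Submodule.zero_mem _, ?_⟩
    rw [(Submodule.mem_bot ℚ).mp hv]
    simp
  | succ k ih =>
    intro n hn v hv
    have hnd : n ≤ d := by omega
    obtain ⟨w, hw, hu⟩ := ih (n + 1) (by omega) _ (sub_smul_mem_qFil P hK j hj Ψ hΨ n v hv)
    set c : ℕ → ℚ := fun m => ((j : ℚ) ^ m - (j : ℚ) ^ n)⁻¹ with hc
    set v' := ∑ m ∈ Finset.Icc (n + 1) d, c m • w m with hv'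
    have hΨw : ∀ m, Ψ (w m) = ((j : ℚ) ^ m) • w m := fun m =>
      Module.End.mem_eigenspace_iff.mp (hw m)
    have h1 : Ψ v' - ((j : ℚ) ^ n) • v' = Ψ v - ((j : ℚ) ^ n) • v := by
      rw [hu, hv', map_sum, Finset.smul_sum, ← Finset.sum_sub_distrib]
      apply Finset.sum_congr rfl
      intro m hm
      have hmn : m ≠ n := by
        rw [Finset.mem_Icc] at hm; omega
      have hne : (j : ℚ) ^ m - (j : ℚ) ^ n ≠ 0 := sub_ne_zero.mpr (pow_ne_pow_of_ne j hj hmn)
      rw [map_smul, hΨw m, smul_comm ((j : ℚ) ^ n) (c m), ← smul_sub, ← sub_smul, smul_smul, hc]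
      simp only
      rw [inv_mul_cancel₀ hne, one_smul]
    have h2 : v - v' ∈ Module.End.eigenspace Ψ ((j : ℚ) ^ n) := by
      rw [Module.End.mem_eigenspace_iff, map_sub, smul_sub]
      have := h1
      rw [sub_eq_sub_iff_add_eq_add] at this
      rw [sub_eq_sub_iff_add_eq_add, ← this]
      abel
    refine ⟨fun m => if m = n then v - v' else c m • w m, fun m => ?_, ?_⟩
    · by_cases hm : m = n
      · subst hm; simpa using h2
      · simp only [if_neg hm]
        exact Submodule.smul_mem _ _ (hw m)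
    · rw [← Finset.insert_Icc_add_one_left_eq_Icc hnd, Finset.sum_insert (by simp)]
      simp only [if_true]
      have : ∑ m ∈ Finset.Icc (n + 1) d, (if m = n then v - v' else c m • w m) = v' := by
        rw [hv']
        apply Finset.sum_congr rfl
        intro m hm
        have hmn : m ≠ n := by
          rw [Finset.mem_Icc] at hm; omega
        rw [if_neg hmn]
      rw [this]
      abel

include hK hj hΨ in
theorem iSup_eigenspace_eq_top (d : ℕ) (hd : gammaFiltration P (d + 1) = ⊥) :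
    (⨆ m ∈ Finset.range (d + 1), Module.End.eigenspace Ψ ((j : ℚ) ^ m)) = ⊤ := by
  rw [eq_top_iff]
  intro v _
  obtain ⟨w, hw, rfl⟩ := exists_decomp P hK j hj Ψ hΨ d hd (d + 1) 0 (by omega) v
    (by rw [qFil_zero]; trivial)
  apply Submodule.sum_mem
  intro m hm
  rw [Finset.mem_Icc] at hm
  exact Submodule.mem_iSup_of_mem m
    (Submodule.mem_iSup_of_mem (Finset.mem_range.mpr (by omega)) (hw m))

include hK hj hΨ in
theorem eigenspace_le_qFil (m : ℕ) (v : ℚ ⊗[ℤ] K)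
    (hv : v ∈ Module.End.eigenspace Ψ ((j : ℚ) ^ m)) : ∀ a, a ≤ m → v ∈ qFil P a := by
  intro a
  induction a with
  | zero => intro _; rw [qFil_zero]; trivial
  | succ a ih =>
    intro ha
    have h1 := sub_smul_mem_qFil P hK j hj Ψ hΨ a v (ih (by omega))
    rw [Module.End.mem_eigenspace_iff.mp hv, ← sub_smul] at h1
    have hne : (j : ℚ) ^ m - (j : ℚ) ^ a ≠ 0 :=
      sub_ne_zero.mpr (pow_ne_pow_of_ne j hj (by omega))
    have := Submodule.smul_mem _ ((j : ℚ) ^ m - (j : ℚ) ^ a)⁻¹ h1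
    rwa [smul_smul, inv_mul_cancel₀ hne, one_smul] at this

end

omit [LambdaOps K] in
theorem linearMap_ext_one_tmul {f g : ℚ ⊗[ℤ] K →ₗ[ℚ] ℚ ⊗[ℤ] K}
    (h : ∀ x : K, f (1 ⊗ₜ[ℤ] x) = g (1 ⊗ₜ[ℤ] x)) : f = g := by
  apply LinearMap.ext
  intro v
  induction v using TensorProduct.induction_on with
  | zero => simp
  | tmul q x =>
    have : q ⊗ₜ[ℤ] x = q • ((1 : ℚ) ⊗ₜ[ℤ] x) := by
      rw [TensorProduct.smul_tmul', smul_eq_mul, mul_one]
    rw [this, map_smul, map_smul, h]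
  | add v w hv hw => rw [map_add, map_add, hv, hw]

/-- the eigenspace for `j^m` is contained in the eigenspace of `Ψ_l` for `l^m` -/
theorem eigenspace_le_eigenspace (P : PosStructure K) (hK : HasSplitting K P) (d : ℕ)
    (hd : gammaFiltration P (d + 1) = ⊥) (j l : ℕ) (hj : 2 ≤ j) (hl : 2 ≤ l)
    (Ψj Ψl : ℚ ⊗[ℤ] K →ₗ[ℚ] ℚ ⊗[ℤ] K)
    (hΨj : ∀ x : K, Ψj (1 ⊗ₜ[ℤ] x) = 1 ⊗ₜ[ℤ] LambdaRing.adams P j x)
    (hΨl : ∀ x : K, Ψl (1 ⊗ₜ[ℤ] x) = 1 ⊗ₜ[ℤ] LambdaRing.adams P l x) (m : ℕ) :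
    Module.End.eigenspace Ψj ((j : ℚ) ^ m) ≤ Module.End.eigenspace Ψl ((l : ℚ) ^ m) := by
  intro v hv
  have hcomm : Ψj ∘ₗ Ψl = Ψl ∘ₗ Ψj := by
    apply linearMap_ext_one_tmul
    intro x
    simp only [LinearMap.comp_apply, hΨj, hΨl]
    rw [adams_adams P hK, adams_adams P hK, mul_comm]
  have hvm : v ∈ qFil P m := eigenspace_le_qFil P hK j hj Ψj hΨj m v hv m le_rfl
  set u := Ψl v - ((l : ℚ) ^ m) • v with hu
  have hu1 : u ∈ qFil P (m + 1) := sub_smul_mem_qFil P hK l hl Ψl hΨl m v hvm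
  have hΨv : Ψj v = ((j : ℚ) ^ m) • v := Module.End.mem_eigenspace_iff.mp hv
  have hu2 : u ∈ Module.End.eigenspace Ψj ((j : ℚ) ^ m) := by
    rw [Module.End.mem_eigenspace_iff, hu, map_sub, map_smul, smul_sub]
    have : Ψj (Ψl v) = Ψl (Ψj v) := LinearMap.congr_fun hcomm v
    rw [this, hΨv, map_smul, smul_comm]
  have hu0 : u = 0 := by
    by_cases hmd : d + 1 ≤ m + 1
    · have := qFil_antitone P hmd hu1
      rw [qFil_eq_bot P hd] at this
      exact (Submodule.mem_bot ℚ).mp this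
    · obtain ⟨w, hw, huw⟩ := exists_decomp P hK j hj Ψj hΨj d hd (d + 1 - (m + 1)) (m + 1)
        (by omega) u hu1
      have hindep := Module.End.eigenspaces_iSupIndep Ψj
      have hdisj := hindep ((j : ℚ) ^ m)
      have hmem : u ∈ ⨆ ν, ⨆ (_ : ν ≠ (j : ℚ) ^ m), Module.End.eigenspace Ψj ν := by
        rw [huw]
        apply Submodule.sum_mem
        intro k hk
        rw [Finset.mem_Icc] at hk
        exact Submodule.mem_iSup_of_mem ((j : ℚ) ^ k)
          (Submodule.mem_iSup_of_mem (pow_ne_pow_of_ne j hj (by omega)) (hw k))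
      have := hdisj.le_bot ⟨hu2, hmem⟩
      exact (Submodule.mem_bot ℚ).mp this
  rw [Module.End.mem_eigenspace_iff]
  exact sub_eq_zero.mp (hu ▸ hu0)

end Groth.Agent.H17
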