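import Groth.Prelude.Def_LambdaRing

set_option autoImplicit false

namespace Groth.Agent.H17

open LambdaRing PowerSeries Finset

universe u

variable {K : Type u} [CommRing K] [LambdaOps K]

theorem gamma_one (z : K) : gamma 1 z = z := by
  simp [gamma, Finset.sum_range_succ, LambdaOps.lam_one]

/-- the generating set of the `n`-th step of the γ-filtration -/
def gammaGen (P : PosStructure K) (n : ℕ) : Set K :=
  {y | ∃ (l : List (ℕ × K)), (∀ p ∈ l, P.aug p.2 = 0) ∧ n ≤ (l.map Prod.fst).sum ∧
        y = (l.map fun p => gamma p.1 p.2).prod}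

theorem gammaFiltration_zero (P : PosStructure K) : gammaFiltration P 0 = ⊤ := by
  simp [gammaFiltration]

theorem gammaFiltration_pos (P : PosStructure K) {n : ℕ} (hn : n ≠ 0) :
    gammaFiltration P n = AddSubgroup.closure (gammaGen P n) := by
  simp [gammaFiltration, hn, gammaGen]

theorem gammaGen_mul (P : PosStructure K) {m n : ℕ} {x y : K} (hx : x ∈ gammaGen P m)
    (hy : y ∈ gammaGen P n) : x * y ∈ gammaGen P (m + n) := by
  obtain ⟨l, hl, hls, rfl⟩ := hx
  obtain ⟨l', hl', hls', rfl⟩ := hy
  refine ⟨l ++ l', ?_, ?_, ?_⟩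
  · intro p hp
    rcases List.mem_append.mp hp with h | h
    · exact hl p h
    · exact hl' p h
  · simp only [List.map_append, List.sum_append]; omega
  · simp

theorem aug_sub_aug (P : PosStructure K) (a : K) : P.aug (a - ((P.aug a : ℤ) : K)) = 0 := by
  rw [map_sub, map_intCast]; simp

theorem mul_mem_gammaGen_closure (P : PosStructure K) (n : ℕ) (a : K) {y : K}
    (hy : y ∈ gammaGen P n) : a * y ∈ AddSubgroup.closure (gammaGen P n) := by
  have hsplit : a * y = (a - ((P.aug a : ℤ) : K)) * y + (P.aug a) • y := by
    rw [zsmul_eq_mul]; ring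
  rw [hsplit]
  apply AddSubgroup.add_mem
  · apply AddSubgroup.subset_closure
    have h1 : (a - ((P.aug a : ℤ) : K)) ∈ gammaGen P 1 := by
      refine ⟨[(1, a - ((P.aug a : ℤ) : K))], ?_, ?_, ?_⟩
      · intro p hp
        simp only [List.mem_singleton] at hp
        subst hp
        exact aug_sub_aug P a
      · simp
      · simp [gamma_one]
    obtain ⟨l, hl, hls, hyl⟩ := gammaGen_mul P h1 hy
    exact ⟨l, hl, by omega, hyl⟩
  · exact AddSubgroup.zsmul_mem _ (AddSubgroup.subset_closure hy) _

theorem mul_mem_gammaFiltration_left (P : PosStructure K) (n : ℕ) (a x : K)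
    (hx : x ∈ gammaFiltration P n) : a * x ∈ gammaFiltration P n := by
  by_cases hn : n = 0
  · subst hn; rw [gammaFiltration_zero]; trivial
  · rw [gammaFiltration_pos P hn] at hx ⊢
    induction hx using AddSubgroup.closure_induction with
    | mem y hy => exact mul_mem_gammaGen_closure P n a hy
    | zero => rw [mul_zero]; exact AddSubgroup.zero_mem _
    | add x y _ _ hx hy => rw [mul_add]; exact AddSubgroup.add_mem _ hx hy
    | neg x _ hx => rw [mul_neg]; exact AddSubgroup.neg_mem _ hx

theorem mul_mem_gammaFiltration (P : PosStructure K) (m n : ℕ) (x y : K)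
    (hx : x ∈ gammaFiltration P m) (hy : y ∈ gammaFiltration P n) :
    x * y ∈ gammaFiltration P (m + n) := by
  by_cases hm : m = 0
  · subst hm; rw [zero_add]; exact mul_mem_gammaFiltration_left P n x y hy
  by_cases hn : n = 0
  · subst hn; rw [add_zero, mul_comm]; exact mul_mem_gammaFiltration_left P m y x hx
  have hmn : m + n ≠ 0 := by omega
  rw [gammaFiltration_pos P hm] at hx
  rw [gammaFiltration_pos P hn] at hy
  rw [gammaFiltration_pos P hmn]
  induction hx using AddSubgroup.closure_induction with
  | mem x hx =>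
    induction hy using AddSubgroup.closure_induction with
    | mem y hy => exact AddSubgroup.subset_closure (gammaGen_mul P hx hy)
    | zero => rw [mul_zero]; exact AddSubgroup.zero_mem _
    | add y z _ _ hy hz => rw [mul_add]; exact AddSubgroup.add_mem _ hy hz
    | neg y _ hy => rw [mul_neg]; exact AddSubgroup.neg_mem _ hy
  | zero => rw [zero_mul]; exact AddSubgroup.zero_mem _
  | add x z _ _ hx hz => rw [add_mul]; exact AddSubgroup.add_mem _ hx hz
  | neg x _ hx => rw [neg_mul]; exact AddSubgroup.neg_mem _ hx

end Groth.Agent.H17
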