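import Groth.Agent.H17.LambdaSplit
import Mathlib.RingTheory.PowerSeries.Inverse
import Mathlib.RingTheory.PowerSeries.Basic

set_option autoImplicit false

namespace Groth.Agent.H17

open LambdaRing PowerSeries Finset

universe u

variable {K : Type u} [CommRing K] [LambdaOps K]

theorem lamSeries_zero : lamSeries (0 : K) = 1 := by
  have h1 : lamSeries (0 : K) = lamSeries 0 * lamSeries 0 := by
    conv_lhs => rw [← add_zero (0 : K), lamSeries_add]
  have hu : IsUnit (lamSeries (0 : K)) := by
    rw [PowerSeries.isUnit_iff_constantCoeff, constantCoeff_lamSeries]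
    exact isUnit_one
  have h2 : lamSeries (0 : K) * 1 = lamSeries 0 * lamSeries 0 := by rw [mul_one]; exact h1
  exact (hu.mul_left_cancel h2).symm

theorem lamSeries_multiset_sum (s : Multiset K) : lamSeries s.sum = (s.map lamSeries).prod := by
  induction s using Multiset.induction_on with
  | empty => simp [lamSeries_zero]
  | cons a s ih => simp [lamSeries_add, ih]

theorem map_aug_lamSeries_sum_lines (P : PosStructure K) (s : Multiset K)
    (hs : ∀ u ∈ s, P.IsLine u) :
    (lamSeries s.sum).map P.aug = (1 + X) ^ (Multiset.card s) := by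
  rw [lamSeries_multiset_sum, map_multiset_prod, Multiset.map_map]
  have : s.map (⇑(PowerSeries.map P.aug) ∘ lamSeries) = s.map (fun _ => (1 + X : ℤ⟦X⟧)) := by
    apply Multiset.map_congr rfl
    intro u hu
    simp only [Function.comp_apply]
    rw [lamSeries_of_isLine P u (hs u hu), map_add, map_one, map_mul, map_C, (hs u hu).2, map_X]
    simp
  rw [this, Multiset.map_const', Multiset.prod_replicate]

theorem coeff_one_add_X_pow_int (m i : ℕ) : coeff i ((1 + X : ℤ⟦X⟧) ^ m) = (m.choose i : ℤ) := by
  have : ((1 + X : ℤ⟦X⟧) ^ m) = (((1 + Polynomial.X : Polynomial ℤ) ^ m : Polynomial ℤ) : ℤ⟦X⟧) := by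
    simp
  rw [this, Polynomial.coeff_coe, Polynomial.coeff_one_add_X_pow]

theorem aug_sum_lines (P : PosStructure K) (s : Multiset K) (hs : ∀ u ∈ s, P.IsLine u) :
    P.aug s.sum = Multiset.card s := by
  rw [map_multiset_sum]
  have : s.map P.aug = s.map (fun _ => (1 : ℤ)) := Multiset.map_congr rfl (fun u hu => (hs u hu).2)
  rw [this, Multiset.map_const', Multiset.sum_replicate]
  simp

theorem aug_lam_sum_lines (P : PosStructure K) (s : Multiset K) (hs : ∀ u ∈ s, P.IsLine u) (i : ℕ) :
    P.aug (LambdaOps.lam i s.sum) = ((Multiset.card s).choose i : ℤ) := by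
  rw [← coeff_lamSeries, ← coeff_map, map_aug_lamSeries_sum_lines P s hs, coeff_one_add_X_pow_int]

theorem aug_lam_eq_choose (P : PosStructure K) (hK : HasSplitting K P) (e : K) (he : e ∈ P.pos)
    (i : ℕ) : P.aug (LambdaOps.lam i e) = ((P.aug e).toNat.choose i : ℤ) := by
  obtain ⟨K', _, _, P', f, -, hf, s, hs, hsum⟩ := exists_split_one P hK e he
  have h1 : P.aug e = Multiset.card s := by
    rw [← hf.aug_comp, ← hsum, aug_sum_lines P' s hs]
  rw [h1, Int.toNat_natCast, ← hf.aug_comp, hf.isLambdaHom, ← hsum, aug_lam_sum_lines P' s hs]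

end Groth.Agent.H17
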