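import Groth.Agent.H17.GammaSeries
import Groth.Agent.H17.LambdaAug
import Mathlib.Algebra.Polynomial.Reverse
import Mathlib.RingTheory.PowerSeries.Basic

set_option autoImplicit false

namespace Groth.Agent.H17

open LambdaRing Finset

universe u

variable {K : Type u} [CommRing K] [LambdaOps K]

section poly
open Polynomial

omit [LambdaOps K] in
theorem natDegree_one_sub_X_le : (1 - X : K[X]).natDegree ≤ 1 := by
  refine (natDegree_sub_le _ _).trans ?_
  simp [natDegree_X_le]

omit [LambdaOps K] in
theorem natDegree_one_sub_X_pow_le (n : ℕ) : ((1 - X : K[X]) ^ n).natDegree ≤ n := by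
  refine (natDegree_pow_le).trans ?_
  calc n * (1 - X : K[X]).natDegree ≤ n * 1 := Nat.mul_le_mul_left n natDegree_one_sub_X_le
    _ = n := mul_one n

omit [LambdaOps K] in
theorem reflect_one_sub_X_pow (n : ℕ) :
    reflect n ((1 - X : K[X]) ^ n) = (X - 1) ^ n := by
  have h1 : reflect 1 (1 - X : K[X]) = X - 1 := by
    rw [reflect_sub, reflect_one_X, reflect_one, pow_one]
  induction n with
  | zero => simp [reflect_one]
  | succ n ih =>
    rw [pow_succ, pow_succ, reflect_mul _ _ (natDegree_one_sub_X_pow_le n) natDegree_one_sub_X_le,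
      ih, h1]

omit [LambdaOps K] in
theorem reflect_term (m i : ℕ) (hi : i ≤ m) (a : K) :
    reflect m (C a * X ^ i * (1 - X) ^ (m - i)) = C a * (X - 1) ^ (m - i) := by
  obtain ⟨d, rfl⟩ : ∃ d, m = i + d := ⟨m - i, by omega⟩
  rw [Nat.add_sub_cancel_left,
    reflect_mul _ _ (natDegree_C_mul_X_pow_le a i) (natDegree_one_sub_X_pow_le d),
    reflect_C_mul_X_pow, reflect_one_sub_X_pow]
  simp

omit [LambdaOps K] in
theorem reflect_finset_sum {ι : Type*} (s : Finset ι) (f : ι → K[X]) (N : ℕ) :
    reflect N (∑ i ∈ s, f i) = ∑ i ∈ s, reflect N (f i) := by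
  classical
  induction s using Finset.induction_on with
  | empty => simp
  | insert a s ha ih => rw [Finset.sum_insert ha, Finset.sum_insert ha, reflect_add, ih]

omit [LambdaOps K] in
theorem reflect_eq_sum (m : ℕ) (Q : K[X]) (hQ : Q.natDegree ≤ m) :
    reflect m Q = ∑ i ∈ range (m + 1), C (Q.coeff i) * X ^ (m - i) := by
  conv_lhs => rw [Q.as_sum_range' (m + 1) (by omega)]
  rw [reflect_finset_sum]
  apply Finset.sum_congr rfl
  intro i hi
  rw [← C_mul_X_pow_eq_monomial, reflect_C_mul_X_pow, revAt_le (by simpa [Nat.lt_succ_iff] using hi)]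

end poly

section series
open PowerSeries

theorem gammaSeries_zero : gammaSeries (0 : K) = 1 := by
  rw [gammaSeries_eq_subst, lamSeries_zero, ← coe_substAlgHom (uSer_hasSubst K), map_one]

theorem lamSeries_natCast (P : PosStructure K) (m : ℕ) : lamSeries ((m : K)) = (1 + X) ^ m := by
  induction m with
  | zero => simp [lamSeries_zero]
  | succ m ih =>
    rw [Nat.cast_succ, lamSeries_add, ih, lamSeries_of_isLine P 1 (isLine_one P), pow_succ]
    simp

theorem gammaSeries_natCast (P : PosStructure K) (m : ℕ) :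
    gammaSeries ((m : K)) = (1 + uSer K) ^ m := by
  rw [gammaSeries_eq_subst, lamSeries_natCast P, subst_pow (uSer_hasSubst K),
    subst_add (uSer_hasSubst K), subst_X (uSer_hasSubst K),
    ← coe_substAlgHom (uSer_hasSubst K), map_one]

theorem gammaSeries_neg_natCast (P : PosStructure K) (m : ℕ) :
    gammaSeries (-(m : K)) = (1 - X) ^ m := by
  have h1 : gammaSeries (-(m : K)) * gammaSeries ((m : K)) = 1 := by
    rw [← gammaSeries_add, neg_add_cancel, gammaSeries_zero]
  have h2 : (1 + uSer K) ^ m * (1 - X) ^ m = 1 := by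
    rw [← mul_pow, one_add_uSer_mul, one_pow]
  rw [gammaSeries_natCast P] at h1
  calc gammaSeries (-(m : K)) = gammaSeries (-(m : K)) * ((1 + uSer K) ^ m * (1 - X) ^ m) := by
        rw [h2, mul_one]
    _ = (gammaSeries (-(m : K)) * (1 + uSer K) ^ m) * (1 - X) ^ m := by ring
    _ = (1 - X) ^ m := by rw [h1, one_mul]

theorem lamSeries_eq_sum (P : PosStructure K) (e : K) (he : e ∈ P.pos) (m : ℕ)
    (hm : (m : ℤ) = P.aug e) :
    lamSeries e = ∑ i ∈ range (m + 1), C (LambdaOps.lam i e) * X ^ i := by
  ext n
  rw [coeff_lamSeries, map_sum]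
  simp only [coeff_C_mul, coeff_X_pow]
  by_cases hn : n ≤ m
  · rw [Finset.sum_eq_single n]
    · simp
    · intro b _ hb
      simp [hb.symm]
    · intro h
      exact absurd (Finset.mem_range.mpr (by omega)) h
  · rw [Finset.sum_eq_zero]
    · apply P.lam_eq_zero e he
      rw [← hm]
      exact_mod_cast (by omega : m < n)
    · intro i hi
      have : n ≠ i := by
        have := Finset.mem_range.mp hi
        omega
      simp [this]

theorem gammaSeries_eq_sum (P : PosStructure K) (e : K) (he : e ∈ P.pos) (m : ℕ)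
    (hm : (m : ℤ) = P.aug e) :
    gammaSeries e = ∑ i ∈ range (m + 1), C (LambdaOps.lam i e) * (uSer K) ^ i := by
  rw [gammaSeries_eq_subst, lamSeries_eq_sum P e he m hm, ← coe_substAlgHom (uSer_hasSubst K),
    map_sum]
  apply Finset.sum_congr rfl
  intro i _
  rw [← smul_eq_C_mul, ← smul_eq_C_mul, map_smul, map_pow, substAlgHom_X]

theorem gammaSeries_pos_sub (P : PosStructure K) (e : K) (he : e ∈ P.pos) (m : ℕ)
    (hm : (m : ℤ) = P.aug e) :
    gammaSeries (e - (m : K)) =
      ∑ i ∈ range (m + 1), C (LambdaOps.lam i e) * X ^ i * (1 - X) ^ (m - i) := by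
  rw [sub_eq_add_neg, gammaSeries_add, gammaSeries_neg_natCast P, gammaSeries_eq_sum P e he m hm,
    Finset.sum_mul]
  apply Finset.sum_congr rfl
  intro i hi
  have him : i ≤ m := by
    have := Finset.mem_range.mp hi
    omega
  obtain ⟨d, rfl⟩ : ∃ d, m = i + d := ⟨m - i, by omega⟩
  have hx : (X : PowerSeries K) ^ i = (uSer K) ^ i * (1 - X) ^ i := by
    rw [← mul_pow, uSer_mul_one_sub]
  rw [Nat.add_sub_cancel_left, pow_add, hx]
  ring

end series

section final
open Polynomial

theorem gamma_poly_identity (P : PosStructure K) (e : K) (he : e ∈ P.pos) :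
    (∑ i ∈ range ((P.aug e).toNat + 1),
        Polynomial.C (LambdaRing.gamma i (e - ((P.aug e).toNat : K))) *
          Polynomial.X ^ ((P.aug e).toNat - i)) =
      ∑ i ∈ range ((P.aug e).toNat + 1),
        Polynomial.C (LambdaRing.LambdaOps.lam i e) *
          (Polynomial.X - 1) ^ ((P.aug e).toNat - i) := by
  set m := (P.aug e).toNat with hm
  have hm' : (m : ℤ) = P.aug e := Int.toNat_of_nonneg (P.aug_pos e he).le
  let Q : K[X] := ∑ i ∈ range (m + 1), C (LambdaOps.lam i e) * X ^ i * (1 - X) ^ (m - i)
  have hQ : (Q : PowerSeries K) = gammaSeries (e - (m : K)) := by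
    rw [gammaSeries_pos_sub P e he m hm']
    change Polynomial.coeToPowerSeries.ringHom Q = _
    simp only [Q, map_sum, map_mul, map_pow, map_sub, map_one,
      Polynomial.coeToPowerSeries.ringHom_apply, Polynomial.coe_C, Polynomial.coe_X]
  have hcoeff : ∀ i, gamma i (e - (m : K)) = Q.coeff i := by
    intro i
    rw [← Polynomial.coeff_coe, hQ]
    simp [gammaSeries]
  have hdeg : Q.natDegree ≤ m := by
    apply Polynomial.natDegree_sum_le_of_forall_le
    intro i hi
    have him : i ≤ m := by
      have := Finset.mem_range.mp hi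
      omega
    refine (Polynomial.natDegree_mul_le).trans ?_
    have h1 := natDegree_C_mul_X_pow_le (LambdaOps.lam i e) i
    have h2 := natDegree_one_sub_X_pow_le (K := K) (m - i)
    omega
  calc _ = ∑ i ∈ range (m + 1), C (Q.coeff i) * X ^ (m - i) := by
        apply Finset.sum_congr rfl
        intro i _
        rw [hcoeff]
    _ = reflect m Q := (reflect_eq_sum m Q hdeg).symm
    _ = _ := by
        rw [reflect_finset_sum]
        apply Finset.sum_congr rfl
        intro i hi
        have him : i ≤ m := by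
          have := Finset.mem_range.mp hi
          omega
        exact reflect_term m i him _

end final

end Groth.Agent.H17
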