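import Groth.Agent.H17.SymmWeight
import Groth.Agent.H17.GammaPoly
import Groth.Agent.H17.GammaFilt
import Groth.Agent.H17.LambdaAug

set_option autoImplicit false

namespace Groth.Agent.H17

open LambdaRing PowerSeries Finset

universe u

variable {K : Type u} [CommRing K] [LambdaOps K]

/-! ### small facts -/

theorem map_gamma {K' : Type u} [CommRing K'] [LambdaOps K'] (f : K →+* K') (hf : IsLambdaHom f)
    (k : ℕ) (x : K) : f (gamma k x) = gamma k (f x) := by
  unfold gamma
  split_ifs with h
  · simp
  · rw [map_sum]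
    apply Finset.sum_congr rfl
    intro j _
    rw [map_mul, map_natCast]
    split_ifs
    · simp
    · rw [hf j x]

theorem coeff_gammaSeries (x : K) (n : ℕ) : coeff n (gammaSeries x) = gamma n x := by
  simp [gammaSeries]

theorem gammaSeries_line_sub_one (P : PosStructure K) (u : K) (hu : P.IsLine u) :
    gammaSeries (u - 1) = 1 + C (u - 1) * X := by
  have := gammaSeries_pos_sub P u hu.1 1 (by rw [hu.2]; rfl)
  rw [Nat.cast_one] at this
  rw [this, Finset.sum_range_succ, Finset.sum_range_one, LambdaOps.lam_zero, LambdaOps.lam_one]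
  simp
  ring

theorem gammaSeries_finset_sum {ι : Type*} (s : Finset ι) (a : ι → K) :
    gammaSeries (∑ i ∈ s, a i) = ∏ i ∈ s, gammaSeries (a i) := by
  classical
  induction s using Finset.induction_on with
  | empty => simp [gammaSeries_zero]
  | insert i s hi ih => rw [Finset.sum_insert hi, Finset.prod_insert hi, gammaSeries_add, ih]

omit [LambdaOps K] in
theorem coeff_prod_one_add_C_mul_X {ι : Type*} [DecidableEq ι] (s : Finset ι) (a : ι → K) (k : ℕ) :
    coeff k (∏ i ∈ s, (1 + C (a i) * X : PowerSeries K)) =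
      ∑ t ∈ s.powersetCard k, ∏ i ∈ t, a i := by
  rw [Finset.prod_one_add, map_sum]
  have : ∀ t ∈ s.powerset, coeff k (∏ i ∈ t, (C (a i) * X : PowerSeries K)) =
      if t.card = k then ∏ i ∈ t, a i else 0 := by
    intro t _
    rw [Finset.prod_mul_distrib, Finset.prod_const, ← map_prod, coeff_C_mul, coeff_X_pow]
    split_ifs with h1 h2 h2
    · rw [mul_one]
    · exact absurd h1.symm h2
    · exact absurd h2.symm h1
    · rw [mul_zero]
  rw [Finset.sum_congr rfl this, ← Finset.sum_filter]
  congr 1
  ext t
  simp [Finset.mem_powersetCard]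

theorem gamma_sum_sub_card (P : PosStructure K) (n : ℕ) (u : Fin n → K)
    (hu : ∀ k, P.IsLine (u k)) (i : ℕ) :
    gamma i (∑ k : Fin n, u k - (n : K)) =
      ∑ t ∈ (univ : Finset (Fin n)).powersetCard i, ∏ k ∈ t, (u k - 1) := by
  have e : ∑ k : Fin n, u k - (n : K) = ∑ k : Fin n, (u k - 1) := by
    rw [Finset.sum_sub_distrib]; simp
  rw [e, ← coeff_gammaSeries, gammaSeries_finset_sum,
    Finset.prod_congr rfl (fun k _ => gammaSeries_line_sub_one P (u k) (hu k)),
    coeff_prod_one_add_C_mul_X]

theorem gammaFiltration_antitone (P : PosStructure K) {n n' : ℕ} (h : n ≤ n') :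
    gammaFiltration P n' ≤ gammaFiltration P n := by
  by_cases hn : n = 0
  · subst hn; rw [gammaFiltration_zero]; exact le_top
  have hn' : n' ≠ 0 := by omega
  rw [gammaFiltration_pos P hn, gammaFiltration_pos P hn']
  apply AddSubgroup.closure_mono
  rintro y ⟨l, hl, hls, rfl⟩
  exact ⟨l, hl, by omega, rfl⟩

theorem gamma_mem_gammaFiltration (P : PosStructure K) (r : ℕ) (x : K) (hx : P.aug x = 0) :
    gamma r x ∈ gammaFiltration P r := by
  by_cases hr : r = 0
  · subst hr; rw [gammaFiltration_zero]; trivial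
  rw [gammaFiltration_pos P hr]
  apply AddSubgroup.subset_closure
  refine ⟨[(r, x)], ?_, ?_, ?_⟩
  · intro p hp
    simp only [List.mem_singleton] at hp
    subst hp
    exact hx
  · simp
  · simp

theorem mem_gammaFiltration_one_of_aug (P : PosStructure K) (x : K) (hx : P.aug x = 0) :
    x ∈ gammaFiltration P 1 := by
  have := gamma_mem_gammaFiltration P 1 x hx
  rwa [gamma_one] at this

/-- the Adams operation as a ring homomorphism -/
noncomputable def adamsRingHom (P : PosStructure K) (hK : HasSplitting K P) (j : ℕ) : K →+* K where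
  toFun := adams P j
  map_zero' := adams_zero P j
  map_add' := adams_add P j
  map_one' := adams_one P j
  map_mul' := adams_mul P hK j

theorem aug_adams (P : PosStructure K) (hK : HasSplitting K P) (j : ℕ) (hj : 1 ≤ j) (x : K) :
    P.aug (adams P j x) = P.aug x := by
  have hpos : ∀ e ∈ P.pos, P.aug (adams P j e) = P.aug e := by
    intro e he
    obtain ⟨K', _, _, P', f, -, hf, s, hs, hsum⟩ := exists_split_one P hK e he
    rw [← hf.aug_comp, map_adams P P' f hf, ← hsum, adams_sum_lines P' j s hs, ← hf.aug_comp e,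
      ← hsum, aug_sum_lines P' s hs]
    have : ∀ v ∈ s.map (· ^ j), P'.IsLine v := by
      intro v hv
      obtain ⟨u, hu, rfl⟩ := Multiset.mem_map.mp hv
      exact isLine_pow P' (hs u hu) j
    rw [aug_sum_lines P' _ this, Multiset.card_map]
  obtain ⟨e, f, he, hf, rfl⟩ := P.exists_sub x
  rw [adams_sub, map_sub, map_sub, hpos e he, hpos f hf]

theorem one_mem_gammaFiltration_zero (P : PosStructure K) : (1 : K) ∈ gammaFiltration P 0 := by
  rw [gammaFiltration_zero]; trivial

theorem pow_mem_gammaFiltration (P : PosStructure K) {w : ℕ} {x : K}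
    (hx : x ∈ gammaFiltration P w) (a : ℕ) : x ^ a ∈ gammaFiltration P (w * a) := by
  induction a with
  | zero => simpa using one_mem_gammaFiltration_zero P
  | succ a ih =>
    rw [pow_succ, Nat.mul_succ]
    exact mul_mem_gammaFiltration P _ _ _ _ ih hx

theorem prod_mem_gammaFiltration (P : PosStructure K) {ι : Type*} (t : Finset ι) (x : ι → K)
    (w : ι → ℕ) (h : ∀ k ∈ t, x k ∈ gammaFiltration P (w k)) :
    ∏ k ∈ t, x k ∈ gammaFiltration P (∑ k ∈ t, w k) := by
  classical
  induction t using Finset.induction_on with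
  | empty => simpa using one_mem_gammaFiltration_zero P
  | insert k t hk ih =>
    rw [Finset.prod_insert hk, Finset.sum_insert hk]
    exact mul_mem_gammaFiltration P _ _ _ _ (h k (Finset.mem_insert_self k t))
      (ih (fun k' hk' => h k' (Finset.mem_insert_of_mem hk')))

/-- **Key lemma**: `ψ^j γ^i(e - n) ≡ j^i γ^i(e - n)` modulo `F^{i+1}` for a positive `e` of
augmentation `n`. -/
theorem adams_gamma_pos_sub (P : PosStructure K) (hK : HasSplitting K P) (j : ℕ) (e : K)
    (he : e ∈ P.pos) (n : ℕ) (hn : (n : ℤ) = P.aug e) (i : ℕ) :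
    adams P j (gamma i (e - (n : K))) - (j : K) ^ i * gamma i (e - (n : K)) ∈
      gammaFiltration P (i + 1) := by
  classical
  obtain ⟨K', _, _, P', f, hK', hf, s, hs, hsum⟩ := exists_split_one P hK e he
  set l := s.toList with hl
  have hls : l.sum = f e := by rw [hl, Multiset.sum_toList, hsum]
  have hline : ∀ k : Fin l.length, P'.IsLine (l[k.1]) := fun k =>
    hs _ (Multiset.mem_toList.mp (List.getElem_mem _))
  have hnl : n = l.length := by
    have h1 : P'.aug (f e) = P.aug e := hf.aug_comp e
    rw [← hsum, aug_sum_lines P' s hs] at h1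
    have : (l.length : ℤ) = n := by rw [hl, Multiset.length_toList, h1, hn]
    exact_mod_cast this.symm
  subst hnl
  let u : Fin l.length → K' := fun k => l[k.1]
  let y : Fin l.length → K' := fun k => u k - 1
  set z := e - (l.length : K) with hz
  have hfe : f z = ∑ k, u k - (l.length : K') := by
    rw [hz, map_sub, map_natCast, ← hls, ← Fin.sum_univ_getElem]
  have h3a : ∀ i, f (gamma i z) =
      MvPolynomial.aeval y (MvPolynomial.esymm (Fin l.length) ℤ i) := by
    intro i
    rw [map_gamma f hf.isLambdaHom, hfe, gamma_sum_sub_card P' _ u hline, MvPolynomial.esymm,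
      map_sum]
    apply Finset.sum_congr rfl
    intro t _
    rw [map_prod]
    simp [y]
  let ψ' := adamsRingHom P' hK' j
  have h3b : ∀ k, ψ' (y k) = MvPolynomial.aeval y (adamsSub _ j k) := by
    intro k
    have h1 : ψ' (u k) = (u k) ^ j := adams_of_isLine P' _ (hline k) j
    simp only [adamsSub, y, map_sub, map_pow, map_add, map_one, MvPolynomial.aeval_X, h1]
    ring
  have h3c : ∀ p : MvPolynomial (Fin l.length) ℤ, ψ' (MvPolynomial.aeval y p) =
      MvPolynomial.aeval y (MvPolynomial.bind₁ (adamsSub _ j) p) := by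
    intro p
    rw [MvPolynomial.aeval_bind₁]
    have h1 := AlgHom.congr_fun (MvPolynomial.comp_aeval (R := ℤ) (f := y) ψ'.toIntAlgHom) p
    simp only [AlgHom.comp_apply, RingHom.toIntAlgHom_apply] at h1
    rw [h1]
    have : (fun i => ψ' (y i)) = fun i => MvPolynomial.aeval y (adamsSub l.length j i) :=
      funext h3b
    rw [this]
  obtain ⟨Q, hQ, hQw⟩ := exists_esub_eq_of_mem_pow (adamsPoly _ j i)
    (adamsPoly_isSymmetric _ j i) i (adamsPoly_mem _ j i)
  have key : adams P j (gamma i z) - (j : K) ^ i * gamma i z =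
      MvPolynomial.aeval (fun k : Fin l.length => gamma (k + 1) z) Q := by
    apply hf.injective
    rw [map_sub, map_mul, map_pow, map_natCast, map_adams P P' f hf, h3a i]
    have h1 : adams P' j (MvPolynomial.aeval y (MvPolynomial.esymm (Fin l.length) ℤ i)) =
        MvPolynomial.aeval y (MvPolynomial.bind₁ (adamsSub _ j) (MvPolynomial.esymm _ ℤ i)) :=
      h3c _
    rw [h1]
    have h2 : MvPolynomial.aeval y (adamsPoly l.length j i) =
        MvPolynomial.aeval y (MvPolynomial.bind₁ (adamsSub _ j) (MvPolynomial.esymm _ ℤ i)) -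
          (j : K') ^ i * MvPolynomial.aeval y (MvPolynomial.esymm (Fin l.length) ℤ i) := by
      rw [adamsPoly, map_sub, map_mul, MvPolynomial.aeval_C]
      simp
    rw [← h2, ← hQ, esub]
    have h3 := AlgHom.congr_fun (MvPolynomial.comp_aeval (R := ℤ)
      (f := fun k : Fin l.length => gamma (k + 1) z) f.toIntAlgHom) Q
    simp only [AlgHom.comp_apply, RingHom.toIntAlgHom_apply] at h3
    rw [h3]
    change MvPolynomial.aeval y (MvPolynomial.bind₁
      (fun k : Fin l.length => MvPolynomial.esymm (Fin l.length) ℤ (k + 1)) Q) = _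
    rw [MvPolynomial.aeval_bind₁]
    have : (fun i : Fin l.length => f (gamma (i + 1) z)) = fun i : Fin l.length =>
        MvPolynomial.aeval y (MvPolynomial.esymm (Fin l.length) ℤ (i + 1)) :=
      funext fun k => h3a _
    rw [this]
  rw [key, MvPolynomial.aeval_def, MvPolynomial.eval₂_eq']
  apply AddSubgroup.sum_mem
  intro a ha
  have haug : P.aug z = 0 := by
    rw [hz, map_sub, map_natCast, ← hn]; simp
  have hmem : ∏ k : Fin l.length, gamma (k + 1) z ^ a k ∈ gammaFiltration P (ewt a) := by
    apply prod_mem_gammaFiltration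
    intro k _
    exact pow_mem_gammaFiltration P (gamma_mem_gammaFiltration P _ z haug) _
  have h5 : (algebraMap ℤ K) (MvPolynomial.coeff a Q) * ∏ k : Fin l.length, gamma (k + 1) z ^ a k =
      (MvPolynomial.coeff a Q) • ∏ k : Fin l.length, gamma (k + 1) z ^ a k := by
    rw [zsmul_eq_mul]; simp
  rw [h5]
  exact gammaFiltration_antitone P (hQw a ha) (AddSubgroup.zsmul_mem _ hmem _)

/-! ### good elements -/

/-- `x` lies in `F^w` and `ψ^j x ≡ j^w x` modulo `F^{w+1}` -/
def Good (P : PosStructure K) (j w : ℕ) (x : K) : Prop :=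
  x ∈ gammaFiltration P w ∧ adams P j x - (j : K) ^ w * x ∈ gammaFiltration P (w + 1)

theorem good_zero (P : PosStructure K) (j w : ℕ) : Good P j w (0 : K) := by
  refine ⟨AddSubgroup.zero_mem _, ?_⟩
  rw [adams_zero, mul_zero, sub_zero]
  exact AddSubgroup.zero_mem _

theorem good_add (P : PosStructure K) {j w : ℕ} {x y : K} (hx : Good P j w x) (hy : Good P j w y) :
    Good P j w (x + y) := by
  refine ⟨AddSubgroup.add_mem _ hx.1 hy.1, ?_⟩
  have : adams P j (x + y) - (j : K) ^ w * (x + y) =
      (adams P j x - (j : K) ^ w * x) + (adams P j y - (j : K) ^ w * y) := by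
    rw [adams_add]; ring
  rw [this]
  exact AddSubgroup.add_mem _ hx.2 hy.2

theorem good_neg (P : PosStructure K) {j w : ℕ} {x : K} (hx : Good P j w x) : Good P j w (-x) := by
  refine ⟨AddSubgroup.neg_mem _ hx.1, ?_⟩
  have : adams P j (-x) - (j : K) ^ w * (-x) = -(adams P j x - (j : K) ^ w * x) := by
    rw [adams_neg]; ring
  rw [this]
  exact AddSubgroup.neg_mem _ hx.2

theorem good_sum (P : PosStructure K) {j w : ℕ} {ι : Type*} (t : Finset ι) (x : ι → K)
    (h : ∀ k ∈ t, Good P j w (x k)) : Good P j w (∑ k ∈ t, x k) := by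
  classical
  induction t using Finset.induction_on with
  | empty => simpa using good_zero P j w
  | insert k t hk ih =>
    rw [Finset.sum_insert hk]
    exact good_add P (h k (Finset.mem_insert_self k t))
      (ih (fun k' hk' => h k' (Finset.mem_insert_of_mem hk')))

theorem good_one (P : PosStructure K) (j : ℕ) : Good P j 0 (1 : K) := by
  refine ⟨one_mem_gammaFiltration_zero P, ?_⟩
  rw [adams_one, pow_zero, mul_one, sub_self]
  exact AddSubgroup.zero_mem _

theorem natCast_mul_mem (P : PosStructure K) (c : ℕ) {w : ℕ} {x : K}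
    (hx : x ∈ gammaFiltration P w) : (c : K) * x ∈ gammaFiltration P w := by
  rw [← nsmul_eq_mul]
  exact AddSubgroup.nsmul_mem _ hx _

theorem Good.adams_mem (P : PosStructure K) {j w : ℕ} {x : K} (hx : Good P j w x) :
    adams P j x ∈ gammaFiltration P w := by
  have h1 : adams P j x = (adams P j x - (j : K) ^ w * x) + (j : K) ^ w * x := by ring
  rw [h1]
  apply AddSubgroup.add_mem
  · exact gammaFiltration_antitone P (Nat.le_succ w) hx.2
  · rw [← Nat.cast_pow]
    exact natCast_mul_mem P _ hx.1

theorem good_mul (P : PosStructure K) (hK : HasSplitting K P) {j w w' : ℕ} {x y : K}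
    (hx : Good P j w x) (hy : Good P j w' y) : Good P j (w + w') (x * y) := by
  refine ⟨mul_mem_gammaFiltration P _ _ _ _ hx.1 hy.1, ?_⟩
  have h1 : adams P j (x * y) - (j : K) ^ (w + w') * (x * y) =
      (adams P j x - (j : K) ^ w * x) * adams P j y +
        ((j : K) ^ w * x) * (adams P j y - (j : K) ^ w' * y) := by
    rw [adams_mul P hK]; ring
  rw [h1]
  apply AddSubgroup.add_mem
  · have := mul_mem_gammaFiltration P _ _ _ _ hx.2 (Good.adams_mem P hy)
    have e : w + 1 + w' = w + w' + 1 := by omega
    rwa [e] at this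
  · have h2 : (j : K) ^ w * x ∈ gammaFiltration P w := by
      rw [← Nat.cast_pow]; exact natCast_mul_mem P _ hx.1
    have := mul_mem_gammaFiltration P _ _ _ _ h2 hy.2
    rwa [← add_assoc] at this

/-- weight adjustment -/
theorem Good.adjust (P : PosStructure K) {j w n : ℕ} {x : K} (hx : Good P j w x) (hn : n ≤ w) :
    x ∈ gammaFiltration P n ∧ adams P j x - (j : K) ^ n * x ∈ gammaFiltration P (n + 1) := by
  refine ⟨gammaFiltration_antitone P hn hx.1, ?_⟩
  rcases Nat.eq_or_lt_of_le hn with rfl | hlt
  · exact hx.2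
  · have h1 : adams P j x - (j : K) ^ n * x =
        (adams P j x - (j : K) ^ w * x) + ((j : K) ^ w * x - (j : K) ^ n * x) := by ring
    rw [h1]
    apply AddSubgroup.add_mem
    · exact gammaFiltration_antitone P (by omega) hx.2
    · apply AddSubgroup.sub_mem
      · rw [← Nat.cast_pow]
        exact natCast_mul_mem P _ (gammaFiltration_antitone P hlt hx.1)
      · rw [← Nat.cast_pow]
        exact natCast_mul_mem P _ (gammaFiltration_antitone P hlt hx.1)

/-! ### good power series -/

theorem good_coeff_mul (P : PosStructure K) (hK : HasSplitting K P) (j : ℕ) (A B : K⟦X⟧)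
    (hA : ∀ k, Good P j k (coeff k A)) (hB : ∀ k, Good P j k (coeff k B)) (k : ℕ) :
    Good P j k (coeff k (A * B)) := by
  rw [coeff_mul]
  apply good_sum
  intro p hp
  have := good_mul P hK (hA p.1) (hB p.2)
  rwa [Finset.mem_antidiagonal.mp hp] at this

theorem good_coeff_inv (P : PosStructure K) (hK : HasSplitting K P) (j : ℕ) (A B : K⟦X⟧)
    (hAB : A * B = 1) (hA0 : coeff 0 A = 1) (hA : ∀ k, Good P j k (coeff k A)) (k : ℕ) :
    Good P j k (coeff k B) := by
  classical
  induction k using Nat.strong_induction_on with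
  | _ k ih =>
    rcases Nat.eq_zero_or_pos k with rfl | hk
    · have h1 : coeff 0 (A * B) = 1 := by rw [hAB]; simp
      rw [coeff_mul, Finset.Nat.antidiagonal_zero, Finset.sum_singleton, hA0, one_mul] at h1
      rw [h1]
      exact good_one P j
    · have h1 : coeff k (A * B) = 0 := by
        rw [hAB, coeff_one, if_neg (by omega)]
      rw [coeff_mul, ← Finset.add_sum_erase _ _
        (Finset.mem_antidiagonal.mpr (zero_add k) : (0, k) ∈ Finset.antidiagonal k)] at h1
      simp only at h1
      rw [hA0, one_mul] at h1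
      have h2 : coeff k B = -∑ p ∈ (Finset.antidiagonal k).erase (0, k),
          coeff p.1 A * coeff p.2 B := eq_neg_of_add_eq_zero_left h1
      rw [h2]
      apply good_neg
      apply good_sum
      intro p hp
      rw [Finset.mem_erase, Finset.mem_antidiagonal] at hp
      have hp1 : p.1 ≠ 0 := by
        intro h0
        apply hp.1
        ext
        · exact h0
        · simp only; omega
      have := good_mul P hK (hA p.1) (ih p.2 (by omega))
      rwa [hp.2] at this

theorem good_gamma (P : PosStructure K) (hK : HasSplitting K P) (j : ℕ) (x : K)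
    (hx : P.aug x = 0) (r : ℕ) : Good P j r (gamma r x) := by
  obtain ⟨e, e', he, he', rfl⟩ := P.exists_sub x
  have haug : P.aug e = P.aug e' := by
    rw [map_sub, sub_eq_zero] at hx; exact hx
  obtain ⟨n, hn⟩ : ∃ n : ℕ, (n : ℤ) = P.aug e :=
    ⟨(P.aug e).toNat, Int.toNat_of_nonneg (P.aug_pos e he).le⟩
  have hn' : (n : ℤ) = P.aug e' := hn.trans haug
  have hz : P.aug (e - (n : K)) = 0 := by rw [map_sub, map_natCast, ← hn]; simp
  have hz' : P.aug (e' - (n : K)) = 0 := by rw [map_sub, map_natCast, ← hn']; simp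
  have hA : ∀ k, Good P j k (coeff k (gammaSeries (e - (n : K)))) := fun k => by
    rw [coeff_gammaSeries]
    exact ⟨gamma_mem_gammaFiltration P k _ hz, adams_gamma_pos_sub P hK j e he n hn k⟩
  have hA' : ∀ k, Good P j k (coeff k (gammaSeries (e' - (n : K)))) := fun k => by
    rw [coeff_gammaSeries]
    exact ⟨gamma_mem_gammaFiltration P k _ hz', adams_gamma_pos_sub P hK j e' he' n hn' k⟩
  have hinv : gammaSeries (e' - (n : K)) * gammaSeries (-(e' - (n : K))) = 1 := by
    rw [← gammaSeries_add, add_neg_cancel, gammaSeries_zero]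
  have h0 : coeff 0 (gammaSeries (e' - (n : K))) = 1 := by
    rw [coeff_gammaSeries]; simp [gamma]
  have hB := good_coeff_inv P hK j _ _ hinv h0 hA'
  have hprod := good_coeff_mul P hK j _ _ hA hB r
  rw [← gammaSeries_add] at hprod
  have e1 : e - (n : K) + -(e' - (n : K)) = e - e' := by ring
  rw [e1, coeff_gammaSeries] at hprod
  exact hprod

theorem good_list_prod (P : PosStructure K) (hK : HasSplitting K P) (j : ℕ) (l : List (ℕ × K))
    (hl : ∀ p ∈ l, P.aug p.2 = 0) :
    Good P j (l.map Prod.fst).sum (l.map fun p => gamma p.1 p.2).prod := by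
  induction l with
  | nil => simpa using good_one P j
  | cons p l ih =>
    rw [List.map_cons, List.map_cons, List.sum_cons, List.prod_cons]
    exact good_mul P hK (good_gamma P hK j p.2 (hl p List.mem_cons_self) p.1)
      (ih (fun q hq => hl q (List.mem_cons_of_mem _ hq)))

/-- **ψ^j acts as `j^n` on `gr^n`**. -/
theorem adams_sub_pow_mul_mem (P : PosStructure K) (hK : HasSplitting K P) (j : ℕ) (hj : 1 ≤ j)
    (n : ℕ) (x : K) (hx : x ∈ gammaFiltration P n) :
    adams P j x - (j : K) ^ n * x ∈ gammaFiltration P (n + 1) := by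
  by_cases hn : n = 0
  · subst hn
    apply mem_gammaFiltration_one_of_aug
    rw [map_sub, aug_adams P hK j hj, pow_zero, one_mul, sub_self]
  rw [gammaFiltration_pos P hn] at hx
  induction hx using AddSubgroup.closure_induction with
  | mem y hy =>
    obtain ⟨l, hl, hls, rfl⟩ := hy
    exact ((good_list_prod P hK j l hl).adjust P hls).2
  | zero =>
    rw [adams_zero, mul_zero, sub_zero]; exact AddSubgroup.zero_mem _
  | add x y _ _ hx hy =>
    have : adams P j (x + y) - (j : K) ^ n * (x + y) =
        (adams P j x - (j : K) ^ n * x) + (adams P j y - (j : K) ^ n * y) := by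
      rw [adams_add]; ring
    rw [this]
    exact AddSubgroup.add_mem _ hx hy
  | neg x _ hx =>
    have : adams P j (-x) - (j : K) ^ n * (-x) = -(adams P j x - (j : K) ^ n * x) := by
      rw [adams_neg]; ring
    rw [this]
    exact AddSubgroup.neg_mem _ hx

end Groth.Agent.H17
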