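import Mathlib
import Groth.Agent.H17.QFGeneric

set_option autoImplicit false

namespace Groth.Agent.H17

open AlgebraicGeometry CategoryTheory Limits Topology

universe u

variable {X Y : Scheme.{u}} (f : X ⟶ Y)

/-- a point of a fibre is closed iff it has no proper specialization inside the fibre -/
theorem isClosed_singleton_fiber_iff (y : Y) (q : f.fiber y) :
    IsClosed ({q} : Set (f.fiber y)) ↔
      ∀ x₂ : X, f.fiberι y q ⤳ x₂ → f.base x₂ = y → x₂ = f.fiberι y q := by
  constructor
  · intro hq x₂ hsp hx₂
    obtain ⟨q₂, rfl⟩ := exists_fiber_point f hx₂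
    have h1 : q ⤳ q₂ := (f.fiberι y).isEmbedding.isInducing.specializes_iff.mp hsp
    have := h1.mem_closed hq (Set.mem_singleton _)
    rw [Set.mem_singleton_iff] at this
    rw [this]
  · intro h
    rw [← closure_subset_iff_isClosed]
    intro q₂ hq₂
    have h1 : q ⤳ q₂ := specializes_iff_mem_closure.mpr hq₂
    have h2 : f.fiberι y q ⤳ f.fiberι y q₂ := h1.map (f.fiberι y).continuous
    have h3 : f.base (f.fiberι y q₂) = y := by
      have : f.fiberι y q₂ ∈ Set.range (f.fiberι y) := Set.mem_range_self q₂
      rw [f.range_fiberι] at this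
      exact this
    exact (f.fiberι y).isEmbedding.injective (h (f.fiberι y q₂) h2 h3)

/-- being closed in the fibre is stable under base change -/
theorem isClosed_singleton_asFiber_of_isPullback {X S X' S' : Scheme.{u}} (f : X ⟶ S)
    [LocallyOfFiniteType f] (g : S' ⟶ S) (g' : X' ⟶ X) (f' : X' ⟶ S')
    (hsq : IsPullback g' f' f g) (x' : X')
    (hx : IsClosed ({f.asFiber (g'.base x')} : Set ↑(f.fiber (f.base (g'.base x'))))) :
    IsClosed ({f'.asFiber x'} : Set ↑(f'.fiber (f'.base x'))) := by
  let y' : S' := f'.base x'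
  let φ : f'.fiber y' ⟶ f.fiber (g.base y') :=
    pullback.map _ _ _ _ g' (Spec.map (g.residueFieldMap y')) g hsq.w.symm (by simp)
  have hφ : IsPullback φ (f'.fiberToSpecResidueField y') (f.fiberToSpecResidueField (g.base y'))
      (Spec.map (g.residueFieldMap y')) := isPullback_fiberToSpecResidueField_of_isPullback hsq y'
  have hφι : φ ≫ f.fiberι (g.base y') = f'.fiberι y' ≫ g' := pullback.lift_fst _ _ _
  let a : f.fiber (g.base y') := φ.base (f'.asFiber x')
  have ha : (f.fiberι (g.base y')).base a = g'.base x' := by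
    have e := congrArg (fun k : f'.fiber y' ⟶ X => k.base (f'.asFiber x')) hφι
    simp only [Scheme.Hom.comp_base, TopCat.hom_comp, ContinuousMap.comp_apply] at e
    rw [e]
    congr 1
    exact f'.fiberι_asFiber x'
  have hpt : f.base (g'.base x') = g.base y' := by
    have e := congrArg (fun k : X' ⟶ S => k.base x') hsq.w
    simpa using e
  have haclosed : IsClosed ({a} : Set (f.fiber (g.base y'))) := by
    rw [isClosed_singleton_fiber_iff]
    intro x₂ hsp hfx₂
    rw [ha] at hsp ⊢
    have h1 := (isClosed_singleton_fiber_iff f _ (f.asFiber (g'.base x'))).mp hx x₂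
      (by rwa [f.fiberι_asFiber]) (hfx₂.trans hpt.symm)
    rwa [f.fiberι_asFiber] at h1
  -- the closed point as a closed subscheme
  let ιa := (f.fiber (g.base y')).fromSpecResidueField a
  have hci : IsClosedImmersion ιa := isClosed_singleton_iff_isClosedImmersion.mp haclosed
  have hLFT : LocallyOfFiniteType (f.fiberToSpecResidueField (g.base y')) :=
    locallyOfFiniteType_fiberToSpecResidueField f _
  have hfin : IsFinite (ιa ≫ f.fiberToSpecResidueField (g.base y')) :=
    isFinite_iff_locallyOfFiniteType_of_jacobsonSpace.mpr inferInstance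
  have hbig : IsPullback (pullback.snd ιa φ ≫ f'.fiberToSpecResidueField y') (pullback.fst ιa φ)
      (Spec.map (g.residueFieldMap y')) (ιa ≫ f.fiberToSpecResidueField (g.base y')) :=
    (IsPullback.of_hasPullback ιa φ).flip.paste_horiz hφ.flip
  have hfin' : IsFinite (pullback.snd ιa φ ≫ f'.fiberToSpecResidueField y') :=
    MorphismProperty.of_isPullback (P := @IsFinite) hbig.flip hfin
  have hart : IsLocallyArtinian (pullback ιa φ) :=
    IsLocallyArtinian.of_locallyQuasiFinite (pullback.snd ιa φ ≫ f'.fiberToSpecResidueField y')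
  have hdisc : DiscreteTopology ↥(pullback ιa φ) := inferInstance
  obtain ⟨s⟩ : Nonempty (Spec ((f.fiber (g.base y')).residueField a)) := inferInstance
  obtain ⟨z', -, hz'⟩ := Scheme.Pullback.exists_preimage_pullback (f := ιa) (g := φ) s
    (f'.asFiber x') (Scheme.fromSpecResidueField_apply _ s)
  have h1 : IsClosed ({z'} : Set ↥(pullback ιa φ)) := isClosed_discrete _
  have h2 := (pullback.snd ιa φ).isClosedEmbedding.isClosedMap _ h1
  rw [Set.image_singleton, hz'] at h2
  exact h2

end Groth.Agent.H17
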