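import Groth.Agent.H17.ProConsAffine
import Mathlib.AlgebraicGeometry.Morphisms.FinitePresentation

set_option autoImplicit false

namespace Groth.Agent.H17

open Topology Set Set.Notation AlgebraicGeometry CategoryTheory PrimeSpectrum

universe u

section ring

variable {R : Type u} [CommRing R]

/-- the ring `(R/(g₁,…,gₙ))_f` attached to basic constructible data -/
abbrev BasicRing (C : BasicConstructibleSetData R) : Type u :=
  Localization.Away (Ideal.Quotient.mk (Ideal.span (Set.range C.g)) C.f)

theorem basicRing_finitePresentation (C : BasicConstructibleSetData R) :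
    (algebraMap R (BasicRing C)).FinitePresentation := by
  have h1 : Algebra.FinitePresentation R (R ⧸ Ideal.span (Set.range C.g)) :=
    Algebra.FinitePresentation.quotient ⟨(Set.finite_range C.g).toFinset, by simp⟩
  have h2 : Algebra.FinitePresentation (R ⧸ Ideal.span (Set.range C.g)) (BasicRing C) :=
    IsLocalization.Away.finitePresentation (Ideal.Quotient.mk (Ideal.span (Set.range C.g)) C.f)
  have h3 : Algebra.FinitePresentation R (BasicRing C) :=
    Algebra.FinitePresentation.trans R (R ⧸ Ideal.span (Set.range C.g)) (BasicRing C)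
  exact RingHom.finitePresentation_algebraMap.mpr h3

theorem range_comap_basicRing (C : BasicConstructibleSetData R) :
    Set.range (PrimeSpectrum.comap (algebraMap R (BasicRing C))) = C.toSet := by
  let I := Ideal.span (Set.range C.g)
  let f := Ideal.Quotient.mk I C.f
  trans PrimeSpectrum.comap (Ideal.Quotient.mk I) ''
    (Set.range (PrimeSpectrum.comap (algebraMap _ (Localization.Away f))))
  · rw [← Set.range_comp]; rfl
  · rw [localization_away_comap_range _ f, ← comap_basicOpen, TopologicalSpace.Opens.coe_comap,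
      ContinuousMap.coe_mk, Set.image_preimage_eq_inter_range,
      range_comap_of_surjective _ _ Ideal.Quotient.mk_surjective, BasicConstructibleSetData.toSet,
      Set.sdiff_eq_compl_inter, basicOpen_eq_zeroLocus_compl, Ideal.mk_ker, zeroLocus_span]

end ring

variable {X : Scheme.{u}}

/-- packaging: a finite family of affine schemes locally of finite presentation over `X` -/
theorem exists_affine_lfp_of_family {ι : Type u} [Finite ι] (Y : ι → Scheme.{u})
    [∀ i, IsAffine (Y i)] (h : ∀ i, Y i ⟶ X) (hh : ∀ i, LocallyOfFinitePresentation (h i)) :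
    ∃ (X' : Scheme.{u}) (f : X' ⟶ X), IsAffine X' ∧ LocallyOfFinitePresentation f ∧
      Set.range f.base = ⋃ i, Set.range (h i).base := by
  have := HasRingHomProperty.instIsZariskiLocalAtSource (P := @LocallyOfFinitePresentation.{u})
  refine ⟨∐ Y, Limits.Sigma.desc h, inferInstance,
    IsZariskiLocalAtSource.sigmaDesc (P := @LocallyOfFinitePresentation) hh, ?_⟩
  apply Subset.antisymm
  · rintro _ ⟨y, rfl⟩
    have hsurj : ∃ (i : ι) (z : Y i), (Limits.Sigma.ι Y i).base z = y :=
      (sigmaOpenCover Y).exists_eq y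
    obtain ⟨i, z, rfl⟩ := hsurj
    have h3 : (Limits.Sigma.desc h).base ((Limits.Sigma.ι Y i).base z) = (h i).base z := by
      have : (Limits.Sigma.ι Y i ≫ Limits.Sigma.desc h).base z = (h i).base z := by
        rw [Limits.Sigma.ι_desc]
      exact this
    rw [h3]
    exact mem_iUnion.mpr ⟨i, z, rfl⟩
  · intro x hx
    obtain ⟨i, z, rfl⟩ := mem_iUnion.mp hx
    refine ⟨(Limits.Sigma.ι Y i).base z, ?_⟩
    have : (Limits.Sigma.ι Y i ≫ Limits.Sigma.desc h).base z = (h i).base z := by
      rw [Limits.Sigma.ι_desc]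
    exact this

theorem exists_affine_lfp_of_isAffineOpen [QuasiSeparatedSpace X] {Z : Set X}
    (hZ : IsConstructible Z) {U : X.Opens} (hU : IsAffineOpen U) :
    ∃ (Y : Scheme.{u}) (h : Y ⟶ X), IsAffine Y ∧ LocallyOfFinitePresentation h ∧
      Set.range h.base = Z ∩ U := by
  have hsp : IsSpectralMap hU.fromSpec.base := hU.fromSpec.isSpectralMap
  have hpre : IsConstructible (hU.fromSpec.base ⁻¹' Z) := by
    refine hZ.preimage hU.fromSpec.continuous fun s hs hrc => ?_
    intro V hVc hVo
    have hsU : hU.fromSpec.base ⁻¹' s = hU.fromSpec.base ⁻¹' (s ∩ U) := by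
      ext x
      simp only [mem_preimage, mem_inter_iff, iff_self_and]
      intro _
      have : hU.fromSpec.base x ∈ Set.range hU.fromSpec.base := mem_range_self x
      rw [hU.range_fromSpec] at this
      exact this
    have hc : IsCompact (s ∩ U) := hrc hU.isCompact U.isOpen
    have hc' : IsCompact (hU.fromSpec.base ⁻¹' (s ∩ U)) :=
      hsp.isCompact_preimage_of_isOpen (hs.inter U.isOpen) hc
    rw [hsU]
    exact QuasiSeparatedSpace.inter_isCompact _ _
      ((hs.inter U.isOpen).preimage hU.fromSpec.continuous) hc' hVo hVc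
  obtain ⟨S, hS⟩ := exists_constructibleSetData_iff.mpr hpre
  let Y : (↥S) → Scheme.{u} := fun C => Spec (CommRingCat.of (BasicRing C.1))
  let h : ∀ C : ↥S, Y C ⟶ X := fun C =>
    Spec.map (CommRingCat.ofHom (algebraMap _ (BasicRing C.1))) ≫ hU.fromSpec
  have hh : ∀ C, LocallyOfFinitePresentation (h C) := by
    intro C
    have : LocallyOfFinitePresentation
        (Spec.map (CommRingCat.ofHom (algebraMap Γ(X, U) (BasicRing C.1)))) := by
      rw [LocallyOfFinitePresentation.SpecMap_iff]
      exact basicRing_finitePresentation C.1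
    infer_instance
  obtain ⟨X', f, hX', hf, hr⟩ := exists_affine_lfp_of_family Y h hh
  refine ⟨X', f, hX', hf, ?_⟩
  rw [hr]
  have hrC : ∀ C : ↥S, Set.range (h C).base = hU.fromSpec.base '' C.1.toSet := by
    intro C
    have h2 : Set.range (h C).base = hU.fromSpec.base '' (Set.range
        (Spec.map (CommRingCat.ofHom (algebraMap Γ(X, U) (BasicRing C.1)))).base) := by
      rw [← Set.range_comp]
      rfl
    rw [h2]
    congr 1
    exact range_comap_basicRing C.1
  simp_rw [hrC]
  have hun : ⋃ C : ↥S, hU.fromSpec.base '' C.1.toSet = hU.fromSpec.base '' (S.toSet) := by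
    apply Subset.antisymm
    · intro x hx
      obtain ⟨C, hC⟩ := mem_iUnion.mp hx
      obtain ⟨y, hy, rfl⟩ := hC
      exact ⟨y, mem_iUnion₂.mpr ⟨C.1, C.2, hy⟩, rfl⟩
    · rintro x ⟨y, hy, rfl⟩
      obtain ⟨C, hC, hyC⟩ := mem_iUnion₂.mp hy
      exact mem_iUnion.mpr ⟨⟨C, hC⟩, y, hyC, rfl⟩
  rw [hun, hS, Set.image_preimage_eq_inter_range]
  congr 1
  exact hU.range_fromSpec

end Groth.Agent.H17

namespace Groth.Agent.H17

open Topology Set Set.Notation AlgebraicGeometry CategoryTheory PrimeSpectrum

universe u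

theorem exists_affine_lfp_of_isConstructible (X : Scheme.{u}) [CompactSpace X]
    [QuasiSeparatedSpace X] (Z : Set X) (hZ : IsConstructible Z) :
    ∃ (X' : Scheme.{u}) (f : X' ⟶ X), IsAffine X' ∧ LocallyOfFinitePresentation f ∧
      Set.range f.base = Z := by
  classical
  have hnb : ∀ x : X, ∃ U : X.Opens, IsAffineOpen U ∧ x ∈ U := by
    intro x
    obtain ⟨W, ⟨U, hU, rfl⟩, hxW⟩ := (goodBasis_scheme X).exists_mem x
    exact ⟨U, hU, hxW⟩
  choose U hU hxU using hnb
  obtain ⟨t, ht⟩ := isCompact_univ.elim_finite_subcover (fun x => (U x : Set X))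
    (fun x => (U x).isOpen) (fun x _ => mem_iUnion.mpr ⟨x, hxU x⟩)
  choose Y h hY hh hr using fun x : X => exists_affine_lfp_of_isAffineOpen hZ (hU x)
  have : ∀ i : ↥t, IsAffine (Y i.1) := fun i => hY i.1
  obtain ⟨X', f, hX', hf, hrf⟩ := exists_affine_lfp_of_family (fun i : ↥t => Y i.1)
    (fun i => h i.1) (fun i => hh i.1)
  refine ⟨X', f, hX', hf, ?_⟩
  rw [hrf]
  apply Subset.antisymm
  · intro x hx
    obtain ⟨i, hi⟩ := mem_iUnion.mp hx
    rw [hr] at hi
    exact hi.1
  · intro x hxZ
    have hx : x ∈ ⋃ i ∈ t, (U i : Set X) := ht (mem_univ x)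
    obtain ⟨i, hit, hxi⟩ := mem_iUnion₂.mp hx
    refine mem_iUnion.mpr ⟨⟨i, hit⟩, ?_⟩
    rw [hr]
    exact ⟨hxZ, hxi⟩

end Groth.Agent.H17
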