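import Mathlib.Topology.Spectral.ConstructibleTopology
import Mathlib.Topology.Spectral.Basic
import Mathlib.Topology.Spectral.Hom
import Mathlib.Topology.Constructible

set_option autoImplicit false

namespace Groth.Agent.H17

open Topology Set

variable {W : Type*} [TopologicalSpace W]

/-- closed for the constructible topology -/
def ConsClosed (Z : Set W) : Prop := IsClosed[constructibleTopology W] Z

/-- open for the constructible topology -/
def ConsOpen (Z : Set W) : Prop := IsOpen[constructibleTopology W] Z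

theorem consClosed_iff_compl {Z : Set W} : ConsClosed Z ↔ ConsOpen Zᶜ :=
  (@isOpen_compl_iff W Z (constructibleTopology W)).symm

theorem consOpen_iff_compl {Z : Set W} : ConsOpen Z ↔ ConsClosed Zᶜ := by
  rw [consClosed_iff_compl, compl_compl]

theorem ConsOpen.union {Z Z' : Set W} (h : ConsOpen Z) (h' : ConsOpen Z') : ConsOpen (Z ∪ Z') :=
  @IsOpen.union W Z Z' (constructibleTopology W) h h'

theorem ConsOpen.inter {Z Z' : Set W} (h : ConsOpen Z) (h' : ConsOpen Z') : ConsOpen (Z ∩ Z') :=
  @IsOpen.inter W (constructibleTopology W) Z Z' h h'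

theorem ConsOpen.sUnion {S : Set (Set W)} (h : ∀ Z ∈ S, ConsOpen Z) : ConsOpen (⋃₀ S) :=
  @isOpen_sUnion W (constructibleTopology W) S h

theorem ConsOpen.iUnion {ι : Sort*} {Z : ι → Set W} (h : ∀ i, ConsOpen (Z i)) :
    ConsOpen (⋃ i, Z i) :=
  @isOpen_iUnion W ι (constructibleTopology W) Z h

theorem ConsClosed.union {Z Z' : Set W} (h : ConsClosed Z) (h' : ConsClosed Z') :
    ConsClosed (Z ∪ Z') :=
  @IsClosed.union W Z Z' (constructibleTopology W) h h'

theorem ConsClosed.inter {Z Z' : Set W} (h : ConsClosed Z) (h' : ConsClosed Z') :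
    ConsClosed (Z ∩ Z') :=
  @IsClosed.inter W Z Z' (constructibleTopology W) h h'

theorem ConsClosed.sInter {S : Set (Set W)} (h : ∀ Z ∈ S, ConsClosed Z) : ConsClosed (⋂₀ S) :=
  @isClosed_sInter W (constructibleTopology W) S h

theorem ConsClosed.iInter {ι : Sort*} {Z : ι → Set W} (h : ∀ i, ConsClosed (Z i)) :
    ConsClosed (⋂ i, Z i) :=
  @isClosed_iInter W ι (constructibleTopology W) Z h

theorem ConsClosed.iUnion_finite {ι : Type*} [Finite ι] {Z : ι → Set W}
    (h : ∀ i, ConsClosed (Z i)) : ConsClosed (⋃ i, Z i) :=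
  @isClosed_iUnion_of_finite W ι (constructibleTopology W) _ Z h

theorem consOpen_of_isOpen_isCompact {U : Set W} (ho : IsOpen U) (hc : IsCompact U) : ConsOpen U :=
  hc.isOpen_constructibleTopology_of_isOpen ho

theorem consClosed_of_isOpen_isCompact {U : Set W} (ho : IsOpen U) (hc : IsCompact U) :
    ConsClosed U := by
  rw [consClosed_iff_compl]
  exact IsCompact.isOpen_constructibleTopology_of_isClosed (by rwa [compl_compl])
    ho.isClosed_compl

/-- In a compact space, constructible sets are clopen for the constructible topology. -/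
theorem consOpen_and_compl_of_isConstructible [CompactSpace W] {T : Set W}
    (hT : IsConstructible T) : ConsOpen T ∧ ConsOpen Tᶜ := by
  induction hT using IsConstructible.empty_union_induction with
  | open_retrocompact U hUopen hUcomp =>
    have hc : IsCompact U := hUcomp.isCompact
    exact ⟨consOpen_of_isOpen_isCompact hUopen hc,
      consClosed_iff_compl.mp (consClosed_of_isOpen_isCompact hUopen hc)⟩
  | union s hs t ht hs' ht' =>
    refine ⟨hs'.1.union ht'.1, ?_⟩
    rw [compl_union]
    exact hs'.2.inter ht'.2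
  | compl s hs hs' =>
    refine ⟨hs'.2, ?_⟩
    rw [compl_compl]
    exact hs'.1

theorem consOpen_of_isConstructible [CompactSpace W] {T : Set W} (hT : IsConstructible T) :
    ConsOpen T := (consOpen_and_compl_of_isConstructible hT).1

theorem consClosed_of_isConstructible [CompactSpace W] {T : Set W} (hT : IsConstructible T) :
    ConsClosed T := consClosed_iff_compl.mpr (consOpen_and_compl_of_isConstructible hT).2

/-- Constructible sets form a basis of the constructible topology. -/
theorem exists_isConstructible_of_consOpen [QuasiSeparatedSpace W] {Z : Set W} (hZ : ConsOpen Z)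
    {z : W} (hz : z ∈ Z) : ∃ T, IsConstructible T ∧ z ∈ T ∧ T ⊆ Z := by
  unfold ConsOpen constructibleTopology at hZ
  induction hZ generalizing z with
  | basic s hs =>
    rcases hs with hs | hs
    · exact ⟨s, hs.2.isConstructible hs.1, hz, subset_rfl⟩
    · refine ⟨s, ?_, hz, subset_rfl⟩
      rw [← isConstructible_compl]
      exact hs.2.isConstructible hs.1.isOpen_compl
  | univ => exact ⟨univ, IsConstructible.univ, trivial, subset_rfl⟩
  | inter s t _ _ ihs iht =>
    obtain ⟨T, hT, hzT, hTs⟩ := ihs hz.1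
    obtain ⟨T', hT', hzT', hTt⟩ := iht hz.2
    exact ⟨T ∩ T', hT.inter hT', ⟨hzT, hzT'⟩, inter_subset_inter hTs hTt⟩
  | sUnion S _ ih =>
    obtain ⟨s, hsS, hzs⟩ := hz
    obtain ⟨T, hT, hzT, hTs⟩ := ih s hsS hzs
    exact ⟨T, hT, hzT, hTs.trans (subset_sUnion_of_mem hsS)⟩

theorem consOpen_iff_exists_sUnion [CompactSpace W] [QuasiSeparatedSpace W] {Z : Set W} :
    ConsOpen Z ↔ ∃ S : Set (Set W), (∀ T ∈ S, IsConstructible T) ∧ Z = ⋃₀ S := by
  constructor
  · intro hZ
    refine ⟨{T | IsConstructible T ∧ T ⊆ Z}, fun T hT => hT.1, ?_⟩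
    apply Subset.antisymm
    · intro z hz
      obtain ⟨T, hT, hzT, hTZ⟩ := exists_isConstructible_of_consOpen hZ hz
      exact ⟨T, ⟨hT, hTZ⟩, hzT⟩
    · exact sUnion_subset fun T hT => hT.2
  · rintro ⟨S, hS, rfl⟩
    exact ConsOpen.sUnion fun T hT => consOpen_of_isConstructible (hS T hT)

theorem consClosed_iff_exists_sInter [CompactSpace W] [QuasiSeparatedSpace W] {Z : Set W} :
    ConsClosed Z ↔ ∃ S : Set (Set W), (∀ T ∈ S, IsConstructible T) ∧ Z = ⋂₀ S := by
  rw [consClosed_iff_compl, consOpen_iff_exists_sUnion]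
  constructor
  · rintro ⟨S, hS, hZ⟩
    refine ⟨compl '' S, ?_, ?_⟩
    · rintro T ⟨T', hT', rfl⟩
      exact (hS T' hT').compl
    · rw [← compl_compl Z, hZ, compl_sUnion]
  · rintro ⟨S, hS, rfl⟩
    refine ⟨compl '' S, ?_, ?_⟩
    · rintro T ⟨T', hT', rfl⟩
      exact (hS T' hT').compl
    · rw [compl_sInter]

section compact

variable [CompactSpace W] [QuasiSober W] [PrespectralSpace W] [QuasiSeparatedSpace W]

theorem compactSpace_cons : @CompactSpace W (constructibleTopology W) :=
  @Function.Surjective.compactSpace (WithConstructibleTopology W) W _ (constructibleTopology W)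
    WithTopology.ofTopology (WithTopology.continuous_ofTopology _) _
    (WithTopology.ofTopology_surjective _)

/-- finite intersection property for the constructible topology -/
theorem cons_fip {ι : Type*} (Z : ι → Set W) (hZ : ∀ i, ConsClosed (Z i))
    (h : ∀ J : Finset ι, (⋂ i ∈ J, Z i).Nonempty) : (⋂ i, Z i).Nonempty := by
  by_contra hne
  rw [not_nonempty_iff_eq_empty] at hne
  have hc : @IsCompact W (constructibleTopology W) univ :=
    (@isCompact_univ_iff W (constructibleTopology W)).mpr compactSpace_cons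
  obtain ⟨J, hJ⟩ := @IsCompact.elim_finite_subfamily_closed W (constructibleTopology W) univ ι hc Z hZ
    (by rw [hne, inter_empty])
  have := h J
  rw [univ_inter] at hJ
  rw [hJ] at this
  exact this.ne_empty rfl

/-- A subset which is open and closed for the constructible topology is constructible. -/
theorem isConstructible_of_consOpen_of_consClosed {Z : Set W} (ho : ConsOpen Z)
    (hc : ConsClosed Z) : IsConstructible Z := by
  classical
  -- cover Z by constructible subsets
  let ι := {T : Set W // IsConstructible T ∧ T ⊆ Z}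
  have hcov : Z ∩ ⋂ i : ι, (i.1)ᶜ = ∅ := by
    rw [eq_empty_iff_forall_notMem]
    rintro z ⟨hz, hz'⟩
    obtain ⟨T, hT, hzT, hTZ⟩ := exists_isConstructible_of_consOpen ho hz
    exact (mem_iInter.mp hz' ⟨T, hT, hTZ⟩) hzT
  have hc' : @IsCompact W (constructibleTopology W) Z :=
    @IsClosed.isCompact W (constructibleTopology W) Z compactSpace_cons hc
  obtain ⟨J, hJ⟩ := @IsCompact.elim_finite_subfamily_closed W (constructibleTopology W) Z ι hc'
    (fun i => (i.1)ᶜ) (fun i => consClosed_of_isConstructible i.2.1.compl) hcov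
  have hZ : Z = ⋃ i ∈ J, i.1 := by
    apply Subset.antisymm
    · intro z hz
      by_contra hnot
      have : z ∈ Z ∩ ⋂ i ∈ J, (i.1)ᶜ := by
        refine ⟨hz, ?_⟩
        simp only [mem_iInter, mem_compl_iff]
        intro i hi hzi
        exact hnot (mem_biUnion hi hzi)
      rw [hJ] at this
      exact this
    · exact iUnion₂_subset fun i _ => i.2.2
  rw [hZ]
  exact IsConstructible.biUnion J.finite_toSet fun i _ => i.2.1

/-- If every compact open neighbourhood of `x` meets the cons-closed set `Z`, then `Z` contains a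
generization of `x`. -/
theorem exists_specializes_of_forall_nhd {Z : Set W} (hZ : ConsClosed Z) (x : W)
    (h : ∀ V : Set W, IsOpen V → IsCompact V → x ∈ V → (V ∩ Z).Nonempty) :
    ∃ x' ∈ Z, x' ⤳ x := by
  let ι := {V : Set W // IsOpen V ∧ IsCompact V ∧ x ∈ V}
  have hfip : ∀ J : Finset (Option ι),
      (⋂ i ∈ J, (fun o : Option ι => o.elim Z (fun V => V.1)) i).Nonempty := by
    intro J
    classical
    -- the intersection of the finitely many neighbourhoods is an open neighbourhood
    let O : Set W := ⋂ i ∈ J, (fun o : Option ι => o.elim univ (fun V => V.1)) i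
    have hO : IsOpen O := by
      apply isOpen_biInter_finset
      intro i _
      rcases i with _ | V
      · exact isOpen_univ
      · exact V.2.1
    have hxO : x ∈ O := by
      simp only [O, mem_iInter]
      intro i _
      rcases i with _ | V
      · trivial
      · exact V.2.2.2
    obtain ⟨V, ⟨hVo, hVc⟩, hxV, hVO⟩ :=
      (PrespectralSpace.isTopologicalBasis (X := W)).exists_subset_of_mem_open hxO hO
    obtain ⟨z, hzV, hzZ⟩ := h V hVo hVc hxV
    refine ⟨z, ?_⟩
    simp only [mem_iInter]
    intro i hi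
    rcases i with _ | V'
    · exact hzZ
    · have := hVO hzV
      simp only [O, mem_iInter] at this
      exact this (some V') hi
  obtain ⟨z, hz⟩ := cons_fip (fun o : Option ι => o.elim Z (fun V => V.1))
    (fun o => by
      rcases o with _ | V
      · exact hZ
      · exact consClosed_of_isOpen_isCompact V.2.1 V.2.2.1) hfip
  rw [mem_iInter] at hz
  refine ⟨z, hz none, ?_⟩
  rw [specializes_iff_forall_open]
  intro U hU hxU
  obtain ⟨V, ⟨hVo, hVc⟩, hxV, hVU⟩ :=
    (PrespectralSpace.isTopologicalBasis (X := W)).exists_subset_of_mem_open hxU hU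
  exact hVU (hz (some ⟨V, hVo, hVc, hxV⟩))

/-- interior criterion for sets open in the constructible topology -/
theorem exists_isOpen_subset_of_forall_specializes {E : Set W} (hE : ConsOpen E) (y : W)
    (h : ∀ z : W, z ⤳ y → z ∈ E) : ∃ V : Set W, IsOpen V ∧ y ∈ V ∧ V ⊆ E := by
  by_contra hcon
  push Not at hcon
  obtain ⟨z, hzE, hzy⟩ := exists_specializes_of_forall_nhd (consOpen_iff_compl.mp hE) y
    (fun V hVo _ hyV => by
      obtain ⟨z, hzV, hzE⟩ := not_subset.mp (hcon V hVo hyV)
      exact ⟨z, hzV, hzE⟩)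
  exact hzE (h z hzy)

end compact


theorem consOpen_of_forall_exists {Z : Set W}
    (h : ∀ z ∈ Z, ∃ O : Set W, ConsOpen O ∧ z ∈ O ∧ O ⊆ Z) : ConsOpen Z := by
  have : Z = ⋃₀ {O | ConsOpen O ∧ O ⊆ Z} := by
    apply Subset.antisymm
    · intro z hz
      obtain ⟨O, hO, hzO, hOZ⟩ := h z hz
      exact ⟨O, ⟨hO, hOZ⟩, hzO⟩
    · exact sUnion_subset fun O hO => hO.2
  rw [this]
  exact ConsOpen.sUnion fun O hO => hO.1

/-- points are closed in the constructible topology of a T0 prespectral space -/
theorem consClosed_singleton [T0Space W] [PrespectralSpace W] (y : W) : ConsClosed ({y} : Set W) := by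
  rw [consClosed_iff_compl]
  apply consOpen_of_forall_exists
  intro y' hy'
  have hne : y' ≠ y := hy'
  obtain ⟨U, hU, hxor⟩ := exists_isOpen_xor_mem hne
  rcases hxor with ⟨hy'U, hyU⟩ | ⟨hyU, hy'U⟩
  · obtain ⟨V, ⟨hVo, hVc⟩, hy'V, hVU⟩ :=
      (PrespectralSpace.isTopologicalBasis (X := W)).exists_subset_of_mem_open hy'U hU
    refine ⟨V, consOpen_of_isOpen_isCompact hVo hVc, hy'V, ?_⟩
    intro z hz hzy
    rw [mem_singleton_iff] at hzy
    subst hzy
    exact hyU (hVU hz)
  · obtain ⟨V, ⟨hVo, hVc⟩, hyV, hVU⟩ :=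
      (PrespectralSpace.isTopologicalBasis (X := W)).exists_subset_of_mem_open hyU hU
    refine ⟨Vᶜ, consClosed_iff_compl.mp (consClosed_of_isOpen_isCompact hVo hVc),
      fun h => hy'U (hVU h), ?_⟩
    intro z hz hzy
    rw [mem_singleton_iff] at hzy
    subst hzy
    exact hz hyV

section maps

variable {W' : Type*} [TopologicalSpace W'] {f : W' → W}

theorem IsSpectralMap.continuous_cons (hf : IsSpectralMap f) :
    Continuous[constructibleTopology W', constructibleTopology W] f := by
  unfold constructibleTopology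
  rw [continuous_generateFrom_iff]
  intro s hs
  apply TopologicalSpace.isOpen_generateFrom_of_mem
  rcases hs with hs | hs
  · exact Or.inl ⟨hs.1.preimage hf.continuous, hf.isCompact_preimage_of_isOpen hs.1 hs.2⟩
  · refine Or.inr ⟨hs.1.preimage hf.continuous, ?_⟩
    rw [← preimage_compl]
    exact hf.isCompact_preimage_of_isOpen hs.1.isOpen_compl hs.2

theorem ConsClosed.preimage (hf : IsSpectralMap f) {Z : Set W} (hZ : ConsClosed Z) :
    ConsClosed (f ⁻¹' Z) :=
  @IsClosed.preimage W' W (constructibleTopology W') (constructibleTopology W) f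
    (IsSpectralMap.continuous_cons hf) Z hZ

theorem ConsOpen.preimage (hf : IsSpectralMap f) {Z : Set W} (hZ : ConsOpen Z) :
    ConsOpen (f ⁻¹' Z) :=
  @IsOpen.preimage W' W (constructibleTopology W') (constructibleTopology W) f
    (IsSpectralMap.continuous_cons hf) Z hZ

/-- the image of a cons-closed set under a spectral map of spectral spaces is cons-closed -/
theorem ConsClosed.image [CompactSpace W'] [QuasiSober W'] [PrespectralSpace W']
    [QuasiSeparatedSpace W'] [CompactSpace W] [QuasiSeparatedSpace W] [T0Space W]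
    [PrespectralSpace W] (hf : IsSpectralMap f) {Z' : Set W'} (hZ' : ConsClosed Z') :
    ConsClosed (f '' Z') := by
  classical
  rw [consClosed_iff_compl]
  apply consOpen_of_forall_exists
  intro y hy
  obtain ⟨S, hS, hyS⟩ := consClosed_iff_exists_sInter.mp (consClosed_singleton y)
  have hyT : ∀ T ∈ S, y ∈ T := by
    intro T hT
    have : y ∈ ⋂₀ S := by rw [← hyS]; rfl
    exact this T hT
  let ι := {T : Set W // T ∈ S}
  have hempty : Z' ∩ ⋂ i : ι, f ⁻¹' i.1 = ∅ := by
    rw [eq_empty_iff_forall_notMem]
    rintro z ⟨hz, hz'⟩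
    have hfz : f z ∈ ⋂₀ S := by
      intro T hT
      exact mem_iInter.mp hz' ⟨T, hT⟩
    rw [← hyS, mem_singleton_iff] at hfz
    exact hy ⟨z, hz, hfz⟩
  have hc' : @IsCompact W' (constructibleTopology W') Z' :=
    @IsClosed.isCompact W' (constructibleTopology W') Z' compactSpace_cons hZ'
  obtain ⟨J, hJ⟩ := @IsCompact.elim_finite_subfamily_closed W' (constructibleTopology W') Z' ι hc'
    (fun i => f ⁻¹' i.1)
    (fun i => ConsClosed.preimage hf (consClosed_of_isConstructible (hS i.1 i.2))) hempty
  refine ⟨⋂ i ∈ J, i.1, ?_, ?_, ?_⟩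
  · exact consOpen_of_isConstructible
      (IsConstructible.biInter J.finite_toSet fun i _ => hS i.1 i.2)
  · simp only [mem_iInter]
    intro i _
    exact hyT i.1 i.2
  · rintro z hz ⟨z', hz'Z, rfl⟩
    have : z' ∈ Z' ∩ ⋂ i ∈ J, f ⁻¹' i.1 := by
      refine ⟨hz'Z, ?_⟩
      simp only [mem_iInter, mem_preimage] at hz ⊢
      exact hz
    rw [hJ] at this
    exact this

end maps

end Groth.Agent.H17
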