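import Groth.Prelude.Def_FSRel
import Mathlib.RingTheory.Kaehler.Basic
import Mathlib.RingTheory.Derivation.ToSquareZero
import Mathlib.RingTheory.TensorProduct.Basic
import Mathlib.Algebra.TrivSqZeroExt.Basic
import Mathlib.Tactic.LinearCombination
import Mathlib.Tactic.Ring

set_option autoImplicit false

namespace Groth.Agent.H17

open TensorProduct KaehlerDifferential

universe u

variable (A B C : Type u) [CommRing A] [CommRing B] [CommRing C] [Algebra A B] [Algebra B C]
  [Algebra A C] [IsScalarTower A B C]

/-- a left inverse of `C ⊗_B Ω_{B/A} → Ω_{C/A}` gives relative formal smoothness -/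
theorem fsRel_of_leftInverse (l : Ω[C⁄A] →ₗ[C] C ⊗[B] Ω[B⁄A])
    (hl : l ∘ₗ KaehlerDifferential.mapBaseChange A B C = LinearMap.id) :
    EGA41.IsFormallySmoothRel A B C := by
  intro C' _ _ _ _ J hJ u₀ ⟨u, hu⟩
  letI algC : Algebra C C' := u.toRingHom.toAlgebra
  have halg : ∀ c : C, algebraMap C C' c = u c := fun c => rfl
  haveI towerACC' : IsScalarTower A C C' :=
    IsScalarTower.of_algebraMap_eq (fun a => (u.commutes a).symm)
  let f : B →ₐ[A] C' := u.comp (IsScalarTower.toAlgHom A B C)
  have e : (Ideal.Quotient.mkₐ A J).comp f = IsScalarTower.toAlgHom A B (C' ⧸ J) := by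
    ext b
    have h1 := congrArg (fun g => g (algebraMap B C b)) hu
    simp only [AlgHom.comp_apply, AlgHom.restrictScalars_apply] at h1
    simp only [f, AlgHom.comp_apply, IsScalarTower.coe_toAlgHom']
    rw [h1, u₀.commutes]
  let δ : Derivation A B J := derivationToSquareZeroOfLift J hJ f e
  have hδ : ∀ b, ((δ b : J) : C') = u (algebraMap B C b) - algebraMap B C' b := fun b => rfl
  have hJJ : ∀ x y : C', x ∈ J → y ∈ J → x * y = 0 := by
    intro x y hx hy
    rw [← Ideal.mem_bot, ← hJ, pow_two]
    exact Ideal.mul_mem_mul hx hy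
  haveI towerBCJ : IsScalarTower B C J := by
    constructor
    intro b c j
    ext
    have h0 := hJJ _ _ (δ b).2 (J.mul_mem_left (u c) j.2)
    rw [hδ] at h0
    simp only [Submodule.coe_smul_of_tower, Algebra.smul_def, halg, map_mul]
    linear_combination h0
  let φ : C ⊗[B] Ω[B⁄A] →ₗ[C] J := LinearMap.liftBaseChange C δ.liftKaehlerDifferential
  let D : Derivation A C J := (φ ∘ₗ l).compDer (KaehlerDifferential.D A C)
  have hD : ∀ b : B, D (algebraMap B C b) = δ b := by
    intro b
    have h1 : KaehlerDifferential.D A C (algebraMap B C b) =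
        KaehlerDifferential.mapBaseChange A B C (1 ⊗ₜ KaehlerDifferential.D A B b) := by
      rw [KaehlerDifferential.mapBaseChange_tmul, one_smul, KaehlerDifferential.map_D]
    have h2 : l (KaehlerDifferential.D A C (algebraMap B C b)) =
        1 ⊗ₜ KaehlerDifferential.D A B b := by
      rw [h1]
      exact LinearMap.congr_fun hl _
    change φ (l (KaehlerDifferential.D A C (algebraMap B C b))) = δ b
    rw [h2]
    simp [φ]
  let v₀ : C →ₐ[A] C' := liftOfDerivationToSquareZero J hJ (-D)
  have hv₀ : ∀ c, v₀ c = -((D c : J) : C') + u c := by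
    intro c
    simp [v₀, liftOfDerivationToSquareZero_apply, halg]
  refine ⟨{ v₀ with commutes' := ?_ }, ?_⟩
  · intro b
    change v₀ (algebraMap B C b) = algebraMap B C' b
    rw [hv₀, hD, hδ]
    ring
  · ext c
    change Ideal.Quotient.mk J (v₀ c) = u₀ c
    rw [hv₀, map_add, map_neg, Ideal.Quotient.eq_zero_iff_mem.mpr (D c).2, neg_zero, zero_add]
    have h1 := congrArg (fun g => g c) hu
    simpa using h1

end Groth.Agent.H17
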