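import Groth.Agent.H17.FSRel

set_option autoImplicit false

namespace Groth.Agent.H17

open TensorProduct KaehlerDifferential

universe u

variable (A B C : Type u) [CommRing A] [CommRing B] [CommRing C] [Algebra A B] [Algebra B C]
  [Algebra A C] [IsScalarTower A B C]

/-- the twisted structure map `b ↦ (b, 1 ⊗ db)` into the square-zero extension
`C ⊕ (C ⊗_B Ω_{B/A})` -/
noncomputable def toExt : B →+* TrivSqZeroExt C (C ⊗[B] Ω[B⁄A]) where
  toFun b := TrivSqZeroExt.inl (algebraMap B C b) +
    TrivSqZeroExt.inr ((1 : C) ⊗ₜ[B] KaehlerDifferential.D A B b)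
  map_one' := by
    apply TrivSqZeroExt.ext
    · simp
    · simp
  map_mul' b b' := by
    apply TrivSqZeroExt.ext
    · simp
    · simp only [TrivSqZeroExt.snd_add, TrivSqZeroExt.snd_inl, TrivSqZeroExt.snd_inr, zero_add,
        TrivSqZeroExt.snd_mul, TrivSqZeroExt.fst_add, TrivSqZeroExt.fst_inl, TrivSqZeroExt.fst_inr,
        add_zero, Derivation.leibniz, TensorProduct.tmul_add, op_smul_eq_smul,
        TensorProduct.smul_tmul', smul_eq_mul, mul_one]
      rw [TensorProduct.tmul_smul, TensorProduct.tmul_smul, TensorProduct.smul_tmul',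
        TensorProduct.smul_tmul', Algebra.smul_def, Algebra.smul_def, mul_one, mul_one]
  map_zero' := by
    apply TrivSqZeroExt.ext
    · simp
    · simp
  map_add' b b' := by
    apply TrivSqZeroExt.ext
    · simp
    · simp [TensorProduct.tmul_add]

end Groth.Agent.H17

namespace Groth.Agent.H17

open TensorProduct KaehlerDifferential

universe u

variable (A B C : Type u) [CommRing A] [CommRing B] [CommRing C] [Algebra A B] [Algebra B C]
  [Algebra A C] [IsScalarTower A B C]

/-- The square-zero extension `C ⊕ (C ⊗_B Ω_{B/A})`, as a type synonym carrying the twisted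
`B`-algebra structure `b ↦ (b, 1 ⊗ db)`. -/
def Ext : Type u := TrivSqZeroExt C (C ⊗[B] Ω[B⁄A])

noncomputable instance : CommRing (Ext A B C) :=
  inferInstanceAs (CommRing (TrivSqZeroExt C (C ⊗[B] Ω[B⁄A])))

noncomputable instance : Algebra A (Ext A B C) :=
  inferInstanceAs (Algebra A (TrivSqZeroExt C (C ⊗[B] Ω[B⁄A])))

/-- the identity, as an `A`-algebra isomorphism -/
noncomputable def Ext.of : TrivSqZeroExt C (C ⊗[B] Ω[B⁄A]) ≃ₐ[A] Ext A B C := AlgEquiv.refl

noncomputable instance : Algebra B (Ext A B C) :=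
  (((Ext.of A B C : TrivSqZeroExt C (C ⊗[B] Ω[B⁄A]) →+* Ext A B C)).comp (toExt A B C)).toAlgebra

theorem Ext.algebraMap_B (b : B) :
    algebraMap B (Ext A B C) b = Ext.of A B C (toExt A B C b) := rfl

instance : IsScalarTower A B (Ext A B C) := by
  apply IsScalarTower.of_algebraMap_eq
  intro a
  rw [Ext.algebraMap_B, ← (Ext.of A B C).commutes a]
  congr 1
  apply TrivSqZeroExt.ext
  · simp [toExt, TrivSqZeroExt.algebraMap_eq_inl', ← IsScalarTower.algebraMap_apply A B C]
  · simp [toExt, TrivSqZeroExt.algebraMap_eq_inl']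

theorem exists_leftInverse_of_fsRel (h : EGA41.IsFormallySmoothRel A B C) :
    ∃ l : Ω[C⁄A] →ₗ[C] C ⊗[B] Ω[B⁄A],
      l ∘ₗ KaehlerDifferential.mapBaseChange A B C = LinearMap.id := by
  let M := C ⊗[B] Ω[B⁄A]
  let E := Ext A B C
  let of : TrivSqZeroExt C M ≃ₐ[A] E := Ext.of A B C
  let J : Ideal E := RingHom.ker
    ((TrivSqZeroExt.fstHom C C M).toRingHom.comp (of.symm : E →+* TrivSqZeroExt C M))
  have hJmem : ∀ x : E, x ∈ J ↔ (of.symm x).fst = 0 := fun x => Iff.rfl
  have hJ : J ^ 2 = ⊥ := by
    rw [pow_two, eq_bot_iff, Ideal.mul_le]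
    intro x hx y hy
    rw [hJmem] at hx hy
    rw [Ideal.mem_bot]
    apply of.symm.injective
    rw [map_mul, map_zero]
    apply TrivSqZeroExt.ext
    · simp [hx]
    · simp [hx, hy]
  let u₀ : C →ₐ[B] E ⧸ J :=
    { toRingHom := (Ideal.Quotient.mk J).comp
        ((of : TrivSqZeroExt C M →+* E).comp (TrivSqZeroExt.inlHom C M))
      commutes' := fun b => by
        change Ideal.Quotient.mk J (of (TrivSqZeroExt.inl (algebraMap B C b))) =
          Ideal.Quotient.mk J (algebraMap B E b)
        rw [Ideal.Quotient.eq, hJmem, Ext.algebraMap_B, ← map_sub, AlgEquiv.symm_apply_apply]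
        simp [toExt] }
  let u : C →ₐ[A] E := (of : TrivSqZeroExt C M →ₐ[A] E).comp (TrivSqZeroExt.inlAlgHom A C M)
  obtain ⟨v, hv⟩ := h E J hJ u₀ ⟨u, by ext c; rfl⟩
  have hfst : ∀ c, (of.symm (v c)).fst = c := by
    intro c
    have h1 : Ideal.Quotient.mk J (v c) = Ideal.Quotient.mk J (of (TrivSqZeroExt.inl c)) :=
      congrArg (fun g => g c) hv
    rw [Ideal.Quotient.eq, hJmem, map_sub, AlgEquiv.symm_apply_apply] at h1
    simpa [sub_eq_zero] using h1
  let vA : C →ₐ[A] TrivSqZeroExt C M := (of.symm : E →ₐ[A] TrivSqZeroExt C M).comp (v.restrictScalars A)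
  let D : Derivation A C M := Derivation.mk'
    ((TrivSqZeroExt.sndHom C M).restrictScalars A ∘ₗ vA.toLinearMap) (by
      intro c c'
      change (of.symm (v (c * c'))).snd = c • (of.symm (v c')).snd + c' • (of.symm (v c)).snd
      rw [map_mul, map_mul, TrivSqZeroExt.snd_mul, hfst, hfst, op_smul_eq_smul])
  have hD : ∀ b : B, D (algebraMap B C b) = (1 : C) ⊗ₜ[B] KaehlerDifferential.D A B b := by
    intro b
    change (of.symm (v (algebraMap B C b))).snd = _
    rw [v.commutes, Ext.algebraMap_B, AlgEquiv.symm_apply_apply]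
    simp [toExt]
  refine ⟨D.liftKaehlerDifferential, ?_⟩
  have key : ∀ ω : Ω[B⁄A], D.liftKaehlerDifferential (KaehlerDifferential.map A A B C ω) =
      (1 : C) ⊗ₜ[B] ω := by
    intro ω
    have : (D.liftKaehlerDifferential.restrictScalars B) ∘ₗ (KaehlerDifferential.map A A B C) =
        TensorProduct.mk B C Ω[B⁄A] 1 := by
      apply Derivation.liftKaehlerDifferential_unique
      ext b
      simp [hD]
      rfl
    exact LinearMap.congr_fun this ω
  apply LinearMap.ext
  intro x
  induction x using TensorProduct.induction_on with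
  | zero => simp
  | tmul c ω =>
    simp only [LinearMap.comp_apply, KaehlerDifferential.mapBaseChange_tmul, map_smul, key,
      LinearMap.id_apply, TensorProduct.smul_tmul', smul_eq_mul, mul_one]
  | add x y hx hy => rw [map_add, hx, hy, map_add]

end Groth.Agent.H17
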