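import Mathlib.AlgebraicGeometry.Morphisms.FinitePresentation
import Mathlib.AlgebraicGeometry.Morphisms.QuasiSeparated
import Mathlib.AlgebraicGeometry.Fiber
import Mathlib.AlgebraicGeometry.PullbackCarrier

set_option autoImplicit false

namespace Groth.Agent.H17

open Topology Set AlgebraicGeometry CategoryTheory TopologicalSpace Limits

universe u

variable {X Y S : Scheme.{u}}

/-- if `f ≫ g` is locally of finite presentation and `g` is locally of finite type then `f` is
locally of finite presentation -/
theorem locallyOfFinitePresentation_of_comp (f : X ⟶ Y) (g : Y ⟶ S) [LocallyOfFiniteType g]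
    [LocallyOfFinitePresentation (f ≫ g)] : LocallyOfFinitePresentation f := by
  rw [HasRingHomProperty.iff_exists_appLE (P := @LocallyOfFinitePresentation)
    (RingHom.finitePresentation_stableUnderComposition.stableUnderCompositionWithLocalizationAway
      RingHom.finitePresentation_holdsForLocalizationAway).left]
  intro x
  obtain ⟨U, hU, hxU, -⟩ := Opens.isBasis_iff_nbhd.mp S.isBasis_affineOpens
    (Opens.mem_top (g.base (f.base x)))
  obtain ⟨V, hV, hxV, e₁⟩ := Opens.isBasis_iff_nbhd.mp Y.isBasis_affineOpens
    (show f.base x ∈ g ⁻¹ᵁ U from hxU)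
  obtain ⟨W, hW, hxW, e₂⟩ := Opens.isBasis_iff_nbhd.mp X.isBasis_affineOpens
    (show x ∈ f ⁻¹ᵁ V from hxV)
  refine ⟨⟨V, hV⟩, ⟨W, hW⟩, hxW, e₂, ?_⟩
  have h1 := (f ≫ g).finitePresentation_appLE hU hW
    (e₂.trans ((Opens.map f.base).map (homOfLE e₁)).le)
  have h2 := g.finiteType_appLE hU hV e₁
  rw [← Scheme.Hom.appLE_comp_appLE f g U V W e₁ e₂, CommRingCat.hom_comp] at h1
  exact RingHom.FinitePresentation.of_comp_finiteType _ h1 h2

end Groth.Agent.H17

namespace Groth.Agent.H17

open Topology Set AlgebraicGeometry CategoryTheory TopologicalSpace Limits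

universe u

variable {X Y S : Scheme.{u}}

/-- the morphism induced on fibres over `s` -/
noncomputable abbrev fibreMap (f : X ⟶ Y) (g : Y ⟶ S) (s : S) :
    pullback (f ≫ g) (S.fromSpecResidueField s) ⟶ pullback g (S.fromSpecResidueField s) :=
  pullback.lift (pullback.fst (f ≫ g) (S.fromSpecResidueField s) ≫ f)
    (pullback.snd (f ≫ g) (S.fromSpecResidueField s))
    ((Category.assoc _ _ _).trans pullback.condition)

theorem fibreMap_surjective_iff (f : X ⟶ Y) (g : Y ⟶ S) (s : S) :
    Function.Surjective (fibreMap f g s).base ↔ ∀ y : Y, g.base y = s → y ∈ Set.range f.base := by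
  have hcomm : fibreMap f g s ≫ g.fiberι s = (f ≫ g).fiberι s ≫ f := pullback.lift_fst _ _ _
  have hpt : ∀ x', (g.fiberι s).base ((fibreMap f g s).base x') =
      f.base (((f ≫ g).fiberι s).base x') := by
    intro x'
    have h1 : (fibreMap f g s ≫ g.fiberι s).base x' = ((f ≫ g).fiberι s ≫ f).base x' :=
      congrArg (fun h : pullback (f ≫ g) (S.fromSpecResidueField s) ⟶ Y => h.base x') hcomm
    exact h1
  have hrY : Set.range (g.fiberι s).base = g.base ⁻¹' {s} := g.range_fiberι s
  have hrX : Set.range ((f ≫ g).fiberι s).base = (f ≫ g).base ⁻¹' {s} := (f ≫ g).range_fiberι s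
  have hinj : Function.Injective (g.fiberι s).base := (g.fiberι s).isEmbedding.injective
  constructor
  · intro hsurj y hy
    have hy' : y ∈ Set.range (g.fiberι s).base := by rw [hrY]; exact hy
    obtain ⟨y', rfl⟩ := hy'
    obtain ⟨x', rfl⟩ := hsurj y'
    exact ⟨_, (hpt x').symm⟩
  · intro h y'
    have hy : (g.fiberι s).base y' ∈ g.base ⁻¹' {s} := by rw [← hrY]; exact mem_range_self y'
    obtain ⟨x, hx⟩ := h _ hy
    have hxs : x ∈ (f ≫ g).base ⁻¹' {s} := by
      change (f ≫ g).base x = s
      rw [Scheme.Hom.comp_base, TopCat.comp_app, hx]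
      exact hy
    rw [← hrX] at hxs
    obtain ⟨x', rfl⟩ := hxs
    refine ⟨x', hinj ?_⟩
    rw [hpt x', hx]

theorem isLocallyConstructible_compl' {T : Type*} [TopologicalSpace T] {s : Set T}
    (hs : IsLocallyConstructible s) : IsLocallyConstructible sᶜ := by
  intro x
  obtain ⟨U, hU, hUo, hc⟩ := hs x
  exact ⟨U, hU, hUo, by rw [preimage_compl]; exact hc.compl⟩

theorem isLocallyConstructible_setOf_fibreMap_surjective (f : X ⟶ Y) (g : Y ⟶ S)
    [LocallyOfFinitePresentation g] [QuasiCompact g] [QuasiSeparated g]
    [LocallyOfFinitePresentation (f ≫ g)] [QuasiCompact (f ≫ g)] [QuasiSeparated (f ≫ g)] :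
    IsLocallyConstructible {s : S | Function.Surjective (fibreMap f g s).base} := by
  have hfp : LocallyOfFinitePresentation f := locallyOfFinitePresentation_of_comp f g
  have hqc : QuasiCompact f := QuasiCompact.of_comp f g
  have h1 : IsLocallyConstructible (Set.range f.base) := by
    have := f.isLocallyConstructible_image (s := Set.univ) IsLocallyConstructible.univ
    rwa [Set.image_univ] at this
  have h2 : IsLocallyConstructible (g.base '' (Set.range f.base)ᶜ) :=
    g.isLocallyConstructible_image (isLocallyConstructible_compl' h1)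
  have heq : {s : S | Function.Surjective (fibreMap f g s).base} =
      (g.base '' (Set.range f.base)ᶜ)ᶜ := by
    ext s
    rw [Set.mem_ofPred_eq, fibreMap_surjective_iff]
    simp only [mem_compl_iff, mem_image, not_exists, not_and]
    constructor
    · intro h y hy hgy
      exact hy (h y hgy)
    · intro h y hgy
      by_contra hy
      exact h y hy hgy
  rw [heq]
  exact isLocallyConstructible_compl' h2

end Groth.Agent.H17
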