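import Mathlib

set_option autoImplicit false

namespace Groth.Agent.H17

open Submodule

universe u v

variable {A : Type u} {L : Type v} [CommRing A] [AddCommGroup L] [Module A L]

/-- sequential criterion for independence of an `ℕ`-indexed family of submodules -/
theorem iSupIndep_of_disjoint_lt (D F : ℕ → Submodule A L) (hF : Monotone F)
    (hDF : ∀ k, D k ≤ F k) (hdisj : ∀ k, Disjoint (D (k + 1)) (F k)) : iSupIndep D := by
  classical
  rw [iSupIndep_iff_finsetSum_eq_zero_imp_eq_zero]
  intro s
  induction s using Finset.induction_on_max with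
  | empty => intro v _ _ i hi; simp at hi
  | insert m s hlt ih =>
    intro v hv hsum i hi
    have hm : m ∉ s := fun h => lt_irrefl _ (hlt m h)
    rw [Finset.sum_insert hm] at hsum
    have hvm : v m = 0 := by
      have h1 : v m = -∑ i ∈ s, v i := eq_neg_of_add_eq_zero_left hsum
      rcases Nat.eq_zero_or_pos m with h0 | hpos
      · have : s = ∅ := by
          apply Finset.eq_empty_of_forall_notMem
          intro x hx
          have := hlt x hx
          omega
        rw [h1, this]; simp
      · obtain ⟨k, rfl⟩ : ∃ k, m = k + 1 := ⟨m - 1, by omega⟩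
        have h2 : v (k + 1) ∈ F k := by
          rw [h1]
          apply Submodule.neg_mem
          apply Submodule.sum_mem
          intro j hj
          have hjk : j ≤ k := by have := hlt j hj; omega
          exact hF hjk (hDF j (hv j (Finset.mem_insert_of_mem hj)))
        exact (Submodule.disjoint_def.mp (hdisj k)) _ (hv _ (Finset.mem_insert_self _ _)) h2
    rw [hvm, zero_add] at hsum
    rcases Finset.mem_insert.mp hi with rfl | his
    · exact hvm
    · exact ih v (fun j hj => hv j (Finset.mem_insert_of_mem hj)) hsum i his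

/-- A module with an exhaustive `ℕ`-filtration whose graded pieces are free is free. -/
theorem free_of_filtration (F : ℕ → Submodule A L) (hmono : Monotone F)
    (h0 : Module.Free A (F 0))
    (hsucc : ∀ k, Module.Free A (↥(F (k + 1)) ⧸ (F k).comap (F (k + 1)).subtype))
    (hsup : ⨆ k, F k = ⊤) : Module.Free A L := by
  classical
  have hlift : ∀ k, ∃ s : (↥(F (k + 1)) ⧸ (F k).comap (F (k + 1)).subtype) →ₗ[A] ↥(F (k + 1)),
      ((F k).comap (F (k + 1)).subtype).mkQ ∘ₗ s = LinearMap.id := fun k =>
    Module.projective_lifting_property _ _ (Submodule.mkQ_surjective _)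
  choose s hs using hlift
  have hs' : ∀ k q, ((F k).comap (F (k + 1)).subtype).mkQ (s k q) = q := fun k q =>
    LinearMap.congr_fun (hs k) q
  let D : ℕ → Submodule A L := fun n =>
    match n with
    | 0 => F 0
    | k + 1 => LinearMap.range ((F (k + 1)).subtype ∘ₗ s k)
  have hD0 : D 0 = F 0 := rfl
  have hDs : ∀ k, D (k + 1) = LinearMap.range ((F (k + 1)).subtype ∘ₗ s k) := fun k => rfl
  have hDF : ∀ k, D k ≤ F k := by
    intro k
    cases k with
    | zero => exact le_of_eq hD0
    | succ k =>
      rw [hDs]
      rintro _ ⟨q, rfl⟩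
      exact (s k q).2
  have hdisj : ∀ k, Disjoint (D (k + 1)) (F k) := by
    intro k
    rw [Submodule.disjoint_def]
    rintro x hx hxF
    rw [hDs] at hx
    obtain ⟨q, rfl⟩ := hx
    have hmem : s k q ∈ (F k).comap (F (k + 1)).subtype := hxF
    have hq : q = 0 := by
      rw [← hs' k q]
      exact (Submodule.Quotient.mk_eq_zero _).mpr hmem
    simp [hq]
  have hstep : ∀ k, F (k + 1) ≤ F k ⊔ D (k + 1) := by
    intro k y hy
    let y' : ↥(F (k + 1)) := ⟨y, hy⟩
    let q := ((F k).comap (F (k + 1)).subtype).mkQ y'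
    have hker : y' - s k q ∈ (F k).comap (F (k + 1)).subtype := by
      rw [← Submodule.Quotient.mk_eq_zero, Submodule.Quotient.mk_sub]
      have := hs' k q
      simp only [Submodule.mkQ_apply] at this
      rw [this]
      simp [q]
    have hker' : y - (s k q : L) ∈ F k := hker
    have : y = (y - (s k q : L)) + (s k q : L) := by abel
    rw [this]
    refine Submodule.add_mem_sup hker' ?_
    rw [hDs]
    exact ⟨q, rfl⟩
  have hFle : ∀ k, F k ≤ ⨆ j, D j := by
    intro k
    induction k with
    | zero => rw [← hD0]; exact le_iSup D 0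
    | succ k ih => exact (hstep k).trans (sup_le ih (le_iSup D (k + 1)))
  have htop : ⨆ j, D j = ⊤ := by
    apply top_le_iff.mp
    rw [← hsup]
    exact iSup_le hFle
  have hind : iSupIndep D := iSupIndep_of_disjoint_lt D F hmono hDF hdisj
  have hint : DirectSum.IsInternal D :=
    DirectSum.isInternal_submodule_of_iSupIndep_of_iSup_eq_top hind htop
  have hfree : ∀ j, Module.Free A ↥(D j) := by
    intro j
    cases j with
    | zero => exact h0
    | succ k =>
      have hinj : Function.Injective ((F (k + 1)).subtype ∘ₗ s k) := by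
        intro a b hab
        have h1 : s k a = s k b := Subtype.ext hab
        rw [← hs' k a, ← hs' k b, h1]
      exact Module.Free.of_equiv (LinearEquiv.ofInjective _ hinj)
  exact Module.Free.of_basis (hint.collectedBasis fun j => Module.Free.chooseBasis A (D j))

/-- Variant with the graded pieces given by surjections onto free modules. -/
theorem free_of_filtration' {P : ℕ → Type*} [∀ k, AddCommGroup (P k)] [∀ k, Module A (P k)]
    [∀ k, Module.Free A (P k)]
    (F : ℕ → Submodule A L) (hmono : Monotone F) (h0 : Module.Free A (F 0))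
    (p : ∀ k, ↥(F (k + 1)) →ₗ[A] P k) (hp : ∀ k, Function.Surjective (p k))
    (hker : ∀ k, LinearMap.ker (p k) = (F k).comap (F (k + 1)).subtype)
    (hsup : ⨆ k, F k = ⊤) : Module.Free A L := by
  refine free_of_filtration F hmono h0 (fun k => ?_) hsup
  have e : (↥(F (k + 1)) ⧸ (F k).comap (F (k + 1)).subtype) ≃ₗ[A] P k :=
    (Submodule.quotEquivOfEq _ _ (hker k).symm).trans ((p k).quotKerEquivOfSurjective (hp k))
  exact Module.Free.of_equiv e.symm

/-- Abstract version: modules `N k` with injective maps to `L`, jointly surjective. -/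
theorem free_of_abstract_filtration {N P : ℕ → Type*}
    [∀ k, AddCommGroup (N k)] [∀ k, Module A (N k)]
    [∀ k, AddCommGroup (P k)] [∀ k, Module A (P k)] [∀ k, Module.Free A (P k)]
    (i : ∀ k, N k →ₗ[A] L) (hi : ∀ k, Function.Injective (i k))
    (j : ∀ k, N k →ₗ[A] N (k + 1)) (hij : ∀ k, i (k + 1) ∘ₗ j k = i k)
    (h0 : Module.Free A (N 0))
    (p : ∀ k, N (k + 1) →ₗ[A] P k) (hp : ∀ k, Function.Surjective (p k))
    (hker : ∀ k, LinearMap.ker (p k) = LinearMap.range (j k))
    (hsup : ⨆ k, LinearMap.range (i k) = ⊤) : Module.Free A L := by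
  let F : ℕ → Submodule A L := fun k => LinearMap.range (i k)
  let e : ∀ k, N k ≃ₗ[A] ↥(F k) := fun k => LinearEquiv.ofInjective (i k) (hi k)
  have hFsucc : ∀ k, F k ≤ F (k + 1) := by
    rintro k _ ⟨n, rfl⟩
    exact ⟨j k n, LinearMap.congr_fun (hij k) n⟩
  have hmono : Monotone F := monotone_nat_of_le_succ hFsucc
  have h0' : Module.Free A ↥(F 0) := Module.Free.of_equiv (e 0)
  refine free_of_filtration' (P := P) F hmono h0' (fun k => (p k) ∘ₗ (e (k + 1)).symm.toLinearMap)
    (fun k => (hp k).comp (e (k + 1)).symm.surjective) (fun k => ?_) hsup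
  ext ⟨x, hx⟩
  obtain ⟨n, rfl⟩ := hx
  have hen : (e (k + 1)).symm ⟨i (k + 1) n, ⟨n, rfl⟩⟩ = n := by
    apply (e (k + 1)).injective
    rw [LinearEquiv.apply_symm_apply]
    rfl
  simp only [LinearMap.mem_ker, LinearMap.coe_comp, LinearEquiv.coe_coe, Function.comp_apply,
    Submodule.mem_comap, Submodule.subtype_apply]
  rw [hen]
  constructor
  · intro h
    have : n ∈ LinearMap.ker (p k) := h
    rw [hker] at this
    obtain ⟨m, rfl⟩ := this
    exact ⟨m, (LinearMap.congr_fun (hij k) m).symm⟩
  · rintro ⟨m, hm⟩
    have hm' : i (k + 1) (j k m) = i (k + 1) n := by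
      rw [← hm]; exact LinearMap.congr_fun (hij k) m
    have : n = j k m := (hi (k + 1) hm').symm
    have h2 : n ∈ LinearMap.ker (p k) := by rw [hker, this]; exact ⟨m, rfl⟩
    exact h2

end Groth.Agent.H17
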