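import Groth.Agent.H17.GenFreeTorsion

set_option autoImplicit false

namespace Groth.Agent.H17

open Submodule TensorProduct

universe u

/-- Noetherian approximation of a finitely presented algebra. -/
theorem exists_noetherian_model' (A B : Type u) [CommRing A] [CommRing B] [Algebra A B]
    [Algebra.FinitePresentation A B] :
    ∃ (A₀ : Subalgebra ℤ A) (B₀ : Type u) (_ : CommRing B₀) (_ : Algebra A₀ B₀),
      A₀.FG ∧ Algebra.FinitePresentation A₀ B₀ ∧ Nonempty (B ≃ₐ[A] A ⊗[A₀] B₀) := by
  let P := Algebra.Presentation.ofFinitePresentation A B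
  let A₀ : Subalgebra ℤ A := Algebra.adjoin ℤ P.coeffs
  have : P.HasCoeffs A₀ := ⟨by simp [A₀]⟩
  exact ⟨A₀, (P.ModelOfHasCoeffs A₀:), inferInstance, inferInstance,
    ⟨P.finite_coeffs.toFinset, by simp [A₀]⟩, inferInstance,
    ⟨(P.tensorModelOfHasCoeffsEquiv A₀).symm⟩⟩

/-- strong generic freeness passes along base change `R₀ → R`. -/
theorem free_baseChange_of_genFree {R₀ R : Type u} [CommRing R₀] [CommRing R] [Algebra R₀ R]
    {N₀ : Type u} [AddCommGroup N₀] [Module R₀ N₀] (h : GenFree R₀ N₀) :
    ∃ a₀ : R₀, a₀ ≠ 0 ∧ ∀ (R' : Type u) [CommRing R'] [Algebra R R'],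
      IsUnit (algebraMap R R' (algebraMap R₀ R a₀)) → Module.Free R' (R' ⊗[R] (R ⊗[R₀] N₀)) := by
  obtain ⟨a₀, ha₀, h₀⟩ := h
  refine ⟨a₀, ha₀, fun R' _ _ hu => ?_⟩
  let R₀' := Localization.Away a₀
  have hfree : Module.Free R₀' (R₀' ⊗[R₀] N₀) :=
    h₀ R₀' (IsLocalization.Away.algebraMap_isUnit a₀)
  letI alg0 : Algebra R₀ R' := ((algebraMap R R').comp (algebraMap R₀ R)).toAlgebra
  haveI t0 : IsScalarTower R₀ R R' := IsScalarTower.of_algebraMap_eq (fun _ => rfl)
  have hu' : IsUnit (algebraMap R₀ R' a₀) := hu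
  letI alg1 : Algebra R₀' R' := (IsLocalization.Away.lift (S := R₀') a₀ hu').toAlgebra
  haveI t1 : IsScalarTower R₀ R₀' R' := IsScalarTower.of_algebraMap_eq (fun x => by
    change _ = IsLocalization.Away.lift (S := R₀') a₀ hu' (algebraMap R₀ R₀' x)
    rw [IsLocalization.Away.lift_eq])
  let e1 : R' ⊗[R] (R ⊗[R₀] N₀) ≃ₗ[R'] R' ⊗[R₀] N₀ :=
    TensorProduct.AlgebraTensorModule.cancelBaseChange R₀ R R' R' N₀
  let e2 : R' ⊗[R₀'] (R₀' ⊗[R₀] N₀) ≃ₗ[R'] R' ⊗[R₀] N₀ :=
    TensorProduct.AlgebraTensorModule.cancelBaseChange R₀ R₀' R' R' N₀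
  exact Module.Free.of_equiv (e2.trans e1.symm)

/-- strong generic freeness of finitely presented algebras over an arbitrary domain -/
theorem free_baseChange_of_finitePresentation (R : Type u) [CommRing R] [IsDomain R]
    (S : Type u) [CommRing S] [Algebra R S] [Algebra.FinitePresentation R S] :
    ∃ a : R, a ≠ 0 ∧ ∀ (R' : Type u) [CommRing R'] [Algebra R R'],
      IsUnit (algebraMap R R' a) → Module.Free R' (R' ⊗[R] S) := by
  obtain ⟨R₀, S₀, _, _, hfg, hfp, ⟨e⟩⟩ := exists_noetherian_model' R S
  have hft : Algebra.FiniteType ℤ R₀ := (Subalgebra.fg_iff_finiteType R₀).mp hfg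
  have hN : IsNoetherianRing R₀ := Algebra.FiniteType.isNoetherianRing ℤ R₀
  have hgf : GenFree R₀ S₀ := genFree_of_finiteType R₀ S₀ S₀
  obtain ⟨a₀, ha₀, h₀⟩ := free_baseChange_of_genFree (R := R) hgf
  refine ⟨algebraMap R₀ R a₀, ?_, fun R' _ _ hu => ?_⟩
  · intro h
    apply ha₀
    exact Subtype.ext h
  · have := h₀ R' hu
    exact Module.Free.of_equiv (e.toLinearEquiv.baseChange R R' _ _).symm

/-- generic freeness of finite type algebras over an arbitrary domain -/
theorem genFree_of_finiteType_algebra (R : Type u) [CommRing R] [IsDomain R]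
    (S : Type u) [CommRing S] [Algebra R S] [Algebra.FiniteType R S] : GenFree R S := by
  obtain ⟨n, f, hf⟩ := Algebra.FiniteType.iff_quotient_mvPolynomial''.mp
    (inferInstance : Algebra.FiniteType R S)
  let P := MvPolynomial (Fin n) R
  let I : Ideal P := RingHom.ker f.toRingHom
  obtain ⟨g, hgI, hg⟩ := exists_finset_torsion_quotient n (N := P) (I : Submodule P P)
  let J : Ideal P := Ideal.span (g : Set P)
  have hJI : J ≤ I := Ideal.span_le.mpr hgI
  let S' := P ⧸ J
  have hfp : Algebra.FinitePresentation R S' :=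
    Algebra.FinitePresentation.quotient ⟨g, rfl⟩
  obtain ⟨a, ha, h⟩ := free_baseChange_of_finitePresentation R S'
  have hS' : GenFree R S' := ⟨a, ha, fun R' _ _ _ hu => h R' hu⟩
  let φ : S' →ₐ[R] S := Ideal.Quotient.liftₐ J f (fun x hx => hJI hx)
  have hφ : Function.Surjective φ := by
    intro s
    obtain ⟨p, rfl⟩ := hf s
    exact ⟨Ideal.Quotient.mk J p, rfl⟩
  refine GenFree.of_surjective_of_torsion φ.toLinearMap hφ ?_ hS'
  intro x hx
  obtain ⟨p, rfl⟩ := Ideal.Quotient.mk_surjective x
  have hp : p ∈ I := by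
    have : φ (Ideal.Quotient.mk J p) = 0 := hx
    exact this
  obtain ⟨r, hr, hrp⟩ := hg p hp
  refine ⟨r, hr, ?_⟩
  have h1 : r • (Ideal.Quotient.mk J p) = Ideal.Quotient.mk J (MvPolynomial.C r * p) := by
    rw [← MvPolynomial.smul_eq_C_mul]
    rfl
  rw [h1, Ideal.Quotient.eq_zero_iff_mem]
  exact hrp

section modules

variable (R : Type u) [CommRing R] [IsDomain R] (S : Type u) [CommRing S] [Algebra R S]
  [Algebra.FiniteType R S]

theorem genFree_of_cyclic {M : Type u} [AddCommGroup M] [Module R M] [Module S M]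
    [IsScalarTower R S M] (m : M) (hm : Submodule.span S {m} = ⊤) : GenFree R M := by
  let φ : S →ₗ[S] M := LinearMap.toSpanSingleton S M m
  have hφ : Function.Surjective φ := by
    intro y
    have hy : y ∈ Submodule.span S {m} := by rw [hm]; trivial
    obtain ⟨c, rfl⟩ := Submodule.mem_span_singleton.mp hy
    exact ⟨c, rfl⟩
  let J : Ideal S := LinearMap.ker φ
  have hft : Algebra.FiniteType R (S ⧸ J) :=
    Algebra.FiniteType.of_surjective (Ideal.Quotient.mkₐ R J) Ideal.Quotient.mk_surjective
  have h1 : GenFree R (S ⧸ J) := genFree_of_finiteType_algebra R (S ⧸ J)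
  let e : (S ⧸ J) ≃ₗ[S] M := φ.quotKerEquivOfSurjective hφ
  exact GenFree.of_equiv (e.restrictScalars R) h1

theorem genFree_of_fg_aux (n : ℕ) : ∀ (M : Type u) [AddCommGroup M] [Module R M] [Module S M]
    [IsScalarTower R S M],
    (∃ s : Finset M, s.card ≤ n ∧ Submodule.span S (s : Set M) = ⊤) → GenFree R M := by
  classical
  induction n with
  | zero =>
    intro M _ _ _ _ ⟨s, hcard, hs⟩
    have hs0 : s = ∅ := Finset.card_eq_zero.mp (Nat.le_zero.mp hcard)
    subst hs0
    have : Subsingleton M := by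
      rw [← Submodule.subsingleton_iff S, ← subsingleton_iff_bot_eq_top, ← hs]
      simp
    exact GenFree.of_free
  | succ n ih =>
    intro M _ _ _ _ ⟨s, hcard, hs⟩
    rcases s.eq_empty_or_nonempty with rfl | ⟨m, hm⟩
    · exact ih M ⟨∅, by simp, hs⟩
    let N : Submodule S M := Submodule.span S {m}
    have h' : GenFree R ↥N := by
      refine genFree_of_cyclic R S (⟨m, Submodule.mem_span_singleton_self m⟩ : ↥N) ?_
      apply top_le_iff.mp
      rintro ⟨y, hy⟩ -
      obtain ⟨c, rfl⟩ := Submodule.mem_span_singleton.mp hy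
      exact Submodule.mem_span_singleton.mpr ⟨c, rfl⟩
    have h'' : GenFree R (M ⧸ N) := by
      refine ih (M ⧸ N) ⟨(s.erase m).image N.mkQ, ?_, ?_⟩
      · refine Finset.card_image_le.trans ?_
        rw [Finset.card_erase_of_mem hm]
        omega
      · apply top_le_iff.mp
        rintro y -
        obtain ⟨x, rfl⟩ := N.mkQ_surjective y
        have hx : x ∈ Submodule.span S (s : Set M) := by rw [hs]; trivial
        rw [Finset.coe_image, ← Submodule.map_span]
        induction hx using Submodule.span_induction with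
        | mem z hz =>
          by_cases hzm : z = m
          · subst hzm
            have : N.mkQ z = 0 := by
              simp only [Submodule.mkQ_apply, Submodule.Quotient.mk_eq_zero]
              exact Submodule.mem_span_singleton_self z
            rw [this]; exact Submodule.zero_mem _
          · exact Submodule.mem_map_of_mem
              (Submodule.subset_span (Finset.mem_erase.mpr ⟨hzm, hz⟩))
        | zero => rw [map_zero]; exact Submodule.zero_mem _
        | add a b _ _ ha hb => rw [map_add]; exact Submodule.add_mem _ ha hb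
        | smul c a _ ha => rw [map_smul]; exact Submodule.smul_mem _ c ha
    exact GenFree.of_exact (N.subtype.restrictScalars R) (N.mkQ.restrictScalars R)
      (Submodule.subtype_injective N) N.mkQ_surjective
      (LinearMap.exact_subtype_mkQ N) h' h''

/-- **Generic freeness**: a finite module over a finite type algebra over an arbitrary domain is
generically free. -/
theorem genFree_of_finite_of_finiteType (M : Type u) [AddCommGroup M] [Module R M] [Module S M]
    [IsScalarTower R S M] [Module.Finite S M] : GenFree R M := by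
  obtain ⟨s, hs⟩ := (Module.finite_def.mp ‹Module.Finite S M›)
  exact genFree_of_fg_aux R S s.card M ⟨s, le_rfl, hs⟩

end modules

end Groth.Agent.H17
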