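import Groth.Agent.H17.PdBaseChange

/-!
# Openness of the locus where the projective dimension is `≤ n`
-/

set_option autoImplicit false

namespace Groth.Agent.H17.PdLocus

open CategoryTheory PdBC

universe u

variable (A : Type u) [CommRing A]

/-- the localized module as an object of `ModuleCat A_p` -/
abbrev locMod (M : Type u) [AddCommGroup M] [Module A M] (p : PrimeSpectrum A) :
    ModuleCat.{u} (Localization.AtPrime p.asIdeal) :=
  ModuleCat.of (Localization.AtPrime p.asIdeal) (LocalizedModule p.asIdeal.primeCompl M)

theorem pd_le_zero_iff (M : Type u) [AddCommGroup M] [Module A M] [Module.Finite A M]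
    (p : PrimeSpectrum A) :
    projectiveDimension (locMod A M p) ≤ ((0 : ℕ) : WithBot ℕ∞) ↔ p ∈ Module.freeLocus A M := by
  rw [projectiveDimension_le_iff, ← projective_iff_hasProjectiveDimensionLE_zero,
    ← IsProjective.iff_projective, Module.mem_freeLocus]
  constructor
  · intro h
    exact Module.free_of_flat_of_isLocalRing
  · intro h
    infer_instance

/-- dimension shifting along a finite free presentation, after localizing -/
theorem pd_le_succ_iff {M F : Type u} [AddCommGroup M] [Module A M] [AddCommGroup F] [Module A F]
    [Module.Free A F] (f : F →ₗ[A] M) (hf : Function.Surjective f) (n : ℕ)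
    (p : PrimeSpectrum A) :
    projectiveDimension (locMod A M p) ≤ ((n + 1 : ℕ) : WithBot ℕ∞) ↔
      projectiveDimension (locMod A (LinearMap.ker f) p) ≤ (n : WithBot ℕ∞) := by
  set S := p.asIdeal.primeCompl
  set Ap := Localization.AtPrime p.asIdeal
  let K := LinearMap.ker f
  let g₁ : LocalizedModule S K →ₗ[Ap] LocalizedModule S F :=
    IsLocalizedModule.mapExtendScalars S (LocalizedModule.mkLinearMap S K)
      (LocalizedModule.mkLinearMap S F) Ap K.subtype
  let g₂ : LocalizedModule S F →ₗ[Ap] LocalizedModule S M :=
    IsLocalizedModule.mapExtendScalars S (LocalizedModule.mkLinearMap S F)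
      (LocalizedModule.mkLinearMap S M) Ap f
  have hinj : Function.Injective g₁ :=
    IsLocalizedModule.map_injective S (LocalizedModule.mkLinearMap S K)
      (LocalizedModule.mkLinearMap S F) K.subtype Subtype.val_injective
  have hsurj : Function.Surjective g₂ :=
    IsLocalizedModule.map_surjective S (LocalizedModule.mkLinearMap S F)
      (LocalizedModule.mkLinearMap S M) f hf
  have hex : Function.Exact g₁ g₂ :=
    IsLocalizedModule.map_exact S (LocalizedModule.mkLinearMap S K)
      (LocalizedModule.mkLinearMap S F) (LocalizedModule.mkLinearMap S M) K.subtype f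
      (LinearMap.exact_subtype_ker_map f)
  have hS := shortExact_of_exact (A := Ap) g₁ g₂ hinj hsurj hex
  have hproj : Projective (ModuleCat.of Ap (LocalizedModule S F)) :=
    (IsProjective.iff_projective _).mp inferInstance
  have key := hS.hasProjectiveDimensionLT_X₃_iff n hproj
  rw [projectiveDimension_le_iff, projectiveDimension_le_iff]
  exact key

variable [IsNoetherianRing A]

theorem isOpen_pd_le : ∀ (n : ℕ) (M : Type u) [AddCommGroup M] [Module A M] [Module.Finite A M],
    IsOpen {p : PrimeSpectrum A | projectiveDimension (locMod A M p) ≤ (n : WithBot ℕ∞)} := by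
  intro n
  induction n with
  | zero =>
    intro M _ _ _
    have : {p : PrimeSpectrum A | projectiveDimension (locMod A M p) ≤ ((0 : ℕ) : WithBot ℕ∞)} =
        Module.freeLocus A M := by
      ext p
      exact pd_le_zero_iff A M p
    rw [this]
    have : Module.FinitePresentation A M := Module.finitePresentation_of_finite A M
    exact Module.isOpen_freeLocus
  | succ n ih =>
    intro M _ _ _
    obtain ⟨k, f, hf⟩ := Module.Finite.exists_fin' A M
    have : {p : PrimeSpectrum A |
        projectiveDimension (locMod A M p) ≤ ((n + 1 : ℕ) : WithBot ℕ∞)} =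
        {p : PrimeSpectrum A |
          projectiveDimension (locMod A (LinearMap.ker f) p) ≤ (n : WithBot ℕ∞)} := by
      ext p
      exact pd_le_succ_iff A f hf n p
    rw [this]
    exact ih (LinearMap.ker f)

end Groth.Agent.H17.PdLocus
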