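import Groth.Agent.H17.Lambda
import Mathlib.RingTheory.PowerSeries.Substitution
import Mathlib.RingTheory.PowerSeries.WellKnown

set_option autoImplicit false

namespace Groth.Agent.H17

open LambdaRing PowerSeries Finset

universe u

section general

variable (K : Type u) [CommRing K]

/-- the series `t/(1-t)` -/
noncomputable def uSer : K⟦X⟧ := X * mk 1

theorem uSer_hasSubst : HasSubst (uSer K) :=
  HasSubst.of_constantCoeff_zero' (by simp [uSer])

theorem uSer_mul_one_sub : uSer K * (1 - X) = X := by
  rw [uSer, mul_assoc, mk_one_mul_one_sub_eq_one, mul_one]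

theorem one_add_uSer : (1 : K⟦X⟧) + uSer K = mk 1 := by
  ext n
  rcases n with _ | n
  · simp [uSer]
  · simp [uSer, coeff_succ_X_mul, coeff_one]

theorem one_add_uSer_mul : ((1 : K⟦X⟧) + uSer K) * (1 - X) = 1 := by
  rw [one_add_uSer, mk_one_mul_one_sub_eq_one]

theorem coeff_uSer_pow (j k : ℕ) (hj : j ≠ 0) (hk : k ≠ 0) :
    coeff k ((uSer K) ^ j) = ((k - 1).choose (j - 1) : K) := by
  obtain ⟨d, rfl⟩ := Nat.exists_eq_succ_of_ne_zero hj
  rw [uSer, mul_pow, mk_one_pow_eq_mk_choose_add, coeff_X_pow_mul']
  split_ifs with h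
  · simp only [coeff_mk, Nat.add_sub_cancel, Nat.succ_eq_add_one]
    congr 2
    omega
  · have : k - 1 < d + 1 - 1 := by omega
    rw [Nat.choose_eq_zero_of_lt this]
    simp

theorem coeff_zero_uSer_pow (j : ℕ) (hj : j ≠ 0) : coeff 0 ((uSer K) ^ j) = 0 := by
  obtain ⟨d, rfl⟩ := Nat.exists_eq_succ_of_ne_zero hj
  rw [uSer, mul_pow, coeff_X_pow_mul']
  simp

variable {K}

theorem coeff_subst_uSer (f : K⟦X⟧) (k : ℕ) :
    coeff k (f.subst (uSer K)) =
      if k = 0 then coeff 0 f else
        ∑ j ∈ range (k + 1), ((k - 1).choose (j - 1) : K) * (if j = 0 then 0 else coeff j f) := by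
  rw [coeff_subst' (uSer_hasSubst K)]
  split_ifs with hk
  · subst hk
    rw [finsum_eq_single _ 0]
    · simp
    · intro j hj
      rw [coeff_zero_uSer_pow K j hj, smul_zero]
  · rw [finsum_eq_sum_of_support_subset (s := range (k + 1))]
    · apply Finset.sum_congr rfl
      intro j _
      by_cases hj : j = 0
      · subst hj
        simp [coeff_one, hk]
      · rw [coeff_uSer_pow K j k hj hk, if_neg hj, smul_eq_mul, mul_comm]
    · intro j hj
      simp only [Function.mem_support, ne_eq] at hj
      simp only [coe_range, Set.mem_Iio]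
      by_contra hlt
      apply hj
      have hj0 : j ≠ 0 := by omega
      rw [coeff_uSer_pow K j k hj0 hk, Nat.choose_eq_zero_of_lt (by omega)]
      simp

end general

variable {K : Type u} [CommRing K] [LambdaOps K]

/-- the γ-series -/
noncomputable def gammaSeries (x : K) : K⟦X⟧ := mk fun k => gamma k x

theorem gammaSeries_eq_subst (x : K) : gammaSeries x = (lamSeries x).subst (uSer K) := by
  ext k
  rw [coeff_subst_uSer]
  simp only [gammaSeries, coeff_mk, gamma, coeff_lamSeries]
  split_ifs with hk
  · rw [LambdaOps.lam_zero]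
  · rfl

theorem gammaSeries_add (x y : K) : gammaSeries (x + y) = gammaSeries x * gammaSeries y := by
  rw [gammaSeries_eq_subst, gammaSeries_eq_subst, gammaSeries_eq_subst, lamSeries_add,
    subst_mul (uSer_hasSubst K)]

theorem gamma_add (k : ℕ) (x y : K) :
    gamma k (x + y) = ∑ i ∈ range (k + 1), gamma i x * gamma (k - i) y := by
  have h := congrArg (coeff k) (gammaSeries_add x y)
  rw [coeff_mul, Finset.Nat.sum_antidiagonal_eq_sum_range_succ_mk] at h
  simpa [gammaSeries] using h

end Groth.Agent.H17
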