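import Groth.Agent.H17.FiltFree

set_option autoImplicit false

namespace Groth.Agent.H17

open Submodule TensorProduct

universe u

variable {A : Type u} [CommRing A]

/-- flat base change of a module with exhaustive filtration having (base-changed) free graded pieces
is free -/
theorem free_baseChange_of_filtration (A' : Type u) [CommRing A'] [Algebra A A'] [Module.Flat A A']
    {M : Type u} [AddCommGroup M] [Module A M] (F : ℕ → Submodule A M) (hmono : Monotone F)
    (hsup : ⨆ k, F k = ⊤) (h0 : Module.Free A' (A' ⊗[A] ↥(F 0)))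
    (hsucc : ∀ k, Module.Free A' (A' ⊗[A] (↥(F (k + 1)) ⧸ (F k).comap (F (k + 1)).subtype))) :
    Module.Free A' (A' ⊗[A] M) := by
  have hle : ∀ k, F k ≤ F (k + 1) := fun k => hmono (Nat.le_succ k)
  refine free_of_abstract_filtration (A := A') (L := A' ⊗[A] M)
    (N := fun k => A' ⊗[A] ↥(F k))
    (P := fun k => A' ⊗[A] (↥(F (k + 1)) ⧸ (F k).comap (F (k + 1)).subtype))
    (fun k => (F k).subtype.baseChange A') (fun k => ?_)
    (fun k => (Submodule.inclusion (hle k)).baseChange A') (fun k => ?_) h0
    (fun k => ((F k).comap (F (k + 1)).subtype).mkQ.baseChange A') (fun k => ?_) (fun k => ?_) ?_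
  · -- injectivity by flatness
    rw [LinearMap.baseChange_eq_ltensor]
    exact Module.Flat.lTensor_preserves_injective_linearMap _ (Submodule.subtype_injective _)
  · rw [← LinearMap.baseChange_comp]
    congr 1
  · rw [LinearMap.baseChange_eq_ltensor]
    exact LinearMap.lTensor_surjective _ (Submodule.mkQ_surjective _)
  · have hex : Function.Exact (Submodule.inclusion (hle k))
        ((F k).comap (F (k + 1)).subtype).mkQ := by
      intro y
      simp only [Submodule.mkQ_apply, Submodule.Quotient.mk_eq_zero, Submodule.mem_comap,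
        Submodule.subtype_apply]
      constructor
      · intro hy
        exact ⟨⟨y, hy⟩, rfl⟩
      · rintro ⟨z, rfl⟩
        exact z.2
    have := lTensor_exact A' hex (Submodule.mkQ_surjective _)
    rw [LinearMap.exact_iff] at this
    ext x
    have h1 := congrArg (fun S : Submodule A _ => x ∈ S) this
    simp only [LinearMap.mem_ker, LinearMap.mem_range] at h1 ⊢
    rw [LinearMap.baseChange_eq_ltensor, LinearMap.baseChange_eq_ltensor]
    exact h1 ▸ Iff.rfl
  · apply top_le_iff.mp
    rintro x -
    induction x using TensorProduct.induction_on with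
    | zero => exact Submodule.zero_mem _
    | add x y hx hy => exact Submodule.add_mem _ hx hy
    | tmul a m =>
      have hm : m ∈ ⨆ k, F k := by rw [hsup]; trivial
      obtain ⟨k, hk⟩ := (Submodule.mem_iSup_of_directed _ hmono.directed_le).mp hm
      apply Submodule.mem_iSup_of_mem k
      exact ⟨a ⊗ₜ ⟨m, hk⟩, rfl⟩

/-- `Q` is generically free over `A`: there is a nonzero `a` such that `A' ⊗ Q` is free for every
flat `A`-algebra `A'` in which `a` becomes invertible. -/
def GenFree (A : Type u) [CommRing A] (Q : Type u) [AddCommGroup Q] [Module A Q] : Prop :=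
  ∃ a : A, a ≠ 0 ∧ ∀ (A' : Type u) [CommRing A'] [Algebra A A'] [Module.Flat A A'],
    IsUnit (algebraMap A A' a) → Module.Free A' (A' ⊗[A] Q)

namespace GenFree

variable {Q Q' : Type u} [AddCommGroup Q] [Module A Q] [AddCommGroup Q'] [Module A Q']

theorem of_free [Nontrivial A] [Module.Free A Q] : GenFree A Q :=
  ⟨1, one_ne_zero, fun A' _ _ _ _ => inferInstance⟩

theorem of_equiv (e : Q ≃ₗ[A] Q') (h : GenFree A Q) : GenFree A Q' := by
  obtain ⟨a, ha, h⟩ := h
  refine ⟨a, ha, fun A' _ _ _ hu => ?_⟩
  have := h A' hu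
  exact Module.Free.of_equiv (e.baseChange A A' Q Q')

theorem of_smul_eq_zero {a : A} (ha : a ≠ 0) (h : ∀ q : Q, a • q = 0) : GenFree A Q := by
  refine ⟨a, ha, fun A' _ _ _ hu => ?_⟩
  have : Subsingleton (A' ⊗[A] Q) := by
    refine ⟨fun x y => ?_⟩
    have key : ∀ z : A' ⊗[A] Q, z = 0 := by
      intro z
      induction z using TensorProduct.induction_on with
      | zero => rfl
      | add x y hx hy => rw [hx, hy, add_zero]
      | tmul a' q =>
        obtain ⟨u, hu'⟩ := hu
        have h1 : (algebraMap A A' a) • (a' ⊗ₜ[A] q) = 0 := by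
          rw [TensorProduct.smul_tmul', smul_eq_mul, ← Algebra.smul_def,
            TensorProduct.smul_tmul, h, TensorProduct.tmul_zero]
        have h2 : (↑u⁻¹ : A') • ((algebraMap A A' a) • (a' ⊗ₜ[A] q)) = a' ⊗ₜ[A] q := by
          rw [smul_smul, ← hu', Units.inv_mul, one_smul]
        rw [← h2, h1, smul_zero]
    rw [key x, key y]
  exact Module.Free.of_subsingleton A' _

theorem of_filtration {M : Type u} [AddCommGroup M] [Module A M]
    (F : ℕ → Submodule A M) (hmono : Monotone F) (hsup : ⨆ k, F k = ⊤)
    {P : ℕ → Type u} [∀ k, AddCommGroup (P k)] [∀ k, Module A (P k)]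
    (p : ∀ k, ↥(F (k + 1)) →ₗ[A] P k) (hp : ∀ k, Function.Surjective (p k))
    (hker : ∀ k, LinearMap.ker (p k) = (F k).comap (F (k + 1)).subtype)
    (a : A) (ha : a ≠ 0)
    (h0 : ∀ (A' : Type u) [CommRing A'] [Algebra A A'] [Module.Flat A A'],
      IsUnit (algebraMap A A' a) → Module.Free A' (A' ⊗[A] ↥(F 0)))
    (hP : ∀ k, ∀ (A' : Type u) [CommRing A'] [Algebra A A'] [Module.Flat A A'],
      IsUnit (algebraMap A A' a) → Module.Free A' (A' ⊗[A] P k)) :
    GenFree A M := by
  refine ⟨a, ha, fun A' _ _ _ hu => ?_⟩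
  refine free_baseChange_of_filtration A' F hmono hsup (h0 A' hu) (fun k => ?_)
  have e : (↥(F (k + 1)) ⧸ (F k).comap (F (k + 1)).subtype) ≃ₗ[A] P k :=
    (Submodule.quotEquivOfEq _ _ (hker k).symm).trans ((p k).quotKerEquivOfSurjective (hp k))
  have := hP k A' hu
  exact Module.Free.of_equiv (e.baseChange A A' _ _).symm

theorem exists_uniform [IsDomain A] {Q : ℕ → Type u} [∀ k, AddCommGroup (Q k)]
    [∀ k, Module A (Q k)] (k₀ : ℕ) (h : ∀ k, k ≤ k₀ → GenFree A (Q k))
    (hiso : ∀ k, k₀ ≤ k → Nonempty (Q k ≃ₗ[A] Q k₀)) :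
    ∃ a : A, a ≠ 0 ∧ ∀ k, ∀ (A' : Type u) [CommRing A'] [Algebra A A'] [Module.Flat A A'],
      IsUnit (algebraMap A A' a) → Module.Free A' (A' ⊗[A] Q k) := by
  classical
  choose a ha hfree using h
  let a' : ℕ → A := fun k => if h : k ≤ k₀ then a k h else 1
  have ha' : ∀ k, a' k ≠ 0 := by
    intro k
    simp only [a']
    split_ifs with hk
    · exact ha k hk
    · exact one_ne_zero
  refine ⟨∏ k ∈ Finset.range (k₀ + 1), a' k, Finset.prod_ne_zero_iff.mpr fun k _ => ha' k, ?_⟩
  intro k A' _ _ _ hu
  have hunit : ∀ j (hj : j ≤ k₀), IsUnit (algebraMap A A' (a j hj)) := by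
    intro j hj
    have hdvd : a' j ∣ ∏ k ∈ Finset.range (k₀ + 1), a' k :=
      Finset.dvd_prod_of_mem _ (Finset.mem_range.mpr (by omega))
    have h1 : a' j = a j hj := by simp [a', hj]
    rw [← h1]
    exact isUnit_of_dvd_unit (map_dvd (algebraMap A A') hdvd) hu
  by_cases hk : k ≤ k₀
  · exact hfree k hk A' (hunit k hk)
  · obtain ⟨e⟩ := hiso k (by omega)
    have := hfree k₀ le_rfl A' (hunit k₀ le_rfl)
    exact Module.Free.of_equiv (e.baseChange A A' _ _).symm

end GenFree

/-- middle term of a short exact sequence with free ends is free -/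
theorem free_of_exact {N' N N'' : Type*} [AddCommGroup N'] [AddCommGroup N] [AddCommGroup N'']
    [Module A N'] [Module A N] [Module A N''] (f : N' →ₗ[A] N) (g : N →ₗ[A] N'')
    (hf : Function.Injective f) (hg : Function.Surjective g) (hfg : Function.Exact f g)
    [Module.Free A N'] [Module.Free A N''] : Module.Free A N := by
  obtain ⟨s, hs⟩ := Module.projective_lifting_property g LinearMap.id hg
  have hs' : ∀ q, g (s q) = q := fun q => LinearMap.congr_fun hs q
  let e : (N' × N'') →ₗ[A] N := f.coprod s
  have he : Function.Bijective e := by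
    constructor
    · rw [← LinearMap.ker_eq_bot, LinearMap.ker_eq_bot']
      rintro ⟨n', n''⟩ h
      simp only [e, LinearMap.coprod_apply] at h
      have h1 : n'' = 0 := by
        have := congrArg g h
        rw [map_add, hs', map_zero, (hfg (f n')).mpr ⟨n', rfl⟩, zero_add] at this
        exact this
      subst h1
      rw [map_zero, add_zero] at h
      have h2 : n' = 0 := hf (by rw [h, map_zero])
      subst h2
      rfl
    · intro n
      have : n - s (g n) ∈ LinearMap.ker g := by
        simp [hs']
      obtain ⟨n', hn'⟩ := (hfg _).mp this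
      exact ⟨(n', g n), by simp [e, hn']⟩
  exact Module.Free.of_equiv (LinearEquiv.ofBijective e he)

namespace GenFree

theorem of_exact [IsDomain A] {M' M M'' : Type u} [AddCommGroup M'] [AddCommGroup M]
    [AddCommGroup M''] [Module A M'] [Module A M] [Module A M''] (f : M' →ₗ[A] M)
    (g : M →ₗ[A] M'') (hf : Function.Injective f) (hg : Function.Surjective g)
    (hfg : Function.Exact f g) (h' : GenFree A M') (h'' : GenFree A M'') : GenFree A M := by
  obtain ⟨a', ha', h'⟩ := h'
  obtain ⟨a'', ha'', h''⟩ := h''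
  refine ⟨a' * a'', mul_ne_zero ha' ha'', fun A' _ _ _ hu => ?_⟩
  rw [map_mul] at hu
  have hu' : IsUnit (algebraMap A A' a') := isUnit_of_mul_isUnit_left hu
  have hu'' : IsUnit (algebraMap A A' a'') := isUnit_of_mul_isUnit_right hu
  have := h' A' hu'
  have := h'' A' hu''
  refine free_of_exact (f.baseChange A') (g.baseChange A') ?_ ?_ ?_
  · rw [LinearMap.baseChange_eq_ltensor]
    exact Module.Flat.lTensor_preserves_injective_linearMap _ hf
  · rw [LinearMap.baseChange_eq_ltensor]
    exact LinearMap.lTensor_surjective _ hg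
  · rw [LinearMap.baseChange_eq_ltensor, LinearMap.baseChange_eq_ltensor]
    exact lTensor_exact A' hfg hg

theorem of_cyclic [IsDomain A] {M : Type u} [AddCommGroup M] [Module A M] (m : M)
    (hm : Submodule.span A {m} = ⊤) : GenFree A M := by
  let φ : A →ₗ[A] M := LinearMap.toSpanSingleton A M m
  have hφ : Function.Surjective φ := by
    intro y
    have hy : y ∈ Submodule.span A {m} := by rw [hm]; trivial
    obtain ⟨c, rfl⟩ := Submodule.mem_span_singleton.mp hy
    exact ⟨c, rfl⟩
  by_cases hker : LinearMap.ker φ = ⊥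
  · have e : A ≃ₗ[A] M := LinearEquiv.ofBijective φ ⟨LinearMap.ker_eq_bot.mp hker, hφ⟩
    exact of_equiv e of_free
  · obtain ⟨a, hamem, ha⟩ := Submodule.exists_mem_ne_zero_of_ne_bot hker
    refine of_smul_eq_zero ha (fun q => ?_)
    obtain ⟨c, rfl⟩ := hφ q
    have h1 : a • m = 0 := hamem
    change a • (c • m) = 0
    rw [smul_comm, h1, smul_zero]

theorem of_fg_aux [IsDomain A] (n : ℕ) : ∀ (M : Type u) [AddCommGroup M] [Module A M],
    (∃ s : Finset M, s.card ≤ n ∧ Submodule.span A (s : Set M) = ⊤) → GenFree A M := by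
  classical
  induction n with
  | zero =>
    intro M _ _ ⟨s, hcard, hs⟩
    have hs0 : s = ∅ := Finset.card_eq_zero.mp (Nat.le_zero.mp hcard)
    subst hs0
    have : Subsingleton M := by
      rw [← Submodule.subsingleton_iff A, ← subsingleton_iff_bot_eq_top, ← hs]
      simp
    exact of_free
  | succ n ih =>
    intro M _ _ ⟨s, hcard, hs⟩
    rcases s.eq_empty_or_nonempty with rfl | ⟨m, hm⟩
    · exact ih M ⟨∅, by simp, hs⟩
    let N : Submodule A M := Submodule.span A {m}
    have h' : GenFree A ↥N := by
      refine of_cyclic (⟨m, Submodule.mem_span_singleton_self m⟩ : ↥N) ?_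
      apply top_le_iff.mp
      rintro ⟨y, hy⟩ -
      obtain ⟨c, rfl⟩ := Submodule.mem_span_singleton.mp hy
      exact Submodule.mem_span_singleton.mpr ⟨c, rfl⟩
    have h'' : GenFree A (M ⧸ N) := by
      refine ih (M ⧸ N) ⟨(s.erase m).image N.mkQ, ?_, ?_⟩
      · refine Finset.card_image_le.trans ?_
        rw [Finset.card_erase_of_mem hm]
        omega
      · apply top_le_iff.mp
        rintro y -
        obtain ⟨x, rfl⟩ := N.mkQ_surjective y
        have hx : x ∈ Submodule.span A (s : Set M) := by rw [hs]; trivial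
        rw [Finset.coe_image, ← Submodule.map_span]
        induction hx using Submodule.span_induction with
        | mem z hz =>
          by_cases hzm : z = m
          · subst hzm
            have : N.mkQ z = 0 := by
              simp only [Submodule.mkQ_apply, Submodule.Quotient.mk_eq_zero]
              exact Submodule.mem_span_singleton_self z
            rw [this]; exact Submodule.zero_mem _
          · exact Submodule.mem_map_of_mem
              (Submodule.subset_span (Finset.mem_erase.mpr ⟨hzm, hz⟩))
        | zero => rw [map_zero]; exact Submodule.zero_mem _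
        | add a b _ _ ha hb => rw [map_add]; exact Submodule.add_mem _ ha hb
        | smul c a _ ha => rw [map_smul]; exact Submodule.smul_mem _ c ha
    exact of_exact N.subtype N.mkQ (Submodule.subtype_injective N) N.mkQ_surjective
      (LinearMap.exact_subtype_mkQ N) h' h''

/-- a finite module over a domain is generically free -/
theorem of_finite [IsDomain A] (M : Type u) [AddCommGroup M] [Module A M] [Module.Finite A M] :
    GenFree A M := by
  obtain ⟨s, hs⟩ := (Module.finite_def.mp ‹Module.Finite A M›)
  exact of_fg_aux s.card M ⟨s, le_rfl, hs⟩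

end GenFree

end Groth.Agent.H17
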