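import Groth.Agent.H17.GenFreeStep

set_option autoImplicit false

namespace Groth.Agent.H17

open Submodule TensorProduct

universe u

theorem adjoin_rename_succ_X_zero (A : Type u) [CommRing A] (n : ℕ) :
    letI : Algebra (MvPolynomial (Fin n) A) (MvPolynomial (Fin (n + 1)) A) :=
      (MvPolynomial.rename (R := A) (Fin.succ (n := n))).toRingHom.toAlgebra
    Algebra.adjoin (MvPolynomial (Fin n) A) {(MvPolynomial.X 0 : MvPolynomial (Fin (n + 1)) A)} = ⊤ := by
  letI : Algebra (MvPolynomial (Fin n) A) (MvPolynomial (Fin (n + 1)) A) :=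
      (MvPolynomial.rename (R := A) (Fin.succ (n := n))).toRingHom.toAlgebra
  apply top_le_iff.mp
  rintro p -
  induction p using MvPolynomial.induction_on with
  | C a =>
    have : (MvPolynomial.C a : MvPolynomial (Fin (n + 1)) A) =
        algebraMap (MvPolynomial (Fin n) A) (MvPolynomial (Fin (n + 1)) A) (MvPolynomial.C a) := by
      change _ = MvPolynomial.rename Fin.succ (MvPolynomial.C a)
      rw [MvPolynomial.rename_C]
    rw [this]
    exact Subalgebra.algebraMap_mem _ _
  | add p q hp hq => exact Subalgebra.add_mem _ hp hq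
  | mul_X p i hp =>
    refine Subalgebra.mul_mem _ hp ?_
    refine Fin.cases ?_ (fun j => ?_) i
    · exact Algebra.subset_adjoin rfl
    · have : (MvPolynomial.X j.succ : MvPolynomial (Fin (n + 1)) A) =
          algebraMap (MvPolynomial (Fin n) A) (MvPolynomial (Fin (n + 1)) A) (MvPolynomial.X j) := by
        change _ = MvPolynomial.rename Fin.succ (MvPolynomial.X j)
        rw [MvPolynomial.rename_X]
      rw [this]
      exact Subalgebra.algebraMap_mem _ _

/-- generic freeness for finite modules over polynomial rings over a Noetherian domain -/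
theorem genFree_mvPolynomial (A : Type u) [CommRing A] [IsDomain A] [IsNoetherianRing A] (n : ℕ) :
    ∀ (M : Type u) [AddCommGroup M] [Module A M] [Module (MvPolynomial (Fin n) A) M]
      [IsScalarTower A (MvPolynomial (Fin n) A) M] [Module.Finite (MvPolynomial (Fin n) A) M],
      GenFree A M := by
  induction n with
  | zero =>
    intro M _ _ _ _ _
    have h1 : Module.Finite A (MvPolynomial (Fin 0) A) :=
      Module.Finite.equiv (MvPolynomial.isEmptyAlgEquiv A (Fin 0)).symm.toLinearEquiv
    have : Module.Finite A M := Module.Finite.trans (MvPolynomial (Fin 0) A) M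
    exact GenFree.of_finite M
  | succ n ih =>
    intro M _ _ _ _ _
    letI algInst : Algebra (MvPolynomial (Fin n) A) (MvPolynomial (Fin (n + 1)) A) :=
      (MvPolynomial.rename (R := A) (Fin.succ (n := n))).toRingHom.toAlgebra
    letI modInst : Module (MvPolynomial (Fin n) A) M :=
      Module.compHom M (MvPolynomial.rename (R := A) (Fin.succ (n := n))).toRingHom
    have hsmul : ∀ (b' : MvPolynomial (Fin n) A) (m : M),
        b' • m = (MvPolynomial.rename Fin.succ b' : MvPolynomial (Fin (n + 1)) A) • m :=
      fun _ _ => rfl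
    have hsmul' : ∀ (b' : MvPolynomial (Fin n) A) (b : MvPolynomial (Fin (n + 1)) A),
        b' • b = (MvPolynomial.rename Fin.succ b' : MvPolynomial (Fin (n + 1)) A) * b :=
      fun _ _ => rfl
    haveI t1 : IsScalarTower A (MvPolynomial (Fin n) A) M := by
      refine ⟨fun a b' m => ?_⟩
      rw [hsmul, hsmul, map_smul, smul_assoc]
    haveI t2 : IsScalarTower (MvPolynomial (Fin n) A) (MvPolynomial (Fin (n + 1)) A) M := by
      refine ⟨fun b' b m => ?_⟩
      rw [hsmul, hsmul', mul_smul]
    exact GenFree.step (A := A) (B' := MvPolynomial (Fin n) A) (B := MvPolynomial (Fin (n + 1)) A)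
      (MvPolynomial.X 0) (adjoin_rename_succ_X_zero A n) (fun N _ _ _ _ _ => ih N)

/-- **Generic freeness** (Noetherian case): a finite module over a finite type algebra over a
Noetherian domain is generically free. -/
theorem genFree_of_finiteType (A : Type u) [CommRing A] [IsDomain A] [IsNoetherianRing A]
    (S : Type u) [CommRing S] [Algebra A S] [Algebra.FiniteType A S]
    (M : Type u) [AddCommGroup M] [Module A M] [Module S M] [IsScalarTower A S M]
    [Module.Finite S M] : GenFree A M := by
  obtain ⟨n, f, hf⟩ := Algebra.FiniteType.iff_quotient_mvPolynomial''.mp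
    (inferInstance : Algebra.FiniteType A S)
  letI algInst : Algebra (MvPolynomial (Fin n) A) S := f.toRingHom.toAlgebra
  letI modInst : Module (MvPolynomial (Fin n) A) M := Module.compHom M f.toRingHom
  have hsmul : ∀ (p : MvPolynomial (Fin n) A) (m : M), p • m = f p • m := fun _ _ => rfl
  have t1 : IsScalarTower A (MvPolynomial (Fin n) A) M := by
    refine ⟨fun a p m => ?_⟩
    rw [hsmul, hsmul, map_smul, smul_assoc]
  have t2 : IsScalarTower (MvPolynomial (Fin n) A) S M := by
    refine ⟨fun p s m => ?_⟩
    rw [hsmul]
    change (f p * s) • m = _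
    rw [mul_smul]
  have h1 : Module.Finite (MvPolynomial (Fin n) A) S :=
    Module.Finite.of_surjective (Algebra.linearMap (MvPolynomial (Fin n) A) S) hf
  have h2 : Module.Finite (MvPolynomial (Fin n) A) M := Module.Finite.trans S M
  exact genFree_mvPolynomial A n M

end Groth.Agent.H17
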