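import Groth.Agent.H17.GenFree

set_option autoImplicit false

namespace Groth.Agent.H17

open Submodule TensorProduct

universe u

section step

variable {A : Type u} [CommRing A] [IsDomain A]
  {B' B : Type u} [CommRing B'] [CommRing B] [Algebra A B'] [Algebra B' B]
  {M : Type u} [AddCommGroup M] [Module A M] [Module B' M] [Module B M]
  [IsScalarTower A B' M] [IsScalarTower B' B M]

/-- multiplication by `x ^ k` as a `B'`-linear endomorphism of `M` -/
noncomputable def xpow (x : B) (k : ℕ) : M →ₗ[B'] M :=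
  DistribSMul.toLinearMap B' M (x ^ k)

@[simp] theorem xpow_apply (x : B) (k : ℕ) (m : M) : xpow (B' := B') x k m = x ^ k • m := rfl

/-- the filtration `F k = M₀ + x M₀ + … + x^k M₀` -/
noncomputable def xfilt (x : B) (M₀ : Submodule B' M) : ℕ → Submodule B' M
  | 0 => M₀.map (xpow x 0)
  | k + 1 => xfilt x M₀ k ⊔ M₀.map (xpow x (k + 1))

theorem xfilt_succ (x : B) (M₀ : Submodule B' M) (k : ℕ) :
    xfilt x M₀ (k + 1) = xfilt x M₀ k ⊔ M₀.map (xpow x (k + 1)) := rfl

theorem xfilt_zero (x : B) (M₀ : Submodule B' M) : xfilt x M₀ 0 = M₀ := by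
  change M₀.map (xpow x 0) = M₀
  have : (xpow x 0 : M →ₗ[B'] M) = LinearMap.id := by
    ext m; simp
  rw [this, Submodule.map_id]

theorem xfilt_mono (x : B) (M₀ : Submodule B' M) : Monotone (xfilt x M₀) :=
  monotone_nat_of_le_succ fun k => by rw [xfilt_succ]; exact le_sup_left

theorem map_xpow_le_xfilt (x : B) (M₀ : Submodule B' M) (k : ℕ) :
    M₀.map (xpow x k) ≤ xfilt x M₀ k := by
  cases k with
  | zero => exact le_rfl
  | succ k => rw [xfilt_succ]; exact le_sup_right

theorem map_map_xpow (x : B) (M₀ : Submodule B' M) (k : ℕ) :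
    (M₀.map (xpow x k)).map (xpow x 1) = M₀.map (xpow x (k + 1)) := by
  rw [← Submodule.map_comp]
  congr 1
  ext m
  simp [pow_succ, mul_smul, mul_comm]

theorem map_xfilt_le (x : B) (M₀ : Submodule B' M) (k : ℕ) :
    (xfilt x M₀ k).map (xpow x 1) ≤ xfilt x M₀ (k + 1) := by
  induction k with
  | zero =>
    change (M₀.map (xpow x 0)).map (xpow x 1) ≤ _
    rw [map_map_xpow]
    exact map_xpow_le_xfilt x M₀ 1
  | succ k ih =>
    rw [xfilt_succ x M₀ k, Submodule.map_sup, map_map_xpow, xfilt_succ x M₀ (k + 1)]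
    exact sup_le_sup ih le_rfl

theorem iSup_xfilt_eq_top (x : B) (hx : Algebra.adjoin B' {x} = ⊤) (M₀ : Submodule B' M)
    (hM₀ : Submodule.span B (M₀ : Set M) = ⊤) : ⨆ k, xfilt x M₀ k = ⊤ := by
  set U : Submodule B' M := ⨆ k, xfilt x M₀ k with hU
  have hxU : ∀ u ∈ U, x • u ∈ U := by
    intro u hu
    have h1 : U.map (xpow x 1) ≤ U := by
      rw [hU, Submodule.map_iSup]
      exact iSup_le fun k => (map_xfilt_le x M₀ k).trans (le_iSup (xfilt x M₀) (k + 1))
    have := h1 (Submodule.mem_map_of_mem hu)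
    simpa using this
  have hBU : ∀ b : B, ∀ u ∈ U, b • u ∈ U := by
    intro b
    have hb : b ∈ Algebra.adjoin B' {x} := by rw [hx]; trivial
    induction hb using Algebra.adjoin_induction with
    | mem y hy =>
      rw [Set.mem_singleton_iff] at hy
      subst hy
      exact hxU
    | algebraMap r =>
      intro u hu
      rw [algebraMap_smul]
      exact U.smul_mem r hu
    | add y z _ _ hy hz =>
      intro u hu
      rw [add_smul]
      exact U.add_mem (hy u hu) (hz u hu)
    | mul y z _ _ hy hz =>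
      intro u hu
      rw [mul_smul]
      exact hy _ (hz u hu)
  let U' : Submodule B M :=
    { carrier := U
      add_mem' := U.add_mem
      zero_mem' := U.zero_mem
      smul_mem' := fun b u hu => hBU b u hu }
  have hM₀U : (M₀ : Set M) ⊆ U' := by
    intro m hm
    have : m ∈ xfilt x M₀ 0 := by rw [xfilt_zero]; exact hm
    exact (le_iSup (xfilt x M₀) 0) this
  have hU' : U' = ⊤ := top_le_iff.mp (hM₀ ▸ Submodule.span_le.mpr hM₀U)
  apply top_le_iff.mp
  intro m _
  have : m ∈ U' := by rw [hU']; trivial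
  exact this

/-- the graded piece `F (k+1) / F k` -/
abbrev xgr (x : B) (M₀ : Submodule B' M) (k : ℕ) : Type u :=
  ↥(xfilt x M₀ (k + 1)) ⧸ (xfilt x M₀ k).comap (xfilt x M₀ (k + 1)).subtype

/-- `M₀ → F (k+1)`, `m ↦ x^(k+1) m` -/
noncomputable def xψ (x : B) (M₀ : Submodule B' M) (k : ℕ) : ↥M₀ →ₗ[B'] ↥(xfilt x M₀ (k + 1)) :=
  ((xpow x (k + 1)).comp M₀.subtype).codRestrict (xfilt x M₀ (k + 1)) (fun m =>
    map_xpow_le_xfilt x M₀ (k + 1) (Submodule.mem_map_of_mem m.2))

theorem xψ_coe (x : B) (M₀ : Submodule B' M) (k : ℕ) (m : ↥M₀) :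
    ((xψ x M₀ k m : ↥(xfilt x M₀ (k + 1))) : M) = x ^ (k + 1) • (m : M) := rfl

/-- `M₀ → F (k+1) / F k` -/
noncomputable def xψbar (x : B) (M₀ : Submodule B' M) (k : ℕ) : ↥M₀ →ₗ[B'] xgr x M₀ k :=
  ((xfilt x M₀ k).comap (xfilt x M₀ (k + 1)).subtype).mkQ.comp (xψ x M₀ k)

theorem xψbar_surjective (x : B) (M₀ : Submodule B' M) (k : ℕ) :
    Function.Surjective (xψbar x M₀ k) := by
  intro q
  obtain ⟨⟨y, hy⟩, rfl⟩ := Submodule.mkQ_surjective _ q
  rw [xfilt_succ] at hy
  obtain ⟨u, hu, t, ht, rfl⟩ := Submodule.mem_sup.mp hy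
  obtain ⟨m, hm, rfl⟩ := ht
  refine ⟨⟨m, hm⟩, ?_⟩
  simp only [xψbar, LinearMap.coe_comp, Function.comp_apply, Submodule.mkQ_apply]
  rw [Submodule.Quotient.eq]
  simp only [Submodule.mem_comap, Submodule.subtype_apply, Submodule.coe_sub]
  rw [xψ_coe]
  simpa using (xfilt x M₀ k).neg_mem hu

theorem ker_xψbar_mono (x : B) (M₀ : Submodule B' M) :
    Monotone (fun k => LinearMap.ker (xψbar x M₀ k)) := by
  refine monotone_nat_of_le_succ fun k m hm => ?_
  simp only [LinearMap.mem_ker, xψbar, LinearMap.coe_comp, Function.comp_apply,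
    Submodule.mkQ_apply, Submodule.Quotient.mk_eq_zero, Submodule.mem_comap,
    Submodule.subtype_apply] at hm ⊢
  rw [xψ_coe] at hm ⊢
  have := map_xfilt_le x M₀ k (Submodule.mem_map_of_mem hm)
  simpa [pow_succ, mul_smul, mul_comm] using this

/-- the induction step of generic freeness: adjoining one generator -/
theorem GenFree.step [IsNoetherianRing B'] (x : B) (hx : Algebra.adjoin B' {x} = ⊤)
    [Module.Finite B M]
    (IH : ∀ (N : Type u) [AddCommGroup N] [Module A N] [Module B' N] [IsScalarTower A B' N]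
      [Module.Finite B' N], GenFree A N) :
    GenFree A M := by
  classical
  obtain ⟨G, hG⟩ := Module.finite_def.mp (inferInstance : Module.Finite B M)
  let M₀ : Submodule B' M := Submodule.span B' (G : Set M)
  have hM₀fg : M₀.FG := Submodule.fg_span G.finite_toSet
  have hM₀fin : Module.Finite B' ↥M₀ := Module.Finite.of_fg hM₀fg
  have hM₀noeth : IsNoetherian B' ↥M₀ := isNoetherian_of_isNoetherianRing_of_finite B' ↥M₀
  have hM₀span : Submodule.span B (M₀ : Set M) = ⊤ := by
    apply top_le_iff.mp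
    rw [← hG]
    exact Submodule.span_mono Submodule.subset_span
  let F := xfilt x M₀
  have hFmono : Monotone F := xfilt_mono x M₀
  have hFsup : ⨆ k, F k = ⊤ := iSup_xfilt_eq_top x hx M₀ hM₀span
  -- stabilisation of the kernels
  let K : ℕ →o Submodule B' ↥M₀ := ⟨fun k => LinearMap.ker (xψbar x M₀ k), ker_xψbar_mono x M₀⟩
  obtain ⟨k₀, hk₀⟩ := monotone_stabilizes_iff_noetherian.mpr hM₀noeth K
  -- the graded pieces
  let P : ℕ → Type u := fun k => ↥M₀ ⧸ K k
  have hPgen : ∀ k, GenFree A (P k) := fun k => IH (↥M₀ ⧸ K k)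
  have hPiso : ∀ k, k₀ ≤ k → Nonempty (P k ≃ₗ[A] P k₀) := fun k hk =>
    ⟨(Submodule.quotEquivOfEq (K k) (K k₀) (hk₀ k hk).symm).restrictScalars A⟩
  obtain ⟨a₁, ha₁, hfree₁⟩ := GenFree.exists_uniform k₀ (fun k _ => hPgen k) hPiso
  -- the bottom piece
  have hF0fin : Module.Finite B' ↥(F 0) := by
    have : F 0 = M₀ := xfilt_zero x M₀
    rw [this]; exact hM₀fin
  obtain ⟨a₀, ha₀, hfree₀⟩ := IH ↥(F 0)
  -- the `A`-filtration
  let FA : ℕ → Submodule A M := fun k => (F k).restrictScalars A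
  have hFAmono : Monotone FA := fun k l hkl => hFmono hkl
  have hFAsup : ⨆ k, FA k = ⊤ := by
    apply top_le_iff.mp
    intro m _
    have hm : m ∈ ⨆ k, F k := by rw [hFsup]; trivial
    obtain ⟨k, hk⟩ := (Submodule.mem_iSup_of_directed _ hFmono.directed_le).mp hm
    exact Submodule.mem_iSup_of_mem k hk
  -- the maps onto the graded pieces
  let q : ∀ k, ↥(F (k + 1)) →ₗ[B'] P k := fun k =>
    ((xψbar x M₀ k).quotKerEquivOfSurjective (xψbar_surjective x M₀ k)).symm.toLinearMap.comp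
      ((F k).comap (F (k + 1)).subtype).mkQ
  let pA : ∀ k, ↥(FA (k + 1)) →ₗ[A] P k := fun k =>
    { toFun := fun y => q k ⟨y.1, y.2⟩
      map_add' := fun y z => by
        have : (⟨(y + z).1, (y + z).2⟩ : ↥(F (k + 1))) = ⟨y.1, y.2⟩ + ⟨z.1, z.2⟩ := rfl
        rw [this, map_add]
      map_smul' := fun c y => by
        have : (⟨(c • y).1, (c • y).2⟩ : ↥(F (k + 1))) = c • (⟨y.1, y.2⟩ : ↥(F (k + 1))) := rfl
        rw [this, LinearMap.map_smul_of_tower]
        rfl }
  have hpA : ∀ k, Function.Surjective (pA k) := by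
    intro k z
    obtain ⟨w, hw⟩ := (((xψbar x M₀ k).quotKerEquivOfSurjective
      (xψbar_surjective x M₀ k)).symm.surjective.comp (Submodule.mkQ_surjective _)) z
    exact ⟨⟨w.1, w.2⟩, hw⟩
  have hkerA : ∀ k, LinearMap.ker (pA k) = (FA k).comap (FA (k + 1)).subtype := by
    intro k
    ext y
    simp only [LinearMap.mem_ker, Submodule.mem_comap, Submodule.subtype_apply]
    change q k ⟨y.1, y.2⟩ = 0 ↔ y.1 ∈ F k
    simp only [q, LinearMap.coe_comp, LinearEquiv.coe_coe, Function.comp_apply,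
      LinearEquiv.map_eq_zero_iff, Submodule.mkQ_apply, Submodule.Quotient.mk_eq_zero,
      Submodule.mem_comap, Submodule.subtype_apply]
  -- assemble
  refine GenFree.of_filtration FA hFAmono hFAsup pA hpA hkerA (a₀ * a₁) (mul_ne_zero ha₀ ha₁)
    (fun A' _ _ _ hu => ?_) (fun k A' _ _ _ hu => ?_)
  · rw [map_mul] at hu
    have := hfree₀ A' (isUnit_of_mul_isUnit_left hu)
    let e : ↥(F 0) ≃ₗ[A] ↥(FA 0) :=
      { toFun := fun y => ⟨y.1, y.2⟩
        invFun := fun y => ⟨y.1, y.2⟩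
        map_add' := fun _ _ => rfl
        map_smul' := fun _ _ => rfl
        left_inv := fun _ => rfl
        right_inv := fun _ => rfl }
    exact Module.Free.of_equiv (e.baseChange A A' _ _)
  · rw [map_mul] at hu
    exact hfree₁ k A' (isUnit_of_mul_isUnit_right hu)

end step

end Groth.Agent.H17
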