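import Groth.Agent.H17.GenFreeMain

set_option autoImplicit false

namespace Groth.Agent.H17

open Submodule TensorProduct

universe u

attribute [local instance] MvPolynomial.algebraMvPolynomial

/-- Over a domain `R`, any submodule `L` of a finite module `N` over `R[X₁,…,Xₙ]` is generated up
to `R`-torsion by finitely many elements. -/
theorem exists_finset_torsion_quotient {R : Type u} [CommRing R] [IsDomain R] (n : ℕ)
    {N : Type u} [AddCommGroup N] [Module (MvPolynomial (Fin n) R) N]
    [Module.Finite (MvPolynomial (Fin n) R) N] (L : Submodule (MvPolynomial (Fin n) R) N) :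
    ∃ g : Finset N, (g : Set N) ⊆ L ∧ ∀ l ∈ L, ∃ r : R, r ≠ 0 ∧
      (MvPolynomial.C r : MvPolynomial (Fin n) R) • l ∈
        Submodule.span (MvPolynomial (Fin n) R) (g : Set N) := by
  classical
  let P := MvPolynomial (Fin n) R
  let K := FractionRing R
  let M' : Submonoid P := (nonZeroDivisors R).map (MvPolynomial.C : R →+* P)
  let P'' := Localization M'
  let N'' := LocalizedModule M' N
  let ι : N →ₗ[P] N'' := LocalizedModule.mkLinearMap M' N
  -- `P''` is Noetherian
  have hloc : IsLocalization M' (MvPolynomial (Fin n) K) := MvPolynomial.isLocalization _ _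
  have hN : IsNoetherianRing P'' :=
    isNoetherianRing_of_ringEquiv (MvPolynomial (Fin n) K)
      (IsLocalization.algEquiv M' (MvPolynomial (Fin n) K) P'').toRingEquiv
  have hfin : Module.Finite P'' N'' := inferInstance
  have hNoeth : IsNoetherian P'' N'' := isNoetherian_of_isNoetherianRing_of_finite P'' N''
  have hfg : (Submodule.span P'' (ι '' (L : Set N))).FG := IsNoetherian.noetherian _
  obtain ⟨t, ht, hspan⟩ := (Submodule.fg_span_iff_fg_span_finset_subset _).mp hfg
  obtain ⟨g, hgL, rfl⟩ := Finset.subset_set_image_iff.mp ht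
  refine ⟨g, hgL, fun l hl => ?_⟩
  have hmem : ι l ∈ Submodule.span P'' (ι '' (g : Set N)) := by
    have : ι l ∈ Submodule.span P'' (ι '' (L : Set N)) :=
      Submodule.subset_span ⟨l, hl, rfl⟩
    rw [hspan] at this
    simpa only [Finset.coe_image] using this
  rw [Finsupp.mem_span_image_iff_linearCombination] at hmem
  obtain ⟨f, hf, hfl⟩ := hmem
  rw [Finsupp.linearCombination_apply_of_mem_supported P'' hf] at hfl
  obtain ⟨b, hb⟩ := IsLocalization.exist_integer_multiples M' g (fun v => f v)
  choose! d hd using hb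
  obtain ⟨_, ⟨r, hr, rfl⟩⟩ := b
  have key : ι ((MvPolynomial.C r : P) • l - ∑ v ∈ g, d v • v) = 0 := by
    rw [map_sub, map_smul, map_sum, ← hfl, Finset.smul_sum, sub_eq_zero]
    refine Finset.sum_congr rfl fun v hv => ?_
    rw [map_smul, ← algebraMap_smul P'' (d v) (ι v), hd v hv, smul_assoc]
  obtain ⟨⟨_, ⟨r', hr', rfl⟩⟩, hb'⟩ := (IsLocalizedModule.eq_zero_iff M' ι).mp key
  refine ⟨r' * r, mul_ne_zero (nonZeroDivisors.ne_zero hr') (nonZeroDivisors.ne_zero hr), ?_⟩
  have hb'' : (MvPolynomial.C r' : P) • ((MvPolynomial.C r : P) • l - ∑ v ∈ g, d v • v) = 0 := hb'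
  rw [smul_sub, sub_eq_zero] at hb''
  rw [map_mul, mul_smul, hb'', Finset.smul_sum]
  exact Submodule.sum_mem _ fun v hv =>
    Submodule.smul_mem _ _ (Submodule.smul_mem _ _ (Submodule.subset_span hv))

/-- a torsion module dies under tensoring into a torsion-free situation: elements of `R' ⊗ T`
are killed by nonzero elements of `R` -/
theorem exists_smul_eq_zero_tensor {R : Type u} [CommRing R] [IsDomain R] (R' : Type u) [CommRing R']
    [Algebra R R'] {T : Type u} [AddCommGroup T] [Module R T]
    (hT : ∀ x : T, ∃ r : R, r ≠ 0 ∧ r • x = 0) (z : R' ⊗[R] T) : ∃ r : R, r ≠ 0 ∧ r • z = 0 := by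
  induction z using TensorProduct.induction_on with
  | zero => exact ⟨1, one_ne_zero, smul_zero _⟩
  | tmul r' x =>
    obtain ⟨r, hr, hrx⟩ := hT x
    exact ⟨r, hr, by rw [← TensorProduct.tmul_smul, hrx, TensorProduct.tmul_zero]⟩
  | add x y hx hy =>
    obtain ⟨r, hr, hrx⟩ := hx
    obtain ⟨s, hs, hsy⟩ := hy
    refine ⟨r * s, mul_ne_zero hr hs, ?_⟩
    rw [smul_add, mul_smul r s y, hsy, smul_zero, mul_comm, mul_smul s r x, hrx, smul_zero,
      add_zero]

namespace GenFree

variable {R : Type u} [CommRing R] [IsDomain R]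

/-- generic freeness passes to quotients by torsion submodules -/
theorem of_surjective_of_torsion {N' N : Type u} [AddCommGroup N'] [AddCommGroup N]
    [Module R N'] [Module R N] (f : N' →ₗ[R] N) (hf : Function.Surjective f)
    (htors : ∀ x ∈ LinearMap.ker f, ∃ r : R, r ≠ 0 ∧ r • x = 0) (h : GenFree R N') :
    GenFree R N := by
  obtain ⟨a, ha, h⟩ := h
  refine ⟨a, ha, fun R' _ _ _ hu => ?_⟩
  have hfree := h R' hu
  have hflat : Module.Flat R (R' ⊗[R] N') := Module.Flat.trans R R' (R' ⊗[R] N')
  have hsurj : Function.Surjective (f.baseChange R') := by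
    rw [LinearMap.baseChange_eq_ltensor]
    exact LinearMap.lTensor_surjective _ hf
  have hinj : Function.Injective (f.baseChange R') := by
    rw [← LinearMap.ker_eq_bot, LinearMap.ker_eq_bot']
    intro w hw
    have hex := lTensor_exact R' (LinearMap.exact_subtype_ker_map f) hf
    have hw' : (LinearMap.lTensor R' f) w = 0 := by
      rw [← LinearMap.baseChange_eq_ltensor]; exact hw
    obtain ⟨z, rfl⟩ := (hex w).mp hw'
    obtain ⟨r, hr, hrz⟩ := exists_smul_eq_zero_tensor R' (T := ↥(LinearMap.ker f))
      (fun x => by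
        obtain ⟨r, hr, hrx⟩ := htors x.1 x.2
        exact ⟨r, hr, Subtype.ext hrx⟩) z
    have h1 : r • (LinearMap.lTensor R' (LinearMap.ker f).subtype) z = 0 := by
      rw [← map_smul, hrz, map_zero]
    have hreg := Module.Flat.isSMulRegular_of_nonZeroDivisors (M := R' ⊗[R] N')
      (mem_nonZeroDivisors_of_ne_zero hr)
    apply hreg
    change r • _ = r • 0
    rw [smul_zero]
    exact h1
  exact Module.Free.of_equiv (LinearEquiv.ofBijective (f.baseChange R') ⟨hinj, hsurj⟩)

end GenFree

end Groth.Agent.H17
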