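import Groth.Agent.H17.GenFreeAlg

set_option autoImplicit false

namespace Groth.Agent.H17

open TensorProduct

universe u

section aux

variable {A B A0 R' : Type*} [CommRing A] [CommRing B] [Algebra A B] [CommRing A0] [Algebra A A0]
  [CommRing R'] [Algebra A0 R']

/-- the canonical ring map `B → R' ⊗[A0] (A0 ⊗[A] B)` -/
noncomputable def inclDouble : B →+* R' ⊗[A0] (A0 ⊗[A] B) :=
  (Algebra.TensorProduct.includeRight : (A0 ⊗[A] B) →ₐ[A0] R' ⊗[A0] (A0 ⊗[A] B)).toRingHom.comp
    (Algebra.TensorProduct.includeRight : B →ₐ[A] A0 ⊗[A] B).toRingHom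

theorem inclDouble_algebraMap (x : A) :
    (inclDouble (A0 := A0) (R' := R') (algebraMap A B x) : R' ⊗[A0] (A0 ⊗[A] B)) =
      algebraMap R' (R' ⊗[A0] (A0 ⊗[A] B)) (algebraMap A0 R' (algebraMap A A0 x)) := by
  simp only [inclDouble, AlgHom.toRingHom_eq_coe, RingHom.coe_comp, RingHom.coe_coe,
    Function.comp_apply, Algebra.TensorProduct.includeRight_apply,
    Algebra.TensorProduct.algebraMap_apply, Algebra.algebraMap_self, RingHom.id_apply]
  have h1 : (1 : A0) ⊗ₜ[A] (algebraMap A B x) = (algebraMap A A0 x) • (1 : A0 ⊗[A] B) := by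
    rw [Algebra.TensorProduct.one_def, TensorProduct.smul_tmul', smul_eq_mul, mul_one,
      Algebra.algebraMap_eq_smul_one (A := B), Algebra.algebraMap_eq_smul_one (A := A0),
      TensorProduct.smul_tmul]
  rw [h1, ← TensorProduct.smul_tmul, Algebra.algebraMap_eq_smul_one (A := R')]

theorem mem_range_comap_of_faithfullyFlat
    [Module.FaithfullyFlat R' (R' ⊗[A0] (A0 ⊗[A] B))] (r : PrimeSpectrum A)
    (r' : PrimeSpectrum R')
    (hr : ∀ x : A, algebraMap A0 R' (algebraMap A A0 x) ∈ r'.asIdeal ↔ x ∈ r.asIdeal) :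
    r ∈ Set.range (PrimeSpectrum.comap (algebraMap A B)) := by
  obtain ⟨c, hc⟩ := PrimeSpectrum.comap_surjective_of_faithfullyFlat
    (A := R') (B := R' ⊗[A0] (A0 ⊗[A] B)) r'
  refine ⟨PrimeSpectrum.comap (inclDouble (A0 := A0) (R' := R')) c, ?_⟩
  ext x
  rw [← hr x, ← hc]
  simp only [PrimeSpectrum.comap_asIdeal, Ideal.mem_comap]
  rw [inclDouble_algebraMap]

/-- nontriviality of the double tensor product from a compatible pair of maps to a nontrivial
ring -/
theorem nontrivial_double_tensor {L : Type*} [CommRing L] [Nontrivial L] (φB : B →+* L)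
    (φR : R' →+* L)
    (hcomp : ∀ x : A, φB (algebraMap A B x) = φR (algebraMap A0 R' (algebraMap A A0 x))) :
    Nontrivial (R' ⊗[A0] (A0 ⊗[A] B)) := by
  letI : Algebra R' L := φR.toAlgebra
  letI : Algebra A0 L := (φR.comp (algebraMap A0 R')).toAlgebra
  letI : Algebra A L := ((φR.comp (algebraMap A0 R')).comp (algebraMap A A0)).toAlgebra
  haveI : IsScalarTower A0 R' L := IsScalarTower.of_algebraMap_eq (fun _ => rfl)
  haveI : IsScalarTower A A0 L := IsScalarTower.of_algebraMap_eq (fun _ => rfl)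
  let gB : B →ₐ[A] L := { φB with commutes' := fun x => hcomp x }
  let inner : A0 ⊗[A] B →ₐ[A0] L :=
    Algebra.TensorProduct.lift (Algebra.ofId A0 L) gB (fun _ _ => Commute.all _ _)
  let outer : R' ⊗[A0] (A0 ⊗[A] B) →ₐ[R'] L :=
    Algebra.TensorProduct.lift (Algebra.ofId R' L) inner (fun _ _ => Commute.all _ _)
  exact outer.toRingHom.domain_nontrivial

end aux

/-- If `A` has prime nilradical, `B` is a finite type `A`-algebra, and some prime of `B` lies over
the nilradical of `A`, then a nonempty basic open of `Spec A` is contained in the image of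
`Spec B`. -/
theorem exists_notMem_forall_mem_range_comap {A B : Type u} [CommRing A] [CommRing B] [Algebra A B]
    [Algebra.FiniteType A B] [hA : (nilradical A).IsPrime] (q : Ideal B) [q.IsPrime]
    (hq : q.comap (algebraMap A B) = nilradical A) :
    ∃ a : A, a ∉ nilradical A ∧ ∀ r : PrimeSpectrum A, a ∉ r.asIdeal →
      r ∈ Set.range (PrimeSpectrum.comap (algebraMap A B)) := by
  have : IsDomain (A ⧸ nilradical A) := Ideal.Quotient.isDomain _
  obtain ⟨a0, ha0, hfree⟩ :=
    genFree_of_finiteType_algebra (A ⧸ nilradical A) ((A ⧸ nilradical A) ⊗[A] B)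
  obtain ⟨a, rfl⟩ := Ideal.Quotient.mk_surjective a0
  have ha : a ∉ nilradical A := fun h => ha0 (Ideal.Quotient.eq_zero_iff_mem.mpr h)
  refine ⟨a, ha, fun r hr => ?_⟩
  have hfreeC := hfree (Localization.Away (Ideal.Quotient.mk (nilradical A) a))
    (IsLocalization.Away.algebraMap_isUnit _)
  -- nontriviality
  have hnt : Nontrivial (Localization.Away (Ideal.Quotient.mk (nilradical A) a) ⊗[A ⧸ nilradical A]
      ((A ⧸ nilradical A) ⊗[A] B)) := by
    let L := FractionRing (B ⧸ q)
    let φB : B →+* L := (algebraMap (B ⧸ q) L).comp (Ideal.Quotient.mk q)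
    have hφB : ∀ b : B, φB b = 0 ↔ b ∈ q := by
      intro b
      simp only [φB, RingHom.comp_apply]
      rw [map_eq_zero_iff _ (IsFractionRing.injective (B ⧸ q) L), Ideal.Quotient.eq_zero_iff_mem]
    let φA0 : A ⧸ nilradical A →+* L :=
      Ideal.Quotient.lift (nilradical A) (φB.comp (algebraMap A B)) (fun x hx => by
        rw [RingHom.comp_apply, hφB, ← Ideal.mem_comap, hq]; exact hx)
    have hu : IsUnit (φA0 (Ideal.Quotient.mk (nilradical A) a)) := by
      rw [Ideal.Quotient.lift_mk, isUnit_iff_ne_zero, RingHom.comp_apply, Ne, hφB,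
        ← Ideal.mem_comap, hq]
      exact ha
    let φR : Localization.Away (Ideal.Quotient.mk (nilradical A) a) →+* L :=
      IsLocalization.Away.lift (Ideal.Quotient.mk (nilradical A) a) hu
    refine nontrivial_double_tensor φB φR (fun x => ?_)
    rw [IsLocalization.Away.lift_eq]
    rfl
  have hff : Module.FaithfullyFlat (Localization.Away (Ideal.Quotient.mk (nilradical A) a))
      (Localization.Away (Ideal.Quotient.mk (nilradical A) a) ⊗[A ⧸ nilradical A]
      ((A ⧸ nilradical A) ⊗[A] B)) := inferInstance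
  -- the prime of `R'` over `r`
  let K := FractionRing (A ⧸ r.asIdeal)
  let ψ : A →+* K := (algebraMap (A ⧸ r.asIdeal) K).comp (Ideal.Quotient.mk r.asIdeal)
  have hψ : ∀ x : A, ψ x = 0 ↔ x ∈ r.asIdeal := by
    intro x
    simp only [ψ, RingHom.comp_apply]
    rw [map_eq_zero_iff _ (IsFractionRing.injective (A ⧸ r.asIdeal) K),
      Ideal.Quotient.eq_zero_iff_mem]
  let ψ0 : A ⧸ nilradical A →+* K :=
    Ideal.Quotient.lift (nilradical A) ψ (fun x hx => by
      rw [hψ]; exact nilradical_le_prime r.asIdeal hx)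
  have hu : IsUnit (ψ0 (Ideal.Quotient.mk (nilradical A) a)) := by
    rw [Ideal.Quotient.lift_mk, isUnit_iff_ne_zero, Ne, hψ]
    exact hr
  let ψR : Localization.Away (Ideal.Quotient.mk (nilradical A) a) →+* K :=
    IsLocalization.Away.lift (Ideal.Quotient.mk (nilradical A) a) hu
  refine mem_range_comap_of_faithfullyFlat (A0 := A ⧸ nilradical A)
    (R' := Localization.Away (Ideal.Quotient.mk (nilradical A) a)) r
    ⟨RingHom.ker ψR, RingHom.ker_isPrime ψR⟩ (fun x => ?_)
  change ψR _ = 0 ↔ _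
  rw [IsLocalization.Away.lift_eq, ← hψ]
  rfl

end Groth.Agent.H17
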