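import Groth.Agent.H17.GenericRange
import Mathlib

set_option autoImplicit false
open AlgebraicGeometry CategoryTheory

universe u

namespace Groth.Agent.H17

theorem mem_basicOpen_iff_notMem_primeIdealOf {Y : Scheme.{u}} {W : Y.Opens} (hW : IsAffineOpen W)
    (a : Γ(Y, W)) (y : W) :
    (y : Y) ∈ Y.basicOpen a ↔ a ∉ (hW.primeIdealOf y).asIdeal := by
  rw [← hW.fromSpec_primeIdealOf y]
  have := hW.fromSpec_preimage_basicOpen a
  change hW.primeIdealOf y ∈ hW.fromSpec ⁻¹ᵁ Y.basicOpen a ↔ _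
  rw [this]
  rfl

theorem genericPoint_mem_interior_range {X Y : Scheme.{u}} (f : X ⟶ Y)
    [LocallyOfFiniteType f] [IrreducibleSpace Y] (h : genericPoint Y ∈ Set.range f.base) :
    genericPoint Y ∈ interior (Set.range f.base) := by
  obtain ⟨x, hx⟩ := h
  have hη := genericPoint_spec Y
  -- affine neighbourhoods
  obtain ⟨_, ⟨W : Y.Opens, hW : IsAffineOpen W, rfl⟩, hηW, -⟩ :=
    Y.isBasis_affineOpens.exists_subset_of_mem_open (Set.mem_univ (genericPoint Y)) isOpen_univ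
  have hxW : x ∈ f ⁻¹ᵁ W := by
    change f.base x ∈ W
    rw [hx]; exact hηW
  obtain ⟨_, ⟨V : X.Opens, hV : IsAffineOpen V, rfl⟩, hxV, hVW⟩ :=
    X.isBasis_affineOpens.exists_subset_of_mem_open hxW (f ⁻¹ᵁ W).isOpen
  have hVW' : V ≤ f ⁻¹ᵁ W := hVW
  let φ := f.appLE W V hVW'
  have hft : φ.hom.FiniteType := LocallyOfFiniteType.finiteType_appLE f hW hV hVW'
  algebraize [φ.hom]
  have hgen : ∀ a : Γ(Y, W), ¬ IsNilpotent a → genericPoint Y ∈ Y.basicOpen a := by
    intro a ha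
    rw [Scheme.isNilpotent_iff_basicOpen_eq_bot_of_isCompact hW.isCompact,
      ← TopologicalSpace.Opens.not_nonempty_iff_eq_bot, not_not] at ha
    refine (hη.mem_open_set_iff (Y.basicOpen a).isOpen).mpr ?_
    rwa [Set.univ_inter]
  -- the prime of η
  have hnil : nilradical Γ(Y, W) = (hW.primeIdealOf ⟨genericPoint Y, hηW⟩).asIdeal := by
    apply le_antisymm
    · exact nilradical_le_prime _
    · intro a ha
      rw [mem_nilradical]
      by_contra hne
      exact (mem_basicOpen_iff_notMem_primeIdealOf hW a ⟨genericPoint Y, hηW⟩).mp (hgen a hne) ha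
  have hA : (nilradical Γ(Y, W)).IsPrime := by
    rw [hnil]; exact (hW.primeIdealOf ⟨genericPoint Y, hηW⟩).2
  have hq : (hV.primeIdealOf ⟨x, hxV⟩).asIdeal.comap (algebraMap Γ(Y, W) Γ(X, V)) =
      nilradical Γ(Y, W) := by
    rw [hnil]
    have := IsAffineOpen.comap_primeIdealOf_appLE W hW V hV hVW' hxV
    have h2 : hW.primeIdealOf ⟨f x, hVW' hxV⟩ = hW.primeIdealOf ⟨genericPoint Y, hηW⟩ := by
      congr 1
      exact Subtype.ext hx
    rw [← h2, ← this]
    rfl
  obtain ⟨a, ha, hrange⟩ := exists_notMem_forall_mem_range_comap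
    (hV.primeIdealOf ⟨x, hxV⟩).asIdeal hq
  rw [mem_interior]
  refine ⟨Y.basicOpen a, ?_, (Y.basicOpen a).isOpen, hgen a ha⟩
  intro y hy
  have hyW : y ∈ W := Y.basicOpen_le a hy
  have hy' := (mem_basicOpen_iff_notMem_primeIdealOf hW a ⟨y, hyW⟩).mp hy
  obtain ⟨b, hb⟩ := hrange _ hy'
  refine ⟨hV.fromSpec b, ?_⟩
  have h := congr($(IsAffineOpen.SpecMap_appLE_fromSpec f hW hV hVW') b)
  have h3 : f (hV.fromSpec b) = hW.fromSpec (PrimeSpectrum.comap φ.hom b) := h.symm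
  rw [h3]
  have : PrimeSpectrum.comap φ.hom b = hW.primeIdealOf ⟨y, hyW⟩ := hb
  rw [this, hW.fromSpec_primeIdealOf]

end Groth.Agent.H17
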