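import Groth.Agent.H17.ConsTop
import Groth.Prelude.Def_ProCons
import Mathlib.Topology.QuasiSeparated
import Mathlib.Topology.Sober
import Mathlib.Data.Set.Subset

set_option autoImplicit false

namespace Groth.Agent.H17

open Topology Set Set.Notation

variable {X : Type*} [TopologicalSpace X]

/-- a family `B` of open subsets forming a basis of spectral ("affine") opens -/
structure GoodBasis (X : Type*) [TopologicalSpace X] (B : Set X → Prop) : Prop where
  isOpen : ∀ W, B W → IsOpen W
  isCompact : ∀ W, B W → IsCompact W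
  isQuasiSeparated : ∀ W, B W → IsQuasiSeparated W
  basis : ∀ (x : X) (U : Set X), IsOpen U → x ∈ U → ∃ W, B W ∧ x ∈ W ∧ W ⊆ U

section spectral

variable [T0Space X] [QuasiSober X] [PrespectralSpace X]

theorem spectralSpace_of_good {W : Set X} (ho : IsOpen W) (hc : IsCompact W)
    (hq : IsQuasiSeparated W) : SpectralSpace ↥W :=
  { toT0Space := inferInstance
    toCompactSpace := isCompact_iff_compactSpace.mp hc
    toQuasiSober := ho.isOpenEmbedding_subtypeVal.quasiSober
    toQuasiSeparatedSpace := (isQuasiSeparated_iff_quasiSeparatedSpace W ho).mp hq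
    toPrespectralSpace := ho.isOpenEmbedding_subtypeVal.prespectralSpace }

variable {B : Set X → Prop}

theorem GoodBasis.spectralSpace (hB : GoodBasis X B) {W : Set X} (hW : B W) : SpectralSpace ↥W :=
  spectralSpace_of_good (hB.isOpen W hW) (hB.isCompact W hW) (hB.isQuasiSeparated W hW)

omit [T0Space X] [QuasiSober X] [PrespectralSpace X] in
theorem isOpenEmbedding_inclusion {W U : Set X} (hW : IsOpen W) (h : W ⊆ U) :
    IsOpenEmbedding (Set.inclusion h) :=
  IsOpenEmbedding.inclusion h (hW.preimage continuous_subtype_val)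

/-- transfer of cons-open sets from a smaller spectral open to a bigger one -/
theorem consOpen_image_inclusion {W₁ W : Set X} (h₁o : IsOpen W₁) (h₁c : IsCompact W₁)
    (h₁q : IsQuasiSeparated W₁) (ho : IsOpen W) (hc : IsCompact W) (hq : IsQuasiSeparated W)
    (h : W₁ ⊆ W) {Z : Set ↥W₁} (hZ : ConsOpen Z) : ConsOpen (Set.inclusion h '' Z) := by
  have := spectralSpace_of_good h₁o h₁c h₁q
  have := spectralSpace_of_good ho hc hq
  have hemb := isOpenEmbedding_inclusion h₁o h
  have hrange : IsRetrocompact (range (Set.inclusion h)) := by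
    rw [QuasiSeparatedSpace.isRetrocompact_iff_isCompact hemb.isOpen_range]
    exact isCompact_range hemb.continuous
  apply consOpen_of_forall_exists
  rintro _ ⟨z, hz, rfl⟩
  obtain ⟨T, hT, hzT, hTZ⟩ := exists_isConstructible_of_consOpen hZ hz
  exact ⟨Set.inclusion h '' T,
    consOpen_of_isConstructible (hT.image_of_isOpenEmbedding hemb hrange),
    mem_image_of_mem _ hzT, image_mono hTZ⟩

omit [T0Space X] [QuasiSober X] [PrespectralSpace X] in
theorem preimage_inclusion_val {W U : Set X} (h : W ⊆ U) (E : Set X) :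
    Set.inclusion h ⁻¹' (U ↓∩ E) = W ↓∩ E := rfl

/-- local-to-global for cons-open restrictions -/
theorem consOpen_restrict_of_local (hB : GoodBasis X B) {W : Set X} (hW : B W) (E : Set X)
    (hloc : ∀ x ∈ W, ∃ W₁, B W₁ ∧ x ∈ W₁ ∧ W₁ ⊆ W ∧ ConsOpen (W₁ ↓∩ E)) :
    ConsOpen (W ↓∩ E) := by
  apply consOpen_of_forall_exists
  rintro ⟨x, hxW⟩ hxE
  obtain ⟨W₁, hW₁, hxW₁, hW₁W, hcons⟩ := hloc x hxW
  refine ⟨Set.inclusion hW₁W '' (W₁ ↓∩ E), ?_, ⟨⟨x, hxW₁⟩, hxE, rfl⟩, ?_⟩
  · exact consOpen_image_inclusion (hB.isOpen _ hW₁) (hB.isCompact _ hW₁)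
      (hB.isQuasiSeparated _ hW₁) (hB.isOpen _ hW) (hB.isCompact _ hW) (hB.isQuasiSeparated _ hW)
      hW₁W hcons
  · rintro _ ⟨z, hz, rfl⟩
    exact hz

/-- restriction of a locally constructible subset of an open `U` to an affine `W ⊆ U` -/
theorem isConstructible_restrict (hB : GoodBasis X B) {W U : Set X} (hW : B W) (h : W ⊆ U)
    {T : Set ↥U} (hT : IsLocallyConstructible T) : IsConstructible (Set.inclusion h ⁻¹' T) := by
  have := hB.spectralSpace hW
  exact (hT.preimage_of_isOpenEmbedding (isOpenEmbedding_inclusion (hB.isOpen _ hW) h)).isConstructible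

theorem consOpen_restrict_of_ind (hB : GoodBasis X B) {E : Set X}
    (hE : ProCons.IsIndConstructible E) {W : Set X} (hW : B W) : ConsOpen (W ↓∩ E) := by
  apply consOpen_restrict_of_local hB hW
  intro x hxW
  obtain ⟨U, hUo, hxU, S, hS, hES⟩ := hE x
  obtain ⟨W₁, hW₁, hxW₁, hW₁U⟩ := hB.basis x (U ∩ W) (hUo.inter (hB.isOpen _ hW)) ⟨hxU, hxW⟩
  refine ⟨W₁, hW₁, hxW₁, hW₁U.trans inter_subset_right, ?_⟩
  have := hB.spectralSpace hW₁
  have hsub : W₁ ⊆ U := hW₁U.trans inter_subset_left
  rw [← preimage_inclusion_val hsub, hES, preimage_sUnion]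
  apply ConsOpen.iUnion
  intro T
  apply ConsOpen.iUnion
  intro hT
  exact consOpen_of_isConstructible (isConstructible_restrict hB hW₁ hsub (hS T hT))

theorem consClosed_restrict_of_pro (hB : GoodBasis X B) {E : Set X}
    (hE : ProCons.IsProConstructible E) {W : Set X} (hW : B W) : ConsClosed (W ↓∩ E) := by
  rw [consClosed_iff_compl, ← preimage_compl]
  apply consOpen_restrict_of_local hB hW
  intro x hxW
  obtain ⟨U, hUo, hxU, S, hS, hES⟩ := hE x
  obtain ⟨W₁, hW₁, hxW₁, hW₁U⟩ := hB.basis x (U ∩ W) (hUo.inter (hB.isOpen _ hW)) ⟨hxU, hxW⟩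
  refine ⟨W₁, hW₁, hxW₁, hW₁U.trans inter_subset_right, ?_⟩
  have := hB.spectralSpace hW₁
  have hsub : W₁ ⊆ U := hW₁U.trans inter_subset_left
  rw [preimage_compl, ← consClosed_iff_compl, ← preimage_inclusion_val hsub, hES, preimage_sInter]
  apply ConsClosed.iInter
  intro T
  apply ConsClosed.iInter
  intro hT
  exact consClosed_of_isConstructible (isConstructible_restrict hB hW₁ hsub (hS T hT))

theorem ind_of_consOpen_restrict (hB : GoodBasis X B) {E : Set X}
    (h : ∀ x : X, ∃ W, B W ∧ x ∈ W ∧ ConsOpen (W ↓∩ E)) : ProCons.IsIndConstructible E := by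
  intro x
  obtain ⟨W, hW, hxW, hcons⟩ := h x
  have := hB.spectralSpace hW
  obtain ⟨S, hS, hES⟩ := consOpen_iff_exists_sUnion.mp hcons
  exact ⟨W, hB.isOpen _ hW, hxW, S, fun T hT => (hS T hT).isLocallyConstructible, hES⟩

theorem pro_of_consClosed_restrict (hB : GoodBasis X B) {E : Set X}
    (h : ∀ x : X, ∃ W, B W ∧ x ∈ W ∧ ConsClosed (W ↓∩ E)) : ProCons.IsProConstructible E := by
  intro x
  obtain ⟨W, hW, hxW, hcons⟩ := h x
  have := hB.spectralSpace hW
  obtain ⟨S, hS, hES⟩ := consClosed_iff_exists_sInter.mp hcons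
  exact ⟨W, hB.isOpen _ hW, hxW, S, fun T hT => (hS T hT).isLocallyConstructible, hES⟩

end spectral

end Groth.Agent.H17
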