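import Groth.Agent.H17.JacSpace
import Mathlib.RingTheory.KrullDimension.LocalRing
import Mathlib.RingTheory.KrullDimension.Basic

set_option autoImplicit false

namespace Groth.Agent.H17

theorem ringKrullDim_eq_one_iff_of_isDomain {D : Type*} [CommRing D] [IsDomain D] :
    ringKrullDim D = 1 ↔ ¬ IsField D ∧ ∀ I : Ideal D, I ≠ ⊥ → I.IsPrime → I.IsMaximal := by
  constructor
  · intro h
    refine ⟨fun h' => ?_, ?_⟩
    · exact zero_ne_one ((ringKrullDim_eq_zero_of_isField h') ▸ h)
    · exact Ring.krullDimLE_one_iff_of_noZeroDivisors.mp (Ring.krullDimLE_iff.mpr (by simp [h]))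
  · rintro ⟨hn, h⟩
    have : ¬ ringKrullDim D ≤ 0 := fun h ↦ by
      have : Ring.KrullDimLE 0 D := Ring.krullDimLE_iff.mpr h
      exact hn Ring.KrullDimLE.isField_of_isDomain
    have h1 : Ring.KrullDimLE 1 D := Ring.krullDimLE_one_iff_of_noZeroDivisors.mpr h
    rw [Ring.krullDimLE_iff] at h1
    exact le_antisymm h1 (Order.succ_le_of_lt (lt_of_not_ge this))

end Groth.Agent.H17
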