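import Mathlib.RingTheory.Ideal.KrullsHeightTheorem
import Mathlib.RingTheory.Ideal.MinimalPrime.Noetherian
import Mathlib.RingTheory.Ideal.Height

set_option autoImplicit false

namespace Groth.Agent.H17

variable {D : Type*} [CommRing D] [IsDomain D] [IsNoetherianRing D]

/-- In a Noetherian domain, if `f ≠ 0` lies in every nonzero prime then every nonzero prime is
minimal over `(f)`. -/
theorem mem_minimalPrimes_span_of_forall_mem {f : D} (hf : f ≠ 0)
    (hall : ∀ Q : Ideal D, Q.IsPrime → Q ≠ ⊥ → f ∈ Q) (Q : Ideal D) [hQ : Q.IsPrime]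
    (hQ0 : Q ≠ ⊥) : Q ∈ (Ideal.span {f}).minimalPrimes := by
  classical
  by_contra hQS
  have hfin : (Ideal.span {f} : Ideal D).minimalPrimes.Finite :=
    Ideal.finite_minimalPrimes_of_isNoetherianRing D _
  have hfQ : Ideal.span {f} ≤ Q := by
    rw [Ideal.span_singleton_le_iff_mem]
    exact hall Q hQ hQ0
  -- every minimal prime has height ≤ 1 and is nonzero
  have hht : ∀ P ∈ (Ideal.span {f} : Ideal D).minimalPrimes, P.height ≤ 1 := fun P hP =>
    Ideal.height_le_one_of_isPrincipal_of_mem_minimalPrimes _ P hP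
  have hne : ∀ P ∈ (Ideal.span {f} : Ideal D).minimalPrimes, P ≠ ⊥ := by
    intro P hP h0
    have : f ∈ P := hP.1.2 (Ideal.subset_span rfl)
    rw [h0] at this
    exact hf (by simpa using this)
  -- a nonzero prime of height ≤ 1 containing a minimal prime equals it
  have heq : ∀ P ∈ (Ideal.span {f} : Ideal D).minimalPrimes, ∀ Q' : Ideal D, Q'.IsPrime →
      Q'.height ≤ 1 → P ≤ Q' → P = Q' := by
    intro P hP Q' hQ' hQ'1 hPQ'
    by_contra hne'
    have hlt : P < Q' := lt_of_le_of_ne hPQ' hne'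
    haveI := hP.1.1
    have h1 : P.height + 1 ≤ Q'.height := Ideal.height_add_one_le_of_lt_of_isPrime hlt
    have h2 : P.height ≠ 0 := by
      rw [Ne, Ideal.height_eq_zero_iff_eq_bot]
      exact hne P hP
    have h3 : 1 ≤ P.height := Order.one_le_iff_pos.mpr (pos_iff_ne_zero.mpr h2)
    have : (1 : ℕ∞) + 1 ≤ 1 := (add_le_add_left h3 1).trans (h1.trans hQ'1)
    exact absurd this (by decide)
  -- prime avoidance
  have havoid : ¬ ((Q : Set D) ⊆ ⋃ P ∈ (hfin.toFinset : Set (Ideal D)), (P : Set D)) := by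
    intro hsub
    rw [Ideal.subset_union_prime (f := fun P : Ideal D => P) ⊥ ⊥
      (fun P hP _ _ => ((Set.Finite.mem_toFinset hfin).mp hP).1.1)] at hsub
    obtain ⟨P, hP, hQP⟩ := hsub
    have hP' : P ∈ (Ideal.span {f} : Ideal D).minimalPrimes := (Set.Finite.mem_toFinset hfin).mp hP
    obtain ⟨P₀, hP₀, hP₀Q⟩ := Ideal.exists_minimalPrimes_le hfQ
    have : P₀ = P := by
      have hle : P₀ ≤ P := hP₀Q.trans hQP
      exact le_antisymm hle (hP'.2 ⟨hP₀.1.1, hP₀.1.2⟩ hle)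
    subst this
    have : Q = P₀ := le_antisymm hQP hP₀Q
    exact hQS (this ▸ hP')
  rw [Set.not_subset] at havoid
  obtain ⟨x, hxQ, hxS⟩ := havoid
  simp only [Set.Finite.coe_toFinset, Set.mem_iUnion, SetLike.mem_coe, exists_prop, not_exists,
    not_and] at hxS
  obtain ⟨Q', hQ', hQ'Q⟩ := Ideal.exists_minimalPrimes_le (I := Ideal.span {x}) (J := Q)
    (by rw [Ideal.span_singleton_le_iff_mem]; exact hxQ)
  have hxQ' : x ∈ Q' := hQ'.1.2 (Ideal.subset_span rfl)
  have hQ'prime : Q'.IsPrime := hQ'.1.1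
  obtain ⟨P₀, hP₀, hP₀Q⟩ := Ideal.exists_minimalPrimes_le hfQ
  have hx0 : x ≠ 0 := by
    rintro rfl
    exact hxS P₀ hP₀ (zero_mem _)
  have hQ'0 : Q' ≠ ⊥ := by
    intro h0
    rw [h0] at hxQ'
    exact hx0 (by simpa using hxQ')
  have hfQ' : Ideal.span {f} ≤ Q' := by
    rw [Ideal.span_singleton_le_iff_mem]
    exact hall Q' hQ'prime hQ'0
  obtain ⟨P, hP, hPQ'⟩ := Ideal.exists_minimalPrimes_le hfQ'
  have := heq P hP Q' hQ'prime
    (Ideal.height_le_one_of_isPrincipal_of_mem_minimalPrimes _ Q' hQ') hPQ'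
  subst this
  exact hxS P hP hxQ'

/-- In a Noetherian domain with two comparable distinct nonzero primes, every nonzero element
is avoided by some nonzero prime. -/
theorem exists_prime_ne_bot_notMem {f : D} (hf : f ≠ 0) (Q₁ Q₂ : Ideal D) [Q₁.IsPrime]
    [Q₂.IsPrime] (h1 : Q₁ ≠ ⊥) (h12 : Q₁ < Q₂) :
    ∃ Q : Ideal D, Q.IsPrime ∧ Q ≠ ⊥ ∧ f ∉ Q := by
  by_contra hcon
  push Not at hcon
  have hall : ∀ Q : Ideal D, Q.IsPrime → Q ≠ ⊥ → f ∈ Q := hcon
  have hm1 := mem_minimalPrimes_span_of_forall_mem hf hall Q₁ h1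
  have hm2 := mem_minimalPrimes_span_of_forall_mem hf hall Q₂ (fun h => by
    rw [h] at h12; exact not_lt_bot h12)
  exact h12.ne (le_antisymm h12.le (hm2.2 hm1.1 h12.le))

end Groth.Agent.H17
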