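import Groth.Agent.H17.JacDim
import Mathlib.RingTheory.Jacobson.Ring
import Mathlib.RingTheory.Spectrum.Prime.Jacobson
import Mathlib.RingTheory.Spectrum.Maximal.Basic

set_option autoImplicit false

namespace Groth.Agent.H17

open PrimeSpectrum

theorem exists_notMem_of_isLocallyClosed_singleton {R : Type*} [CommRing R]
    (x : PrimeSpectrum R) (h : IsLocallyClosed ({x} : Set (PrimeSpectrum R))) :
    ∃ f, f ∉ x.asIdeal ∧
      ∀ Q : PrimeSpectrum R, x.asIdeal ≤ Q.asIdeal → f ∉ Q.asIdeal → Q = x := by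
  obtain ⟨O, C, hO, hC, hOC⟩ := h
  have hxO : x ∈ O := (hOC ▸ Set.mem_singleton x : x ∈ O ∩ C).1
  have hxC : x ∈ C := (hOC ▸ Set.mem_singleton x : x ∈ O ∩ C).2
  obtain ⟨_, ⟨f, rfl⟩, hxf, hfO⟩ := isTopologicalBasis_basic_opens.exists_subset_of_mem_open hxO hO
  refine ⟨f, hxf, ?_⟩
  intro Q hxQ hfQ
  have hQC : Q ∈ C := by
    have : x ⤳ Q := (le_iff_specializes x Q).mp hxQ
    exact this.mem_closed hC hxC
  have : Q ∈ O ∩ C := ⟨hfO hfQ, hQC⟩
  rw [← hOC] at this
  exact this

/-- A Noetherian domain in which some `f ≠ 0` lies in every nonzero prime, and which is not a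
field, is semi-local of dimension one. -/
theorem semilocal_dim_one_of_forall_mem {D : Type*} [CommRing D] [IsDomain D] [IsNoetherianRing D]
    {f : D} (hf : f ≠ 0) (hall : ∀ Q : Ideal D, Q.IsPrime → Q ≠ ⊥ → f ∈ Q) (hD : ¬ IsField D) :
    Finite (MaximalSpectrum D) ∧ ringKrullDim D = 1 := by
  have hne : ∀ M : Ideal D, M.IsMaximal → M ≠ ⊥ := by
    intro M hM h0
    apply hD
    rw [h0] at hM
    exact Ring.isField_iff_maximal_bot.mpr hM
  constructor
  · have hfin : (Ideal.span {f} : Ideal D).minimalPrimes.Finite :=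
      Ideal.finite_minimalPrimes_of_isNoetherianRing D _
    have : Finite ↥(Ideal.span {f} : Ideal D).minimalPrimes := hfin
    let g : MaximalSpectrum D → ↥(Ideal.span {f} : Ideal D).minimalPrimes := fun M =>
      ⟨M.asIdeal, by
        haveI := M.isMaximal.isPrime
        exact mem_minimalPrimes_span_of_forall_mem hf hall M.asIdeal (hne _ M.isMaximal)⟩
    apply Finite.of_injective g
    intro M M' h
    exact MaximalSpectrum.ext (congrArg Subtype.val h)
  · rw [ringKrullDim_eq_one_iff_of_isDomain]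
    refine ⟨hD, fun I hI0 hI => ?_⟩
    obtain ⟨M, hM, hIM⟩ := Ideal.exists_le_maximal I hI.ne_top
    haveI := hM.isPrime
    have h1 := mem_minimalPrimes_span_of_forall_mem hf hall I hI0
    have h2 := mem_minimalPrimes_span_of_forall_mem hf hall M (hne M hM)
    have : I = M := le_antisymm hIM (h2.2 h1.1 hIM)
    rw [this]
    exact hM

theorem isJacobsonRing_iff_no_semilocal_dim_one (A : Type*) [CommRing A] [IsNoetherianRing A] :
    IsJacobsonRing A ↔
      ∀ (p : Ideal A) [p.IsPrime],
        ¬ (Finite (MaximalSpectrum (A ⧸ p)) ∧ ringKrullDim (A ⧸ p) = 1) := by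
  classical
  constructor
  · intro hJ p hp ⟨hfin, hdim⟩
    have hD := (ringKrullDim_eq_one_iff_of_isDomain.mp hdim).1
    have hne : ∀ M : MaximalSpectrum (A ⧸ p), ∃ x ∈ M.asIdeal, x ≠ 0 := by
      intro M
      by_contra hcon
      push Not at hcon
      apply hD
      have : M.asIdeal = ⊥ := by
        rw [eq_bot_iff]
        intro x hx
        rw [Ideal.mem_bot]
        exact hcon x hx
      have hM := M.isMaximal
      rw [this] at hM
      exact Ring.isField_iff_maximal_bot.mpr hM
    choose x hxM hx0 using hne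
    haveI : Fintype (MaximalSpectrum (A ⧸ p)) := Fintype.ofFinite _
    have hprod0 : ∏ M, x M ≠ 0 := Finset.prod_ne_zero_iff.mpr fun M _ => hx0 M
    have hjac : (⊥ : Ideal (A ⧸ p)).jacobson = ⊥ :=
      (inferInstance : IsJacobsonRing (A ⧸ p)).out' ⊥ Ideal.isRadical_bot
    apply hprod0
    rw [← Ideal.mem_bot, ← hjac, Ideal.jacobson, Ideal.mem_sInf]
    rintro M ⟨-, hM⟩
    have hdvd : x ⟨M, hM⟩ ∣ ∏ M, x M := Finset.dvd_prod_of_mem x (Finset.mem_univ _)
    exact Ideal.mem_of_dvd _ hdvd (hxM ⟨M, hM⟩)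
  · intro h
    rw [isJacobsonRing_iff_jacobsonSpace, jacobsonSpace_iff_locallyClosed]
    intro Z hZne hZ
    obtain ⟨p, hpZ, hp⟩ := exists_isLocallyClosed_singleton hZ hZne
    refine ⟨p, hpZ, ?_⟩
    rw [mem_closedPoints_iff, isClosed_singleton_iff_isMaximal]
    by_contra hmax
    obtain ⟨f, hfp, hkey⟩ := exists_notMem_of_isLocallyClosed_singleton p hp
    let mk := Ideal.Quotient.mk p.asIdeal
    have hsurj : Function.Surjective mk := Ideal.Quotient.mk_surjective
    have hker : RingHom.ker mk = p.asIdeal := Ideal.mk_ker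
    apply h p.asIdeal
    apply semilocal_dim_one_of_forall_mem (f := mk f)
    · intro h0
      exact hfp (Ideal.Quotient.eq_zero_iff_mem.mp h0)
    · intro Q hQ hQ0
      by_contra hfQ
      have hQx : (⟨Q.comap mk, inferInstance⟩ : PrimeSpectrum A) = p := by
        apply hkey
        · intro a ha
          change mk a ∈ Q
          rw [Ideal.Quotient.eq_zero_iff_mem.mpr ha]
          exact zero_mem _
        · exact hfQ
      apply hQ0
      have h2 : Q.comap mk = p.asIdeal := congrArg PrimeSpectrum.asIdeal hQx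
      rw [← Ideal.map_comap_of_surjective mk hsurj Q, h2, Ideal.map_eq_bot_iff_le_ker, hker]
    · intro hF
      exact hmax (Ideal.Quotient.maximal_of_isField _ hF)

end Groth.Agent.H17
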