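import Groth.Agent.H17.JacKrull
import Mathlib.RingTheory.Spectrum.Prime.Topology
import Mathlib.Topology.JacobsonSpace
import Mathlib.Topology.LocallyClosed

set_option autoImplicit false

namespace Groth.Agent.H17

open PrimeSpectrum

/-- In the spectrum of a Noetherian ring, a point with a chain of two proper specializations
is not locally closed. -/
theorem not_isLocallyClosed_singleton_of_chain {R : Type*} [CommRing R] [IsNoetherianRing R]
    (x z y : PrimeSpectrum R) (hxz : x.asIdeal < z.asIdeal) (hzy : z.asIdeal < y.asIdeal) :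
    ¬ IsLocallyClosed ({x} : Set (PrimeSpectrum R)) := by
  rintro ⟨O, C, hO, hC, hOC⟩
  have hxO : x ∈ O := (hOC ▸ Set.mem_singleton x : x ∈ O ∩ C).1
  have hxC : x ∈ C := (hOC ▸ Set.mem_singleton x : x ∈ O ∩ C).2
  obtain ⟨_, ⟨f, rfl⟩, hxf, hfO⟩ := isTopologicalBasis_basic_opens.exists_subset_of_mem_open hxO hO
  have hfx : f ∉ x.asIdeal := hxf
  -- every prime containing `x` and avoiding `f` equals `x`
  have hkey : ∀ Q : PrimeSpectrum R, x.asIdeal ≤ Q.asIdeal → f ∉ Q.asIdeal → Q = x := by
    intro Q hxQ hfQ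
    have hQC : Q ∈ C := by
      have : x ⤳ Q := (le_iff_specializes x Q).mp hxQ
      exact this.mem_closed hC hxC
    have : Q ∈ O ∩ C := ⟨hfO hfQ, hQC⟩
    rw [← hOC] at this
    exact this
  let P := x.asIdeal
  let mk := Ideal.Quotient.mk P
  have hsurj : Function.Surjective mk := Ideal.Quotient.mk_surjective
  have hker : RingHom.ker mk = P := Ideal.mk_ker
  haveI : (z.asIdeal.map mk).IsPrime :=
    Ideal.map_isPrime_of_surjective hsurj (by rw [hker]; exact hxz.le)
  haveI : (y.asIdeal.map mk).IsPrime :=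
    Ideal.map_isPrime_of_surjective hsurj (by rw [hker]; exact (hxz.trans hzy).le)
  have hcm : ∀ I : Ideal R, P ≤ I → (I.map mk).comap mk = I := by
    intro I hI
    rw [Ideal.comap_map_of_surjective mk hsurj, ← RingHom.ker_eq_comap_bot, hker]
    exact sup_eq_left.mpr hI
  have h1 : z.asIdeal.map mk ≠ ⊥ := by
    intro h
    have := hcm z.asIdeal hxz.le
    rw [h, ← RingHom.ker_eq_comap_bot, hker] at this
    exact hxz.ne this
  have h12 : z.asIdeal.map mk < y.asIdeal.map mk := by
    refine lt_of_le_of_ne (Ideal.map_mono hzy.le) ?_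
    intro h
    have h' := congrArg (Ideal.comap mk) h
    rw [hcm _ hxz.le, hcm _ (hxz.trans hzy).le] at h'
    exact hzy.ne h'
  have hf0 : mk f ≠ 0 := by
    intro h
    exact hfx (Ideal.Quotient.eq_zero_iff_mem.mp h)
  obtain ⟨Q, hQ, hQ0, hfQ⟩ := exists_prime_ne_bot_notMem hf0 (z.asIdeal.map mk)
    (y.asIdeal.map mk) h1 h12
  have hQx : (⟨Q.comap mk, inferInstance⟩ : PrimeSpectrum R) = x := by
    apply hkey
    · intro a ha
      change mk a ∈ Q
      rw [Ideal.Quotient.eq_zero_iff_mem.mpr ha]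
      exact zero_mem _
    · exact hfQ
  apply hQ0
  have h2 : Q.comap mk = P := congrArg PrimeSpectrum.asIdeal hQx
  rw [← Ideal.map_comap_of_surjective mk hsurj Q, h2, Ideal.map_eq_bot_iff_le_ker, hker]

end Groth.Agent.H17

namespace Groth.Agent.H17

open PrimeSpectrum Topology

universe u

/-- A space locally isomorphic to spectra of Noetherian rings. -/
def LocNoethSpec (X : Type u) [TopologicalSpace X] : Prop :=
  ∀ y : X, ∃ (R : Type u) (_ : CommRing R) (_ : IsNoetherianRing R) (e : PrimeSpectrum R → X),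
    IsOpenEmbedding e ∧ y ∈ Set.range e

variable {X : Type u} [TopologicalSpace X]

/-- In a locally Noetherian "scheme-like" space a point with a chain of two proper
specializations is not locally closed. -/
theorem not_isLocallyClosed_singleton_of_specializes (hX : LocNoethSpec X) {x z y : X}
    (hxz : x ⤳ z) (hzy : z ⤳ y) (hne₁ : x ≠ z) (hne₂ : z ≠ y) :
    ¬ IsLocallyClosed ({x} : Set X) := by
  intro hlc
  obtain ⟨R, _, _, e, he, ⟨y', rfl⟩⟩ := hX y
  obtain ⟨z', rfl⟩ : z ∈ Set.range e := hzy.mem_open he.isOpen_range ⟨y', rfl⟩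
  obtain ⟨x', rfl⟩ : x ∈ Set.range e := hxz.mem_open he.isOpen_range ⟨z', rfl⟩
  have h1 : x' ⤳ z' := he.isInducing.specializes_iff.mp hxz
  have h2 : z' ⤳ y' := he.isInducing.specializes_iff.mp hzy
  have h1' : x'.asIdeal ≤ z'.asIdeal := (le_iff_specializes x' z').mpr h1
  have h2' : z'.asIdeal ≤ y'.asIdeal := (le_iff_specializes z' y').mpr h2
  have hlt1 : x'.asIdeal < z'.asIdeal := lt_of_le_of_ne h1' (fun h => hne₁ (by
    rw [PrimeSpectrum.ext h]))
  have hlt2 : z'.asIdeal < y'.asIdeal := lt_of_le_of_ne h2' (fun h => hne₂ (by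
    rw [PrimeSpectrum.ext h]))
  apply not_isLocallyClosed_singleton_of_chain x' z' y' hlt1 hlt2
  have := hlc.preimage he.continuous
  rwa [← Set.image_singleton, he.injective.preimage_image] at this

/-- In the spectrum of a Noetherian ring, every nonempty locally closed subset contains a locally
closed point. -/
theorem exists_isLocallyClosed_singleton {R : Type*} [CommRing R] [IsNoetherianRing R]
    {S : Set (PrimeSpectrum R)} (hS : IsLocallyClosed S) (hne : S.Nonempty) :
    ∃ p ∈ S, IsLocallyClosed ({p} : Set (PrimeSpectrum R)) := by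
  have hwf : WellFoundedGT (Ideal R) := inferInstance
  obtain ⟨I, ⟨p, hpS, rfl⟩, hmax⟩ := hwf.wf.has_min (PrimeSpectrum.asIdeal '' S) (hne.image _)
  refine ⟨p, hpS, ?_⟩
  have : ({p} : Set (PrimeSpectrum R)) = S ∩ closure {p} := by
    ext q
    constructor
    · rintro rfl
      exact ⟨hpS, subset_closure rfl⟩
    · rintro ⟨hqS, hq⟩
      have hpq : p ≤ q := (le_iff_specializes p q).mpr (specializes_iff_mem_closure.mpr hq)
      by_contra hne'
      have hlt : p.asIdeal < q.asIdeal := lt_of_le_of_ne hpq (fun h => hne' (by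
        rw [Set.mem_singleton_iff]; exact (PrimeSpectrum.ext h).symm))
      exact hmax q.asIdeal ⟨q, hqS, rfl⟩ hlt
  rw [this]
  exact hS.inter isClosed_closure.isLocallyClosed

/-- The main topological statement: the complement of a closed subset meeting all nonempty
closed subsets is a Jacobson space. -/
theorem jacobsonSpace_compl (hX : LocNoethSpec X) (Y : Set X) (hY : IsClosed Y)
    (hmeet : ∀ Z : Set X, IsClosed Z → Z.Nonempty → (Z ∩ Y).Nonempty) :
    JacobsonSpace ↥(Yᶜ) := by
  rw [jacobsonSpace_iff_locallyClosed]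
  intro Z hZne hZ
  obtain ⟨t, ht⟩ := hZne
  obtain ⟨R, _, _, e, he, ⟨t', ht'⟩⟩ := hX t.1
  have hU : IsOpen (Yᶜ : Set X) := hY.isOpen_compl
  have hZX : IsLocallyClosed (Subtype.val '' Z : Set X) :=
    hZ.image IsEmbedding.subtypeVal.isInducing (by
      rw [Subtype.range_val]; exact hU.isLocallyClosed)
  have hS : IsLocallyClosed (e ⁻¹' (Subtype.val '' Z)) := hZX.preimage he.continuous
  obtain ⟨p, hpS, hp⟩ := exists_isLocallyClosed_singleton hS ⟨t', by
    rw [Set.mem_preimage, ht']; exact ⟨t, ht, rfl⟩⟩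
  obtain ⟨x₀, hx₀Z, hx₀⟩ := hpS
  have hxlc : IsLocallyClosed ({x₀.1} : Set X) := by
    have := hp.image he.isInducing he.isOpen_range.isLocallyClosed
    rwa [Set.image_singleton, ← hx₀] at this
  refine ⟨x₀, hx₀Z, ?_⟩
  rw [mem_closedPoints_iff, ← closure_subset_iff_isClosed]
  intro z₀ hz₀
  by_contra hne
  have hne' : x₀ ≠ z₀ := fun h => hne (h ▸ rfl)
  have hxz : x₀.1 ⤳ z₀.1 := (specializes_iff_mem_closure.mpr hz₀).map continuous_subtype_val
  obtain ⟨y, hy, hyY⟩ := hmeet (closure {z₀.1}) isClosed_closure ⟨z₀.1, subset_closure rfl⟩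
  have hzy : z₀.1 ⤳ y := specializes_iff_mem_closure.mpr hy
  exact not_isLocallyClosed_singleton_of_specializes hX hxz hzy
    (fun h => hne' (Subtype.ext h)) (fun h => z₀.2 (h ▸ hyY)) hxlc

end Groth.Agent.H17
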