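import Groth.Prelude.Def_LambdaRing
import Mathlib.RingTheory.PowerSeries.WellKnown

set_option autoImplicit false

namespace Groth.Agent.H17

open LambdaRing PowerSeries Finset

universe u

variable {K : Type u} [CommRing K] [LambdaOps K]

theorem lamSeries_add (x y : K) : lamSeries (x + y) = lamSeries x * lamSeries y := by
  ext n
  simp only [lamSeries, coeff_mk, coeff_mul, LambdaOps.lam_add]
  rw [Finset.Nat.sum_antidiagonal_eq_sum_range_succ_mk]

theorem constantCoeff_lamSeries (x : K) : constantCoeff (lamSeries x) = 1 := by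
  rw [← coeff_zero_eq_constantCoeff_apply]
  simp [lamSeries, LambdaOps.lam_zero]

theorem coeff_lamSeries (x : K) (n : ℕ) : coeff n (lamSeries x) = LambdaOps.lam n x := by
  simp [lamSeries]

/-- `λ_{-t}(x)`. -/
noncomputable def lamNeg (x : K) : K⟦X⟧ := rescale (-1 : K) (lamSeries x)

theorem lamNeg_add (x y : K) : lamNeg (x + y) = lamNeg x * lamNeg y := by
  simp [lamNeg, lamSeries_add]

theorem constantCoeff_lamNeg (x : K) : constantCoeff (lamNeg x) = 1 := by
  rw [← coeff_zero_eq_constantCoeff_apply]
  simp [lamNeg, coeff_rescale, lamSeries, LambdaOps.lam_zero]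

/-- the inverse series of `λ_{-t}(x)`. -/
noncomputable def lamNegInv (x : K) : K⟦X⟧ := (lamNeg x).invOfUnit 1

theorem lamNeg_mul_inv (x : K) : lamNeg x * lamNegInv x = 1 :=
  mul_invOfUnit _ _ (by simp [constantCoeff_lamNeg])

theorem lamNegInv_mul (x : K) : lamNegInv x * lamNeg x = 1 := by
  rw [mul_comm]; exact lamNeg_mul_inv x

theorem eq_lamNegInv_of_mul_eq_one (x : K) (g : K⟦X⟧) (h : lamNeg x * g = 1) : g = lamNegInv x := by
  calc g = (lamNegInv x * lamNeg x) * g := by rw [lamNegInv_mul, one_mul]
    _ = lamNegInv x * (lamNeg x * g) := by ring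
    _ = lamNegInv x := by rw [h, mul_one]

theorem lamNegInv_add (x y : K) : lamNegInv (x + y) = lamNegInv x * lamNegInv y := by
  symm
  apply eq_lamNegInv_of_mul_eq_one
  rw [lamNeg_add]
  calc lamNeg x * lamNeg y * (lamNegInv x * lamNegInv y)
      = (lamNeg x * lamNegInv x) * (lamNeg y * lamNegInv y) := by ring
    _ = 1 := by rw [lamNeg_mul_inv, lamNeg_mul_inv, one_mul]

/-- logarithmic derivative of `λ_{-t}(x)`. -/
noncomputable def dlogLam (x : K) : K⟦X⟧ := derivative K (lamNeg x) * lamNegInv x

theorem dlogLam_add (x y : K) : dlogLam (x + y) = dlogLam x + dlogLam y := by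
  unfold dlogLam
  rw [lamNeg_add, lamNegInv_add, Derivation.leibniz]
  simp only [smul_eq_mul]
  calc (lamNeg x * derivative K (lamNeg y) + lamNeg y * derivative K (lamNeg x)) *
        (lamNegInv x * lamNegInv y)
      = (lamNeg x * lamNegInv x) * (derivative K (lamNeg y) * lamNegInv y) +
        (lamNeg y * lamNegInv y) * (derivative K (lamNeg x) * lamNegInv x) := by ring
    _ = _ := by rw [lamNeg_mul_inv, lamNeg_mul_inv]; ring

theorem adamsSeries_eq (P : PosStructure K) (x : K) :
    adamsSeries P x = C (P.aug x : K) - X * dlogLam x := by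
  unfold adamsSeries dlogLam lamNegInv lamNeg
  ring

theorem adamsSeries_add (P : PosStructure K) (x y : K) :
    adamsSeries P (x + y) = adamsSeries P x + adamsSeries P y := by
  simp only [adamsSeries_eq, dlogLam_add, map_add, Int.cast_add]
  ring

theorem adams_add (P : PosStructure K) (j : ℕ) (x y : K) :
    adams P j (x + y) = adams P j x + adams P j y := by
  simp [adams, adamsSeries_add]

theorem adams_zero (P : PosStructure K) (j : ℕ) : adams P j (0 : K) = 0 := by
  have := adams_add P j (0 : K) 0
  rw [add_zero] at this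
  exact left_eq_add.mp this

theorem adams_neg (P : PosStructure K) (j : ℕ) (x : K) : adams P j (-x) = -adams P j x := by
  have := adams_add P j x (-x)
  rw [add_neg_cancel, adams_zero] at this
  exact (neg_eq_of_add_eq_zero_right this.symm).symm

theorem adams_sub (P : PosStructure K) (j : ℕ) (x y : K) :
    adams P j (x - y) = adams P j x - adams P j y := by
  rw [sub_eq_add_neg, adams_add, adams_neg, sub_eq_add_neg]

/-- `ψ^j` as an additive map. -/
noncomputable def adamsAddHom (P : PosStructure K) (j : ℕ) : K →+ K where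
  toFun := adams P j
  map_zero' := adams_zero P j
  map_add' := adams_add P j

theorem adams_multiset_sum (P : PosStructure K) (j : ℕ) (s : Multiset K) :
    adams P j s.sum = (s.map (adams P j)).sum :=
  map_multiset_sum (adamsAddHom P j) s

/-! ### line elements -/

theorem lamSeries_of_isLine (P : PosStructure K) (u : K) (hu : P.IsLine u) :
    lamSeries u = 1 + C u * X := by
  ext n
  rcases n with _ | _ | n
  · simp [lamSeries, LambdaOps.lam_zero]
  · simp [lamSeries, LambdaOps.lam_one, coeff_one]
  · have h : LambdaOps.lam (n + 2) u = 0 := by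
      apply P.lam_eq_zero u hu.1
      rw [hu.2]
      push_cast
      omega
    simp [lamSeries, h, coeff_one]

theorem lamNeg_of_isLine (P : PosStructure K) (u : K) (hu : P.IsLine u) :
    lamNeg u = 1 - C u * X := by
  rw [lamNeg, lamSeries_of_isLine P u hu]
  ext n
  simp only [coeff_rescale, map_add, map_sub, coeff_one, coeff_C_mul, coeff_X]
  rcases n with _ | _ | n <;> simp

omit [LambdaOps K] in
theorem one_sub_mul_mk_pow (u : K) : (1 - C u * X) * (mk fun n => u ^ n) = 1 := by
  ext n
  rcases n with _ | n
  · simp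
  · simp [sub_mul, coeff_one, mul_assoc, coeff_succ_X_mul, pow_succ]
    ring

theorem lamNegInv_of_isLine (P : PosStructure K) (u : K) (hu : P.IsLine u) :
    lamNegInv u = mk fun n => u ^ n := by
  symm
  apply eq_lamNegInv_of_mul_eq_one
  rw [lamNeg_of_isLine P u hu, one_sub_mul_mk_pow]

theorem adams_of_isLine (P : PosStructure K) (u : K) (hu : P.IsLine u) (j : ℕ) :
    adams P j u = u ^ j := by
  unfold adams
  rw [adamsSeries_eq, dlogLam, lamNeg_of_isLine P u hu, lamNegInv_of_isLine P u hu, hu.2]
  rcases j with _ | j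
  · simp
  · simp [coeff_succ_X_mul, pow_succ]
    ring

end Groth.Agent.H17
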