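import Groth.Agent.H17.Lambda
import Mathlib.RingTheory.PowerSeries.Basic
import Mathlib.Algebra.Polynomial.Coeff

set_option autoImplicit false

namespace Groth.Agent.H17

open LambdaRing PowerSeries Finset

universe u

variable {K : Type u} [CommRing K] [LambdaOps K]
variable {K' : Type u} [CommRing K'] [LambdaOps K']

/-! ### λ-homomorphisms -/

theorem map_lamSeries (f : K →+* K') (hf : IsLambdaHom f) (x : K) :
    (lamSeries x).map f = lamSeries (f x) := by
  ext n
  simp [lamSeries, hf n x]

theorem map_lamNeg (f : K →+* K') (hf : IsLambdaHom f) (x : K) :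
    (lamNeg x).map f = lamNeg (f x) := by
  unfold lamNeg
  rw [← map_lamSeries f hf, ← rescale_map]
  simp

theorem map_lamNegInv (f : K →+* K') (hf : IsLambdaHom f) (x : K) :
    (lamNegInv x).map f = lamNegInv (f x) := by
  apply eq_lamNegInv_of_mul_eq_one
  rw [← map_lamNeg f hf, ← map_mul, lamNeg_mul_inv, map_one]

omit [LambdaOps K] [LambdaOps K'] in
theorem map_derivative' (f : K →+* K') (g : K⟦X⟧) :
    (derivative K g).map f = derivative K' (g.map f) := by
  ext n
  simp [coeff_derivative]

theorem map_dlogLam (f : K →+* K') (hf : IsLambdaHom f) (x : K) :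
    (dlogLam x).map f = dlogLam (f x) := by
  unfold dlogLam
  rw [map_mul, map_lamNegInv f hf, map_derivative', map_lamNeg f hf]

theorem map_adamsSeries (P : PosStructure K) (P' : PosStructure K') (f : K →+* K')
    (h : IsExtension P P' f) (x : K) :
    (adamsSeries P x).map f = adamsSeries P' (f x) := by
  rw [adamsSeries_eq, adamsSeries_eq, map_sub, map_mul, map_dlogLam f h.isLambdaHom, h.aug_comp]
  simp

theorem map_adams (P : PosStructure K) (P' : PosStructure K') (f : K →+* K')
    (h : IsExtension P P' f) (j : ℕ) (x : K) :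
    f (adams P j x) = adams P' j (f x) := by
  unfold adams
  rw [← map_adamsSeries P P' f h, coeff_map]

theorem isExtension_isLine {P : PosStructure K} {P' : PosStructure K'} {f : K →+* K'}
    (h : IsExtension P P' f) {u : K} (hu : P.IsLine u) : P'.IsLine (f u) :=
  ⟨h.pos_subset u hu.1, by rw [h.aug_comp, hu.2]⟩

theorem isExtension_comp {K'' : Type u} [CommRing K''] [LambdaOps K'']
    {P : PosStructure K} {P' : PosStructure K'} {P'' : PosStructure K''}
    {f : K →+* K'} {g : K' →+* K''}
    (hf : IsExtension P P' f) (hg : IsExtension P' P'' g) : IsExtension P P'' (g.comp f) where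
  isLambdaHom i x := by
    simp only [RingHom.comp_apply]
    rw [hf.isLambdaHom, hg.isLambdaHom]
  injective := hg.injective.comp hf.injective
  aug_comp x := by simp only [RingHom.comp_apply]; rw [hg.aug_comp, hf.aug_comp]
  pos_subset e he := hg.pos_subset _ (hf.pos_subset e he)

/-! ### line elements -/

theorem isLine_one (P : PosStructure K) : P.IsLine (1 : K) := by
  refine ⟨?_, map_one _⟩
  have := P.natCast_mem 1 one_pos
  simpa using this

theorem isLine_mul (P : PosStructure K) {u v : K} (hu : P.IsLine u) (hv : P.IsLine v) :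
    P.IsLine (u * v) :=
  ⟨P.mul_mem u v hu.1 hv.1, by rw [map_mul, hu.2, hv.2, mul_one]⟩

theorem isLine_pow (P : PosStructure K) {u : K} (hu : P.IsLine u) (n : ℕ) : P.IsLine (u ^ n) := by
  induction n with
  | zero => simpa using isLine_one P
  | succ n ih => rw [pow_succ]; exact isLine_mul P ih hu

theorem adams_sum_lines (P : PosStructure K) (j : ℕ) (s : Multiset K) (hs : ∀ u ∈ s, P.IsLine u) :
    adams P j s.sum = (s.map (· ^ j)).sum := by
  rw [adams_multiset_sum]
  congr 1
  apply Multiset.map_congr rfl
  intro u hu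
  exact adams_of_isLine P u (hs u hu) j

theorem adams_mul_sum_lines (P : PosStructure K) (j : ℕ) (s t : Multiset K)
    (hs : ∀ u ∈ s, P.IsLine u) (ht : ∀ u ∈ t, P.IsLine u) :
    adams P j (s.sum * t.sum) = adams P j s.sum * adams P j t.sum := by
  induction s using Multiset.induction_on with
  | empty => simp [adams_zero]
  | cons u s ih =>
    have hu : P.IsLine u := hs u (Multiset.mem_cons_self u s)
    have hs' : ∀ v ∈ s, P.IsLine v := fun v hv => hs v (Multiset.mem_cons_of_mem hv)
    rw [Multiset.sum_cons, add_mul, adams_add, adams_add, add_mul, ih hs']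
    congr 1
    clear ih
    induction t using Multiset.induction_on with
    | empty => simp [adams_zero]
    | cons v t ih2 =>
      have hv : P.IsLine v := ht v (Multiset.mem_cons_self v t)
      have ht' : ∀ w ∈ t, P.IsLine w := fun w hw => ht w (Multiset.mem_cons_of_mem hw)
      rw [Multiset.sum_cons, mul_add, adams_add, adams_add, mul_add, ih2 ht']
      congr 1
      rw [adams_of_isLine P _ (isLine_mul P hu hv), adams_of_isLine P u hu, adams_of_isLine P v hv,
        mul_pow]

theorem adams_adams_sum_lines (P : PosStructure K) (i j : ℕ) (s : Multiset K)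
    (hs : ∀ u ∈ s, P.IsLine u) :
    adams P i (adams P j s.sum) = adams P (i * j) s.sum := by
  rw [adams_sum_lines P j s hs, adams_sum_lines P (i * j) s hs, adams_multiset_sum, Multiset.map_map]
  congr 1
  apply Multiset.map_congr rfl
  intro u hu
  simp only [Function.comp_apply]
  rw [adams_of_isLine P _ (isLine_pow P (hs u hu) j), ← pow_mul, mul_comm]

/-! ### splitting -/

/-- Under the splitting property, one positive element splits in an extension which again has the
splitting property. -/
theorem exists_split_one (P : PosStructure K) (hK : HasSplitting K P) (e : K) (he : e ∈ P.pos) :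
    ∃ (K' : Type u) (_ : CommRing K') (_ : LambdaOps K') (P' : PosStructure K') (f : K →+* K'),
      HasSplitting K' P' ∧ IsExtension P P' f ∧
      ∃ s : Multiset K', (∀ u ∈ s, P'.IsLine u) ∧ s.sum = f e := by
  obtain ⟨C, hC, hsplit⟩ := hK
  obtain ⟨L', hL', f, hf, s, hs, hsum⟩ := hsplit ⟨K, P⟩ hC e he
  exact ⟨L'.carrier, L'.commRing, L'.lambdaOps, L'.posStr, f, ⟨C, hL', hsplit⟩, hf, s, hs, hsum⟩

/-- Two positive elements split simultaneously in some extension. -/
theorem exists_split_two (P : PosStructure K) (hK : HasSplitting K P) (e e' : K) (he : e ∈ P.pos)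
    (he' : e' ∈ P.pos) :
    ∃ (K' : Type u) (_ : CommRing K') (_ : LambdaOps K') (P' : PosStructure K') (f : K →+* K'),
      HasSplitting K' P' ∧ IsExtension P P' f ∧
      (∃ s : Multiset K', (∀ u ∈ s, P'.IsLine u) ∧ s.sum = f e) ∧
      (∃ s : Multiset K', (∀ u ∈ s, P'.IsLine u) ∧ s.sum = f e') := by
  obtain ⟨K₁, _, _, P₁, f₁, hK₁, hf₁, s₁, hs₁, hsum₁⟩ := exists_split_one P hK e he
  obtain ⟨K₂, _, _, P₂, f₂, hK₂, hf₂, s₂, hs₂, hsum₂⟩ :=
    exists_split_one P₁ hK₁ (f₁ e') (hf₁.pos_subset e' he')
  refine ⟨K₂, _, _, P₂, f₂.comp f₁, hK₂, isExtension_comp hf₁ hf₂, ⟨s₁.map f₂, ?_, ?_⟩, ⟨s₂, hs₂, hsum₂⟩⟩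
  · intro u hu
    obtain ⟨v, hv, rfl⟩ := Multiset.mem_map.mp hu
    exact isExtension_isLine hf₂ (hs₁ v hv)
  · rw [← map_multiset_sum, hsum₁]; rfl

theorem adams_mul_pos (P : PosStructure K) (hK : HasSplitting K P) (j : ℕ) (e e' : K)
    (he : e ∈ P.pos) (he' : e' ∈ P.pos) :
    adams P j (e * e') = adams P j e * adams P j e' := by
  obtain ⟨K', _, _, P', f, -, hf, ⟨s, hs, hsum⟩, ⟨t, ht, htsum⟩⟩ := exists_split_two P hK e e' he he'
  apply hf.injective
  rw [map_adams P P' f hf, map_mul, map_mul, map_adams P P' f hf, map_adams P P' f hf, ← hsum, ← htsum]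
  exact adams_mul_sum_lines P' j s t hs ht

theorem adams_mul (P : PosStructure K) (hK : HasSplitting K P) (j : ℕ) (x y : K) :
    adams P j (x * y) = adams P j x * adams P j y := by
  obtain ⟨e, f, he, hf, rfl⟩ := P.exists_sub x
  obtain ⟨e', f', he', hf', rfl⟩ := P.exists_sub y
  have : (e - f) * (e' - f') = e * e' - e * f' - f * e' + f * f' := by ring
  rw [this, adams_add, adams_sub, adams_sub, adams_sub, adams_sub, adams_mul_pos P hK j e e' he he',
    adams_mul_pos P hK j e f' he hf', adams_mul_pos P hK j f e' hf he',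
    adams_mul_pos P hK j f f' hf hf']
  ring

theorem adams_one (P : PosStructure K) (j : ℕ) : adams P j (1 : K) = 1 := by
  rw [adams_of_isLine P 1 (isLine_one P), one_pow]

theorem adams_adams_pos (P : PosStructure K) (hK : HasSplitting K P) (i j : ℕ) (e : K)
    (he : e ∈ P.pos) : adams P i (adams P j e) = adams P (i * j) e := by
  obtain ⟨K', _, _, P', f, -, hf, s, hs, hsum⟩ := exists_split_one P hK e he
  apply hf.injective
  rw [map_adams P P' f hf, map_adams P P' f hf, map_adams P P' f hf, ← hsum]
  exact adams_adams_sum_lines P' i j s hs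

theorem adams_adams (P : PosStructure K) (hK : HasSplitting K P) (i j : ℕ) (x : K) :
    adams P i (adams P j x) = adams P (i * j) x := by
  obtain ⟨e, f, he, hf, rfl⟩ := P.exists_sub x
  rw [adams_sub, adams_sub, adams_sub, adams_adams_pos P hK i j e he, adams_adams_pos P hK i j f hf]

end Groth.Agent.H17
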