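import Mathlib.LinearAlgebra.BilinearForm.Orthogonal
import Mathlib.LinearAlgebra.Dual.Defs
import Mathlib.LinearAlgebra.FreeModule.Basic
import Mathlib.LinearAlgebra.FreeModule.PID
import Mathlib.LinearAlgebra.FreeModule.Finite.Matrix
import Mathlib.LinearAlgebra.Dimension.Torsion.Finite
import Mathlib.LinearAlgebra.Dimension.RankNullity
import Mathlib.LinearAlgebra.Dimension.Localization
import Mathlib.Algebra.Module.Projective
import Mathlib.Algebra.Module.Torsion.Basic
import Mathlib.LinearAlgebra.Quotient.Basic

set_option autoImplicit false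

namespace Groth.Agent.H17

open Module

/-- For a positive definite integral form on a finite free `ℤ`-module, every functional has a
nonzero multiple represented by a vector. -/
theorem exists_smul_eq_of_posDef {M : Type*} [AddCommGroup M] [Module.Finite ℤ M] [Module.Free ℤ M]
    (B : LinearMap.BilinForm ℤ M) (hpos : ∀ x, x ≠ 0 → 0 < B x x) (φ : Module.Dual ℤ M) :
    ∃ N : ℤ, N ≠ 0 ∧ ∃ m : M, N • φ = B m := by
  have hinj : Function.Injective B := by
    rw [injective_iff_map_eq_zero]
    intro m hm
    by_contra hne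
    have := hpos m hne
    rw [hm] at this
    simp at this
  have h1 : finrank ℤ (LinearMap.range B) = finrank ℤ M := LinearMap.finrank_range_of_inj hinj
  have h2 : finrank ℤ (Module.Dual ℤ M) = finrank ℤ M := Module.finrank_linearMap_self ℤ ℤ M
  have h3 : finrank ℤ (Module.Dual ℤ M ⧸ LinearMap.range B) + finrank ℤ (LinearMap.range B) =
      finrank ℤ (Module.Dual ℤ M) := (LinearMap.range B).finrank_quotient_add_finrank
  have h4 : finrank ℤ (Module.Dual ℤ M ⧸ LinearMap.range B) = 0 := by omega
  rw [Module.finrank_eq_zero_iff_isTorsion] at h4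
  obtain ⟨a, ha⟩ := @h4 (Submodule.Quotient.mk φ)
  refine ⟨a.1, nonZeroDivisors.coe_ne_zero a, ?_⟩
  have : (a.1 • φ) ∈ LinearMap.range B := by
    rw [← Submodule.Quotient.mk_eq_zero, Submodule.Quotient.mk_smul]
    exact ha
  obtain ⟨m, hm⟩ := this
  exact ⟨m, hm.symm⟩

/-- A saturated submodule of a finite free `ℤ`-module admits a linear retraction. -/
theorem exists_retraction_of_saturated {L : Type*} [AddCommGroup L] [Module.Finite ℤ L]
    [Module.Free ℤ L] (A : Submodule ℤ L)
    (htf : ∀ (c : ℤ) (x : L), c ≠ 0 → c • x ∈ A → x ∈ A) :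
    ∃ r : L →ₗ[ℤ] A, ∀ a : A, r a = a := by
  have : Module.IsTorsionFree ℤ (L ⧸ A) := by
    rw [Module.isTorsionFree_iff_smul_eq_zero] 
    intro c q hcq
    induction q using Submodule.Quotient.induction_on with
    | H x =>
      by_cases hc : c = 0
      · exact Or.inl hc
      · right
        rw [← Submodule.Quotient.mk_smul, Submodule.Quotient.mk_eq_zero] at hcq
        rw [Submodule.Quotient.mk_eq_zero]
        exact htf c x hc hcq
  have hfree : Module.Free ℤ (L ⧸ A) := Module.free_of_finite_type_torsion_free'
  obtain ⟨s, hs⟩ := Module.projective_lifting_property A.mkQ LinearMap.id A.mkQ_surjective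
  have hmem : ∀ x : L, x - s (A.mkQ x) ∈ A := by
    intro x
    rw [← Submodule.Quotient.mk_eq_zero, Submodule.Quotient.mk_sub]
    have := LinearMap.congr_fun hs (A.mkQ x)
    simp only [LinearMap.comp_apply, LinearMap.id_apply, Submodule.mkQ_apply] at this
    simp only [Submodule.mkQ_apply]
    rw [this, sub_self]
  refine ⟨(LinearMap.id - s ∘ₗ A.mkQ).codRestrict A (fun x => by simpa using hmem x), ?_⟩
  intro a
  ext
  have h0 : A.mkQ (a : L) = 0 := by simp
  simp [h0]

end Groth.Agent.H17
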