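import Mathlib.RingTheory.Artinian.Module
import Mathlib.Algebra.Module.Torsion.Basic
import Mathlib.RingTheory.Ideal.Operations
import Mathlib.RingTheory.Finiteness.Ideal

set_option autoImplicit false

namespace Groth.Agent.H17

open Submodule

universe u v

variable {R : Type u} [CommRing R]

/-- Melkersson's lemma, principal case. -/
theorem isArtinian_of_torsionBy_principal (x : R) (M : Type v) [AddCommGroup M] [Module R M]
    (hx : ∀ m : M, ∃ n : ℕ, x ^ n • m = 0) (hA : IsArtinian R (torsionBy R M x)) :
    IsArtinian R M := by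
  rw [← monotone_stabilizes_iff_artinian]
  intro N
  -- `N : ℕ →o (Submodule R M)ᵒᵈ`, a descending chain
  have hanti : ∀ {j j' : ℕ}, j ≤ j' → OrderDual.ofDual (N j') ≤ OrderDual.ofDual (N j) :=
    fun h => N.monotone h
  let T := torsionBy R M x
  let L : ℕ → ℕ → Submodule R T := fun i j =>
    Submodule.comap T.subtype
      (Submodule.map (DistribSMul.toLinearMap R M (x ^ i))
        (OrderDual.ofDual (N j) ⊓ torsionBy R M (x ^ (i + 1))))
  have hLmem : ∀ i j (t : T), t ∈ L i j ↔
      ∃ n : M, (n ∈ OrderDual.ofDual (N j) ∧ x ^ (i + 1) • n = 0) ∧ x ^ i • n = t.1 := by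
    intro i j t
    simp only [L, Submodule.mem_comap, Submodule.mem_map, Submodule.mem_inf,
      Submodule.mem_torsionBy_iff, Submodule.subtype_apply, DistribSMul.toLinearMap_apply]
  have hLj : ∀ i {j j'}, j ≤ j' → L i j' ≤ L i j := by
    intro i j j' h t ht
    rw [hLmem] at ht ⊢
    obtain ⟨n, ⟨hn, hn0⟩, hnt⟩ := ht
    exact ⟨n, ⟨hanti h hn, hn0⟩, hnt⟩
  have hLi : ∀ {i i'} j, i ≤ i' → L i' j ≤ L i j := by
    intro i i' j h
    induction h with
    | refl => exact le_rfl
    | step h ih =>
      refine le_trans ?_ ih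
      intro t ht
      rw [hLmem] at ht ⊢
      obtain ⟨n, ⟨hn, hn0⟩, hnt⟩ := ht
      refine ⟨x • n, ⟨Submodule.smul_mem _ _ hn, ?_⟩, ?_⟩
      · rw [smul_smul, ← pow_succ]; exact hn0
      · rw [smul_smul, ← pow_succ]; exact hnt
  -- a minimal element of the doubly indexed family
  obtain ⟨_, ⟨⟨i₀, j₀⟩, rfl⟩, hmin⟩ := IsArtinian.set_has_minimal
    (Set.range fun p : ℕ × ℕ => L p.1 p.2) ⟨_, ⟨(0, 0), rfl⟩⟩
  have hbig : ∀ i j, i₀ ≤ i → j₀ ≤ j → L i j = L i₀ j₀ := by
    intro i j hi hj
    have hle : L i j ≤ L i₀ j₀ := (hLi j hi).trans (hLj i₀ hj)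
    by_contra hne
    exact hmin (L i j) ⟨(i, j), rfl⟩ (lt_of_le_of_ne hle hne)
  -- stabilisation for each `i`
  have hstab : ∀ i, ∃ J, ∀ j, J ≤ j → L i J = L i j := by
    intro i
    exact IsArtinian.monotone_stabilizes
      (⟨fun j => OrderDual.toDual (L i j), fun j j' h => hLj i h⟩ : ℕ →o (Submodule R T)ᵒᵈ)
  choose js hjs using hstab
  let J := max j₀ ((Finset.range i₀).sup js)
  have hJ : ∀ i j, J ≤ j → L i j = L i J := by
    intro i j hj
    by_cases hi : i₀ ≤ i
    · rw [hbig i j hi ((le_max_left _ _).trans hj), hbig i J hi (le_max_left _ _)]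
    · have hi' : i ∈ Finset.range i₀ := Finset.mem_range.mpr (not_le.mp hi)
      have h1 : js i ≤ J := (Finset.le_sup hi').trans (le_max_right _ _)
      rw [← hjs i j (h1.trans hj), ← hjs i J h1]
  refine ⟨J, fun j hj => ?_⟩
  apply le_antisymm (N.monotone hj)
  -- show `N J ≤ N j` in the original order
  change OrderDual.ofDual (N J) ≤ OrderDual.ofDual (N j)
  have key : ∀ i (n : M), n ∈ OrderDual.ofDual (N J) → x ^ i • n = 0 →
      n ∈ OrderDual.ofDual (N j) := by
    intro i
    induction i with
    | zero =>
      intro n _ hn0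
      rw [pow_zero, one_smul] at hn0
      rw [hn0]; exact zero_mem _
    | succ i ih =>
      intro n hn hn0
      have hT : x ^ i • n ∈ T := by
        rw [Submodule.mem_torsionBy_iff, smul_smul, ← pow_succ']
        exact hn0
      have hmemJ : (⟨x ^ i • n, hT⟩ : T) ∈ L i J := by
        rw [hLmem]
        exact ⟨n, ⟨hn, hn0⟩, rfl⟩
      rw [← hJ i j hj, hLmem] at hmemJ
      obtain ⟨n', ⟨hn', hn'0⟩, hnn'⟩ := hmemJ
      have hdiff : n - n' ∈ OrderDual.ofDual (N j) := by
        apply ih
        · exact Submodule.sub_mem _ hn (hanti hj hn')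
        · rw [smul_sub, hnn']
          exact sub_self _
      have := Submodule.add_mem _ hdiff hn'
      rwa [sub_add_cancel] at this
  intro n hn
  obtain ⟨i, hi⟩ := hx n
  exact key i n hn hi

end Groth.Agent.H17

namespace Groth.Agent.H17

open Submodule

universe u v

variable {R : Type u} [CommRing R]

/-- Melkersson's lemma for the ideal generated by a finite set. -/
theorem isArtinian_of_torsionBySet_span_finset (s : Finset R) :
    ∀ (M : Type v) [AddCommGroup M] [Module R M],
      (∀ m : M, ∃ n : ℕ, ∀ a ∈ (Ideal.span (s : Set R)) ^ n, a • m = 0) →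
      IsArtinian R (torsionBySet R M ((Ideal.span (s : Set R) : Ideal R) : Set R)) →
      IsArtinian R M := by
  classical
  induction s using Finset.induction_on with
  | empty =>
    intro M _ _ _ hA
    have htop : torsionBySet R M ((Ideal.span ((∅ : Finset R) : Set R) : Ideal R) : Set R) = ⊤ := by
      rw [eq_top_iff]
      intro m _
      rw [mem_torsionBySet_iff]
      rintro ⟨a, ha⟩
      have : a = 0 := by simpa using ha
      simp [this]
    rw [htop] at hA
    exact isArtinian_of_linearEquiv (Submodule.topEquiv (R := R) (M := M))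
  | insert x s hxs ih =>
    intro M _ _ hM hA
    set a : Ideal R := Ideal.span ((insert x s : Finset R) : Set R) with ha
    have hxa : x ∈ a := Ideal.subset_span (by simp)
    have hsa : Ideal.span (s : Set R) ≤ a := Ideal.span_mono (by simp)
    -- `M` is `x`-power torsion
    have hx : ∀ m : M, ∃ n : ℕ, x ^ n • m = 0 := by
      intro m
      obtain ⟨n, hn⟩ := hM m
      exact ⟨n, hn _ (Ideal.pow_mem_pow hxa n)⟩
    apply isArtinian_of_torsionBy_principal x M hx
    -- the `x`-torsion is Artinian by induction
    apply ih (torsionBy R M x)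
    · intro m
      obtain ⟨n, hn⟩ := hM m.1
      refine ⟨n, fun r hr => ?_⟩
      apply Subtype.ext
      rw [Submodule.coe_smul, Submodule.coe_zero]
      exact hn r (Ideal.pow_right_mono hsa n hr)
    · let g : torsionBySet R (torsionBy R M x) ((Ideal.span (s : Set R) : Ideal R) : Set R) →ₗ[R]
          torsionBySet R M ((a : Ideal R) : Set R) :=
        { toFun := fun m => ⟨m.1.1, by
            rw [mem_torsionBySet_iff]
            rintro ⟨r, hr⟩
            have hr' : r ∈ Ideal.span ((insert x s : Finset R) : Set R) := hr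
            rw [Finset.coe_insert, Ideal.span_insert, Submodule.mem_sup] at hr'
            obtain ⟨y, hy, z, hz, rfl⟩ := hr'
            obtain ⟨c, rfl⟩ := Ideal.mem_span_singleton'.mp hy
            have h1 : x • m.1.1 = 0 := (mem_torsionBy_iff _ _).mp m.1.2
            have h2 : z • m.1 = 0 := (mem_torsionBySet_iff _ _).mp m.2 ⟨z, hz⟩
            have h2' : z • m.1.1 = 0 := by
              have := congrArg Subtype.val h2
              simpa using this
            change (c * x + z) • m.1.1 = 0
            rw [add_smul, mul_smul, h1, h2', smul_zero, add_zero]⟩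
          map_add' := fun m m' => rfl
          map_smul' := fun r m => rfl }
      apply isArtinian_of_injective g
      intro m m' h
      apply Subtype.ext
      apply Subtype.ext
      exact congrArg (fun t : torsionBySet R M ((a : Ideal R) : Set R) => t.1) h

end Groth.Agent.H17
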