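import Mathlib

/-!
# Projective dimension and flat base change
-/

set_option autoImplicit false

namespace Groth.Agent.H17.PdBC

open CategoryTheory TensorProduct

universe u

theorem shortExact_of_exact {A : Type u} [CommRing A] {M₁ M₂ M₃ : Type u} [AddCommGroup M₁]
    [Module A M₁] [AddCommGroup M₂] [Module A M₂] [AddCommGroup M₃] [Module A M₃]
    (f : M₁ →ₗ[A] M₂) (g : M₂ →ₗ[A] M₃) (hf : Function.Injective f) (hg : Function.Surjective g)
    (hfg : Function.Exact f g) :
    (ModuleCat.shortComplexOfCompEqZero f g (by
      ext x
      exact hfg.apply_apply_eq_zero x)).ShortExact :=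
  ModuleCat.shortComplex_shortExact _ hfg hf hg

/-- comparing two elements of `WithBot ℕ∞` through the natural numbers above them -/
theorem le_of_forall_nat_lt {a b : WithBot ℕ∞} (h : ∀ n : ℕ, b < (n : WithBot ℕ∞) → a < n) :
    a ≤ b := by
  induction b using WithBot.recBotCoe with
  | bot =>
    have := h 0 (WithBot.bot_lt_coe _)
    have h0 : a < (0 : WithBot ℕ∞) := by exact_mod_cast this
    rw [WithBot.lt_zero_iff_eq_bot] at h0
    rw [h0]
  | coe b =>
    induction b using ENat.recTopCoe with
    | top => exact le_top
    | coe m =>
      have h1 : ((m : ℕ∞) : WithBot ℕ∞) < ((m + 1 : ℕ) : WithBot ℕ∞) := by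
        exact_mod_cast Nat.lt_succ_self m
      have h2 := h (m + 1) h1
      have h3 : a < ((m : ℕ∞) : WithBot ℕ∞) + 1 := by exact_mod_cast h2
      exact (ENat.WithBot.lt_add_one_iff).mp h3

variable (A B : Type u) [CommRing A] [CommRing B] [Algebra A B]

/-- flat base change does not increase projective dimension -/
theorem hasProjectiveDimensionLT_baseChange [Module.Flat A B] :
    ∀ (n : ℕ) (M : Type u) [AddCommGroup M] [Module A M],
      HasProjectiveDimensionLT (ModuleCat.of A M) (n + 1) →
      HasProjectiveDimensionLT (ModuleCat.of B (B ⊗[A] M)) (n + 1) := by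
  intro n
  induction n with
  | zero =>
    intro M _ _ h
    rw [zero_add, ← projective_iff_hasProjectiveDimensionLT_one] at h ⊢
    have hproj : Module.Projective A M := (IsProjective.iff_projective _).mpr h
    exact (IsProjective.iff_projective _).mp inferInstance
  | succ n ih =>
    intro M _ _ h
    let g : (M →₀ A) →ₗ[A] M := Finsupp.linearCombination A id
    have hg : Function.Surjective g := Finsupp.linearCombination_id_surjective A M
    let K := LinearMap.ker g
    have hexact : Function.Exact K.subtype g := LinearMap.exact_subtype_ker_map g
    have hinj : Function.Injective K.subtype := Subtype.val_injective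
    have hS := shortExact_of_exact (A := A) (M₁ := K) K.subtype g hinj hg hexact
    have hproj : Projective (ModuleCat.of A (M →₀ A)) :=
      (IsProjective.iff_projective _).mp inferInstance
    have hinj' : Function.Injective (K.subtype.baseChange B) := by
      rw [LinearMap.baseChange_eq_ltensor]
      exact Module.Flat.lTensor_preserves_injective_linearMap _ hinj
    have hsurj' : Function.Surjective (g.baseChange B) := by
      rw [LinearMap.baseChange_eq_ltensor]
      exact LinearMap.lTensor_surjective B hg
    have hexact' : Function.Exact (K.subtype.baseChange B) (g.baseChange B) := by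
      have := lTensor_exact (M := K) B hexact hg
      intro y
      rw [LinearMap.baseChange_eq_ltensor, this y]
      rfl
    have hS' := shortExact_of_exact (A := B) (M₁ := B ⊗[A] K) (K.subtype.baseChange B)
      (g.baseChange B) hinj' hsurj' hexact'
    have hproj' : Projective (ModuleCat.of B (B ⊗[A] (M →₀ A))) :=
      (IsProjective.iff_projective _).mp inferInstance
    have hK : HasProjectiveDimensionLT (ModuleCat.of A K) (n + 1) :=
      (hS.hasProjectiveDimensionLT_X₃_iff n hproj).mp h
    have hK' := ih K hK
    exact (hS'.hasProjectiveDimensionLT_X₃_iff n hproj').mpr hK'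

theorem projectiveDimension_baseChange_le [Module.Flat A B] (M : Type u) [AddCommGroup M]
    [Module A M] :
    projectiveDimension (ModuleCat.of B (B ⊗[A] M)) ≤ projectiveDimension (ModuleCat.of A M) := by
  apply le_of_forall_nat_lt
  intro n hn
  rw [projectiveDimension_lt_iff] at hn ⊢
  cases n with
  | zero =>
    rw [hasProjectiveDimensionLT_zero_iff_isZero] at hn ⊢
    rw [ModuleCat.isZero_iff_subsingleton] at hn ⊢
    change Subsingleton M at hn
    change Subsingleton (B ⊗[A] M)
    infer_instance
  | succ n => exact hasProjectiveDimensionLT_baseChange A B n M hn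

/-- faithfully flat descent of projective dimension for finite modules -/
theorem hasProjectiveDimensionLT_of_baseChange [IsNoetherianRing A] [Module.FaithfullyFlat A B] :
    ∀ (n : ℕ) (M : Type u) [AddCommGroup M] [Module A M] [Module.Finite A M],
      HasProjectiveDimensionLT (ModuleCat.of B (B ⊗[A] M)) (n + 1) →
      HasProjectiveDimensionLT (ModuleCat.of A M) (n + 1) := by
  intro n
  induction n with
  | zero =>
    intro M _ _ _ h
    rw [zero_add, ← projective_iff_hasProjectiveDimensionLT_one] at h ⊢
    have hproj : Module.Projective B (B ⊗[A] M) := (IsProjective.iff_projective _).mpr h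
    have : Module.Flat B (B ⊗[A] M) := inferInstance
    have : Module.Flat A M := Module.Flat.of_flat_tensorProduct A M B
    have : Module.FinitePresentation A M := Module.finitePresentation_of_finite A M
    have : Module.Projective A M := Module.Flat.projective_of_finitePresentation
    exact (IsProjective.iff_projective _).mp this
  | succ n ih =>
    intro M _ _ _ h
    obtain ⟨m, g, hg⟩ := Module.Finite.exists_fin' A M
    let K := LinearMap.ker g
    have hexact : Function.Exact K.subtype g := LinearMap.exact_subtype_ker_map g
    have hinj : Function.Injective K.subtype := Subtype.val_injective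
    have hS := shortExact_of_exact (A := A) (M₁ := K) K.subtype g hinj hg hexact
    have hproj : Projective (ModuleCat.of A (Fin m → A)) :=
      (IsProjective.iff_projective _).mp inferInstance
    have hinj' : Function.Injective (K.subtype.baseChange B) := by
      rw [LinearMap.baseChange_eq_ltensor]
      exact Module.Flat.lTensor_preserves_injective_linearMap _ hinj
    have hsurj' : Function.Surjective (g.baseChange B) := by
      rw [LinearMap.baseChange_eq_ltensor]
      exact LinearMap.lTensor_surjective B hg
    have hexact' : Function.Exact (K.subtype.baseChange B) (g.baseChange B) := by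
      have := lTensor_exact (M := K) B hexact hg
      intro y
      rw [LinearMap.baseChange_eq_ltensor, this y]
      rfl
    have hS' := shortExact_of_exact (A := B) (M₁ := B ⊗[A] K) (K.subtype.baseChange B)
      (g.baseChange B) hinj' hsurj' hexact'
    have hproj' : Projective (ModuleCat.of B (B ⊗[A] (Fin m → A))) :=
      (IsProjective.iff_projective _).mp inferInstance
    have hK' : HasProjectiveDimensionLT (ModuleCat.of B (B ⊗[A] K)) (n + 1) :=
      (hS'.hasProjectiveDimensionLT_X₃_iff n hproj').mp h
    have hK := ih K hK'
    exact (hS.hasProjectiveDimensionLT_X₃_iff n hproj).mpr hK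

theorem projectiveDimension_baseChange_eq [IsNoetherianRing A] [Module.FaithfullyFlat A B]
    (M : Type u) [AddCommGroup M] [Module A M] [Module.Finite A M] :
    projectiveDimension (ModuleCat.of B (B ⊗[A] M)) = projectiveDimension (ModuleCat.of A M) := by
  refine le_antisymm (projectiveDimension_baseChange_le A B M) ?_
  apply le_of_forall_nat_lt
  intro n hn
  rw [projectiveDimension_lt_iff] at hn ⊢
  cases n with
  | zero =>
    rw [hasProjectiveDimensionLT_zero_iff_isZero] at hn ⊢
    rw [ModuleCat.isZero_iff_subsingleton] at hn ⊢
    change Subsingleton (B ⊗[A] M) at hn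
    change Subsingleton M
    exact (Module.FaithfullyFlat.lTensor_reflects_triviality A B M)
  | succ n => exact hasProjectiveDimensionLT_of_baseChange A B n M hn

end Groth.Agent.H17.PdBC
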