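import Groth.Agent.H17.GoodBasis

set_option autoImplicit false

namespace Groth.Agent.H17

open Topology Set Set.Notation

variable {X : Type*} [TopologicalSpace X] [T0Space X] [QuasiSober X] [PrespectralSpace X]
variable {B : Set X → Prop}

theorem GoodBasis.exists_mem (hB : GoodBasis X B) (x : X) : ∃ W, B W ∧ x ∈ W := by
  obtain ⟨W, hW, hxW, -⟩ := hB.basis x univ isOpen_univ trivial
  exact ⟨W, hW, hxW⟩

theorem isConstructible_restrict_of_lc (hB : GoodBasis X B) {E : Set X}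
    (hE : IsLocallyConstructible E) {W : Set X} (hW : B W) : IsConstructible (W ↓∩ E) := by
  have := hB.spectralSpace hW
  exact (hE.preimage_of_isOpenEmbedding (hB.isOpen _ hW).isOpenEmbedding_subtypeVal).isConstructible

theorem lc_iff_ind_and_pro (hB : GoodBasis X B) (E : Set X) :
    IsLocallyConstructible E ↔ ProCons.IsIndConstructible E ∧ ProCons.IsProConstructible E := by
  constructor
  · intro hE
    constructor
    · apply ind_of_consOpen_restrict hB
      intro x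
      obtain ⟨W, hW, hxW⟩ := hB.exists_mem x
      have := hB.spectralSpace hW
      exact ⟨W, hW, hxW, consOpen_of_isConstructible (isConstructible_restrict_of_lc hB hE hW)⟩
    · apply pro_of_consClosed_restrict hB
      intro x
      obtain ⟨W, hW, hxW⟩ := hB.exists_mem x
      have := hB.spectralSpace hW
      exact ⟨W, hW, hxW, consClosed_of_isConstructible (isConstructible_restrict_of_lc hB hE hW)⟩
  · rintro ⟨hind, hpro⟩ x
    obtain ⟨W, hW, hxW⟩ := hB.exists_mem x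
    have := hB.spectralSpace hW
    exact ⟨W, (hB.isOpen _ hW).mem_nhds hxW, hB.isOpen _ hW,
      isConstructible_of_consOpen_of_consClosed (consOpen_restrict_of_ind hB hind hW)
        (consClosed_restrict_of_pro hB hpro hW)⟩

theorem mem_interior_iff_of_ind (hB : GoodBasis X B) {E : Set X}
    (hE : ProCons.IsIndConstructible E) (x : X) :
    x ∈ interior E ↔ ∀ x' : X, x' ⤳ x → x' ∈ E := by
  constructor
  · intro hx x' hx'
    exact interior_subset (hx'.mem_open isOpen_interior hx)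
  · intro h
    obtain ⟨W, hW, hxW⟩ := hB.exists_mem x
    have := hB.spectralSpace hW
    obtain ⟨V, hVo, hyV, hVE⟩ := exists_isOpen_subset_of_forall_specializes
      (consOpen_restrict_of_ind hB hE hW) (⟨x, hxW⟩ : ↥W) (fun z hz =>
        h z.1 (hz.map continuous_subtype_val))
    rw [mem_interior]
    refine ⟨Subtype.val '' V, ?_, (hB.isOpen _ hW).isOpenMap_subtype_val V hVo, ⟨⟨x, hxW⟩, hyV, rfl⟩⟩
    rintro _ ⟨z, hz, rfl⟩
    exact hVE hz

theorem exists_finset_of_pro_inter_subset_ind (hB : GoodBasis X B) [CompactSpace X] {E : Set X}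
    (hE : ProCons.IsIndConstructible E) {ι : Type*} (F : ι → Set X)
    (hF : ∀ i, ProCons.IsProConstructible (F i)) (h : ⋂ i, F i ⊆ E) :
    ∃ J : Finset ι, ⋂ i ∈ J, F i ⊆ E := by
  classical
  have hloc : ∀ W, B W → ∃ J : Finset ι, (⋂ i ∈ J, F i) ∩ W ⊆ E := by
    intro W hW
    have := hB.spectralSpace hW
    have hc : @IsCompact ↥W (constructibleTopology ↥W) (W ↓∩ E)ᶜ :=
      @IsClosed.isCompact ↥W (constructibleTopology ↥W) _ compactSpace_cons
        (consOpen_iff_compl.mp (consOpen_restrict_of_ind hB hE hW))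
    obtain ⟨J, hJ⟩ := @IsCompact.elim_finite_subfamily_closed ↥W (constructibleTopology ↥W) _ ι hc
      (fun i => W ↓∩ F i) (fun i => consClosed_restrict_of_pro hB (hF i) hW) (by
        rw [eq_empty_iff_forall_notMem]
        rintro z ⟨hzE, hzF⟩
        apply hzE
        apply h
        simp only [mem_iInter, mem_preimage] at hzF ⊢
        exact hzF)
    refine ⟨J, ?_⟩
    rintro z ⟨hzF, hzW⟩
    by_contra hzE
    have : (⟨z, hzW⟩ : ↥W) ∈ (W ↓∩ E)ᶜ ∩ ⋂ i ∈ J, W ↓∩ F i := by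
      refine ⟨hzE, ?_⟩
      simp only [mem_iInter, mem_preimage] at hzF ⊢
      exact hzF
    rw [hJ] at this
    exact this
  choose Wf hWf hxWf using hB.exists_mem
  choose Jf hJf using hloc
  obtain ⟨t, ht⟩ := CompactSpace.elim_nhds_subcover Wf
    (fun x => (hB.isOpen _ (hWf x)).mem_nhds (hxWf x))
  refine ⟨t.biUnion (fun x => Jf (Wf x) (hWf x)), ?_⟩
  intro z hz
  have hzt : z ∈ ⋃ x ∈ t, Wf x := by rw [ht]; trivial
  simp only [mem_iUnion] at hzt
  obtain ⟨x, hxt, hzx⟩ := hzt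
  apply hJf (Wf x) (hWf x)
  refine ⟨?_, hzx⟩
  simp only [mem_iInter] at hz ⊢
  intro i hi
  exact hz i (Finset.mem_biUnion.mpr ⟨x, hxt, hi⟩)

section maps

variable {X' : Type*} [TopologicalSpace X'] [T0Space X'] [QuasiSober X'] [PrespectralSpace X']
variable {B' : Set X' → Prop} {f : X' → X}

theorem pro_image (hB' : GoodBasis X' B') (hB : GoodBasis X B)
    (hqc : ∀ W, B W → IsCompact (f ⁻¹' W)) (hf : Continuous f)
    (hspec : ∀ (W' : Set X') (W : Set X) (h : MapsTo f W' W), B' W' → B W →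
      IsSpectralMap (h.restrict f W' W))
    {E' : Set X'} (hE' : ProCons.IsProConstructible E') :
    ProCons.IsProConstructible (f '' E') := by
  classical
  apply pro_of_consClosed_restrict hB
  intro x
  obtain ⟨W, hW, hxW⟩ := hB.exists_mem x
  refine ⟨W, hW, hxW, ?_⟩
  have := hB.spectralSpace hW
  have hopen : IsOpen (f ⁻¹' W) := (hB.isOpen _ hW).preimage hf
  have hcov : ∀ x' : X', ∃ W', (x' ∈ f ⁻¹' W → B' W' ∧ x' ∈ W' ∧ W' ⊆ f ⁻¹' W) := by
    intro x'
    by_cases hx' : x' ∈ f ⁻¹' W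
    · obtain ⟨W', hW', hx'W', hsub⟩ := hB'.basis x' _ hopen hx'
      exact ⟨W', fun _ => ⟨hW', hx'W', hsub⟩⟩
    · exact ⟨∅, fun h => absurd h hx'⟩
  choose Wf hWf using hcov
  obtain ⟨t, hts, htc⟩ := (hqc W hW).elim_nhds_subcover Wf
    (fun x' hx' => (hB'.isOpen _ (hWf x' hx').1).mem_nhds (hWf x' hx').2.1)
  have hmaps : ∀ x' : ↥(t : Set X'), MapsTo f (Wf x'.1) W := fun x' =>
    (hWf x'.1 (hts x'.1 x'.2)).2.2
  have heq : W ↓∩ (f '' E') =
      ⋃ x' : ↥(t : Set X'), (hmaps x').restrict f (Wf x'.1) W '' (Wf x'.1 ↓∩ E') := by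
    ext ⟨y, hyW⟩
    simp only [mem_preimage, mem_image, mem_iUnion]
    constructor
    · rintro ⟨e, heE, rfl⟩
      have : e ∈ ⋃ x ∈ t, Wf x := htc hyW
      simp only [mem_iUnion] at this
      obtain ⟨x', hx't, hex'⟩ := this
      exact ⟨⟨x', hx't⟩, ⟨e, hex'⟩, heE, rfl⟩
    · rintro ⟨x', ⟨e, heW⟩, heE, he⟩
      refine ⟨e, heE, ?_⟩
      have := congrArg Subtype.val he
      exact this
  rw [heq]
  apply ConsClosed.iUnion_finite
  intro x'
  have hW' := (hWf x'.1 (hts x'.1 x'.2)).1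
  have := hB'.spectralSpace hW'
  exact ConsClosed.image (hspec _ _ (hmaps x') hW' hW) (consClosed_restrict_of_pro hB' hE' hW')

theorem ind_image (hB' : GoodBasis X' B') (hB : GoodBasis X B) (hf : Continuous f)
    (hchev : ∀ (W' : Set X') (W : Set X) (h : MapsTo f W' W), B' W' → B W →
      ∀ T : Set ↥W', IsConstructible T → IsConstructible (h.restrict f W' W '' T))
    {E' : Set X'} (hE' : ProCons.IsIndConstructible E') :
    ProCons.IsIndConstructible (f '' E') := by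
  apply ind_of_consOpen_restrict hB
  intro x
  obtain ⟨W, hW, hxW⟩ := hB.exists_mem x
  refine ⟨W, hW, hxW, ?_⟩
  have := hB.spectralSpace hW
  apply consOpen_of_forall_exists
  rintro ⟨y, hyW⟩ ⟨e, heE, rfl⟩
  obtain ⟨W', hW', heW', hsub⟩ := hB'.basis e _ ((hB.isOpen _ hW).preimage hf) hyW
  have := hB'.spectralSpace hW'
  obtain ⟨T, hT, heT, hTE⟩ := exists_isConstructible_of_consOpen
    (consOpen_restrict_of_ind hB' hE' hW') (z := (⟨e, heW'⟩ : ↥W')) heE
  have hmaps : MapsTo f W' W := hsub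
  refine ⟨hmaps.restrict f W' W '' T, consOpen_of_isConstructible (hchev W' W hmaps hW' hW T hT),
    ⟨⟨e, heW'⟩, heT, rfl⟩, ?_⟩
  rintro _ ⟨z, hzT, rfl⟩
  exact ⟨z.1, hTE hzT, rfl⟩

theorem exists_specializes_lift (hB' : GoodBasis X' B') (hB : GoodBasis X B) (hf : Continuous f)
    (hspec : ∀ (W' : Set X') (W : Set X) (h : MapsTo f W' W), B' W' → B W →
      IsSpectralMap (h.restrict f W' W))
    (x : X') (hopen : ∀ U ∈ 𝓝 x, f '' U ∈ 𝓝 (f x)) (y' : X) (hy' : y' ⤳ f x) :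
    ∃ x' : X', x' ⤳ x ∧ f x' = y' := by
  obtain ⟨W, hW, hxW⟩ := hB.exists_mem (f x)
  obtain ⟨W', hW', hxW', hsub⟩ := hB'.basis x _ ((hB.isOpen _ hW).preimage hf) hxW
  have hmaps : MapsTo f W' W := hsub
  have := hB.spectralSpace hW
  have := hB'.spectralSpace hW'
  have hy'W : y' ∈ W := hy'.mem_open (hB.isOpen _ hW) hxW
  have hZ : ConsClosed (hmaps.restrict f W' W ⁻¹' {(⟨y', hy'W⟩ : ↥W)}) :=
    ConsClosed.preimage (hspec W' W hmaps hW' hW) (consClosed_singleton _)
  obtain ⟨x'', hx''Z, hx''⟩ := exists_specializes_of_forall_nhd hZ (⟨x, hxW'⟩ : ↥W') (by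
    intro V hVo _ hxV
    have h1 : Subtype.val '' V ∈ 𝓝 x :=
      ((hB'.isOpen _ hW').isOpenMap_subtype_val V hVo).mem_nhds ⟨⟨x, hxW'⟩, hxV, rfl⟩
    have h2 : y' ∈ f '' (Subtype.val '' V) := mem_of_mem_nhds (hy' (hopen _ h1))
    obtain ⟨_, ⟨v, hvV, rfl⟩, hv⟩ := h2
    exact ⟨v, hvV, Subtype.ext hv⟩)
  refine ⟨x''.1, hx''.map continuous_subtype_val, ?_⟩
  have := congrArg Subtype.val hx''Z
  exact this

theorem isOpenAt_of_specializes_lift (hB' : GoodBasis X' B') (hB : GoodBasis X B)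
    (hf : Continuous f)
    (hchev : ∀ (W' : Set X') (W : Set X) (h : MapsTo f W' W), B' W' → B W →
      ∀ T : Set ↥W', IsConstructible T → IsConstructible (h.restrict f W' W '' T))
    (x : X') (hlift : ∀ y' : X, y' ⤳ f x → ∃ x' : X', x' ⤳ x ∧ f x' = y') :
    ∀ U ∈ 𝓝 x, f '' U ∈ 𝓝 (f x) := by
  intro N hN
  obtain ⟨W, hW, hxW⟩ := hB.exists_mem (f x)
  obtain ⟨W', hW', hxW', hsub⟩ := hB'.basis x (interior N ∩ f ⁻¹' W)
    (isOpen_interior.inter ((hB.isOpen _ hW).preimage hf)) ⟨mem_interior_iff_mem_nhds.mpr hN, hxW⟩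
  have hmaps : MapsTo f W' W := fun z hz => (hsub hz).2
  have := hB.spectralSpace hW
  have := hB'.spectralSpace hW'
  have hT : ConsOpen (hmaps.restrict f W' W '' univ) :=
    consOpen_of_isConstructible (hchev W' W hmaps hW' hW univ IsConstructible.univ)
  obtain ⟨V, hVo, hyV, hVT⟩ := exists_isOpen_subset_of_forall_specializes hT (⟨f x, hxW⟩ : ↥W) (by
    intro z hz
    obtain ⟨x', hx', hfx'⟩ := hlift z.1 (hz.map continuous_subtype_val)
    have hx'W' : x' ∈ W' := hx'.mem_open (hB'.isOpen _ hW') hxW'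
    exact ⟨⟨x', hx'W'⟩, trivial, Subtype.ext hfx'⟩)
  apply Filter.mem_of_superset
    (((hB.isOpen _ hW).isOpenMap_subtype_val V hVo).mem_nhds ⟨⟨f x, hxW⟩, hyV, rfl⟩)
  rintro _ ⟨z, hzV, rfl⟩
  obtain ⟨w, -, hw⟩ := hVT hzV
  exact ⟨w.1, interior_subset (hsub w.2).1, congrArg Subtype.val hw⟩

end maps

end Groth.Agent.H17
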