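import Groth.Agent.H17.ProConsPreimage

set_option autoImplicit false

namespace Groth.Agent.H17

open Topology Set Set.Notation AlgebraicGeometry CategoryTheory

universe u

section top

variable {W : Type*} [TopologicalSpace W] [PrespectralSpace W]

theorem consOpen_of_isOpen {U : Set W} (hU : IsOpen U) : ConsOpen U := by
  apply consOpen_of_forall_exists
  intro z hz
  obtain ⟨V, ⟨hVo, hVc⟩, hzV, hVU⟩ :=
    (PrespectralSpace.isTopologicalBasis (X := W)).exists_subset_of_mem_open hz hU
  exact ⟨V, consOpen_of_isOpen_isCompact hVo hVc, hzV, hVU⟩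

theorem consClosed_of_isClosed {Z : Set W} (hZ : IsClosed Z) : ConsClosed Z :=
  consClosed_iff_compl.mpr (consOpen_of_isOpen hZ.isOpen_compl)

end top

variable {X : Scheme.{u}}

theorem isProConstructible_of_isClosed {F : Set X} (hF : IsClosed F) :
    ProCons.IsProConstructible F := by
  apply pro_of_consClosed_restrict (goodBasis_scheme X)
  intro x
  obtain ⟨W, hW, hxW⟩ := (goodBasis_scheme X).exists_mem x
  have hsp := (goodBasis_scheme X).spectralSpace hW
  exact ⟨W, hW, hxW, consClosed_of_isClosed (hF.preimage continuous_subtype_val)⟩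

theorem isIndConstructible_of_isOpen {U : Set X} (hU : IsOpen U) :
    ProCons.IsIndConstructible U := by
  apply ind_of_consOpen_restrict (goodBasis_scheme X)
  intro x
  obtain ⟨W, hW, hxW⟩ := (goodBasis_scheme X).exists_mem x
  have hsp := (goodBasis_scheme X).spectralSpace hW
  exact ⟨W, hW, hxW, consOpen_of_isOpen (hU.preimage continuous_subtype_val)⟩

end Groth.Agent.H17
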