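import Groth.Agent.H17.ProConsScheme
import Mathlib.AlgebraicGeometry.Morphisms.UniversallyOpen

set_option autoImplicit false

namespace Groth.Agent.H17

open Topology Set Set.Notation AlgebraicGeometry CategoryTheory

universe u

section top

variable {X : Type*} [TopologicalSpace X]

/-- every point of a quasi-sober T0 space has a maximal generization -/
theorem exists_maximal_generization [QuasiSober X] [T0Space X] (x : X) :
    ∃ η : X, η ⤳ x ∧ ∀ y : X, y ⤳ η → y = η := by
  obtain ⟨η, hη⟩ := QuasiSober.sober (isIrreducible_irreducibleComponent (x := x))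
    isClosed_irreducibleComponent
  refine ⟨η, ?_, ?_⟩
  · rw [specializes_iff_mem_closure, hη.def]
    exact mem_irreducibleComponent
  · intro y hy
    have hsub : irreducibleComponent x ⊆ closure {y} := by
      rw [← hη.def]
      exact hy.closure_subset
    have heq : closure {y} = irreducibleComponent x :=
      eq_irreducibleComponent (isIrreducible_singleton.closure).isPreirreducible hsub
    have : Inseparable y η := by
      rw [inseparable_iff_closure_eq, heq, hη.def]
    exact this.eq

end top

variable {X : Scheme.{u}}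

/-- a dense pro-constructible subset contains every maximal point -/
theorem mem_of_dense_pro_of_maximal {Z : Set X} (hZ : ProCons.IsProConstructible Z)
    (hd : Dense Z) (η : X) (hη : ∀ y : X, y ⤳ η → y = η) : η ∈ Z := by
  obtain ⟨W, hW, hηW⟩ := (goodBasis_scheme X).exists_mem η
  have hsp := (goodBasis_scheme X).spectralSpace hW
  have hWo : IsOpen W := (goodBasis_scheme X).isOpen W hW
  have hcons := consClosed_restrict_of_pro (goodBasis_scheme X) hZ hW
  obtain ⟨z, hzZ, hz⟩ := exists_specializes_of_forall_nhd hcons (⟨η, hηW⟩ : ↥W) (by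
    intro V hVo _ hηV
    have hVo' : IsOpen (Subtype.val '' V) := hWo.isOpenMap_subtype_val V hVo
    obtain ⟨y, ⟨v, hvV, rfl⟩, hyZ⟩ := dense_iff_inter_open.mp hd _ hVo' ⟨η, ⟨⟨η, hηW⟩, hηV, rfl⟩⟩
    exact ⟨v, hvV, hyZ⟩)
  have : z.1 = η := hη z.1 (hz.map continuous_subtype_val)
  rw [← this]
  exact hzZ

theorem dense_preimage_of_flat {X' : Scheme.{u}} (f : X' ⟶ X) [Flat f] {Z : Set X}
    (hZ : ProCons.IsProConstructible Z) (hd : Dense Z) : Dense (f.base ⁻¹' Z) := by
  rw [dense_iff_inter_open]
  rintro V hV ⟨x', hx'⟩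
  obtain ⟨η, hηx, hηmax⟩ := exists_maximal_generization (f.base x')
  obtain ⟨η', hη'x', hη'⟩ := Flat.generalizingMap f hηx
  refine ⟨η', hη'x'.mem_open hV hx', ?_⟩
  change f.base η' ∈ Z
  have : f.base η' = η := hη'
  rw [this]
  exact mem_of_dense_pro_of_maximal hZ hd η hηmax

end Groth.Agent.H17
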