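import Groth.Agent.H17.ProConsDense
import Mathlib.AlgebraicGeometry.Noetherian

set_option autoImplicit false

namespace Groth.Agent.H17

open Topology Set Set.Notation AlgebraicGeometry CategoryTheory TopologicalSpace

universe u

variable {X : Scheme.{u}}

/-- in a locally Noetherian scheme every open subset is pro-constructible -/
theorem isProConstructible_of_isOpen_of_isLocallyNoetherian [IsLocallyNoetherian X] {U : Set X}
    (hU : IsOpen U) : ProCons.IsProConstructible U := by
  apply pro_of_consClosed_restrict (goodBasis_scheme X)
  intro x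
  obtain ⟨W, hW, hxW⟩ := (goodBasis_scheme X).exists_mem x
  refine ⟨W, hW, hxW, ?_⟩
  obtain ⟨V, hV, rfl⟩ := hW
  have : IsNoetherianRing Γ(X, V) := IsLocallyNoetherian.component_noetherian ⟨V, hV⟩
  have hN : NoetherianSpace V := noetherianSpace_of_isAffineOpen V hV
  have hN' : NoetherianSpace ↥(V : Set X) := hN
  exact consClosed_of_isOpen_isCompact (hU.preimage continuous_subtype_val)
    (NoetherianSpace.isCompact _)

theorem dense_preimage_of_flat_of_isOpen {X' : Scheme.{u}} [IsLocallyNoetherian X] (f : X' ⟶ X)
    [Flat f] {U : Set X} (hU : IsOpen U) (hd : Dense U) : Dense (f.base ⁻¹' U) :=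
  dense_preimage_of_flat f (isProConstructible_of_isOpen_of_isLocallyNoetherian hU) hd

end Groth.Agent.H17
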