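import Groth.Agent.H17.ProConsScheme

set_option autoImplicit false

namespace Groth.Agent.H17

open Topology Set Set.Notation AlgebraicGeometry CategoryTheory

universe u

variable {X' X : Scheme.{u}}

/-- the preimage of a pro-constructible subset under a morphism of schemes is pro-constructible -/
theorem pro_preimage (f : X' ⟶ X) {E : Set X} (hE : ProCons.IsProConstructible E) :
    ProCons.IsProConstructible (f.base ⁻¹' E) := by
  apply pro_of_consClosed_restrict (goodBasis_scheme X')
  intro x'
  obtain ⟨W, hW, hxW⟩ := (goodBasis_scheme X).exists_mem (f.base x')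
  have hWo : IsOpen W := (goodBasis_scheme X).isOpen W hW
  obtain ⟨W', hW', hxW', hW'sub⟩ := (goodBasis_scheme X').basis x' (f.base ⁻¹' W)
    (hWo.preimage f.continuous) hxW
  refine ⟨W', hW', hxW', ?_⟩
  have hmaps : MapsTo f.base W' W := fun z hz => hW'sub hz
  have hcons := consClosed_restrict_of_pro (goodBasis_scheme X) hE hW
  have := ConsClosed.preimage (isSpectralMap_restrict f W' W hmaps hW' hW) hcons
  exact this

/-- the preimage of an ind-constructible subset under a morphism of schemes is ind-constructible -/
theorem ind_preimage (f : X' ⟶ X) {E : Set X} (hE : ProCons.IsIndConstructible E) :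
    ProCons.IsIndConstructible (f.base ⁻¹' E) := by
  apply ind_of_consOpen_restrict (goodBasis_scheme X')
  intro x'
  obtain ⟨W, hW, hxW⟩ := (goodBasis_scheme X).exists_mem (f.base x')
  have hWo : IsOpen W := (goodBasis_scheme X).isOpen W hW
  obtain ⟨W', hW', hxW', hW'sub⟩ := (goodBasis_scheme X').basis x' (f.base ⁻¹' W)
    (hWo.preimage f.continuous) hxW
  refine ⟨W', hW', hxW', ?_⟩
  have hmaps : MapsTo f.base W' W := fun z hz => hW'sub hz
  have hcons := consOpen_restrict_of_ind (goodBasis_scheme X) hE hW
  have := ConsOpen.preimage (isSpectralMap_restrict f W' W hmaps hW' hW) hcons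
  exact this

/-- the closure of a pro-constructible subset is the set of specializations of its points -/
theorem exists_specializes_of_mem_closure_pro {E : Set X} (hE : ProCons.IsProConstructible E)
    {x : X} (hx : x ∈ closure E) : ∃ z ∈ E, z ⤳ x := by
  obtain ⟨W, hW, hxW⟩ := (goodBasis_scheme X).exists_mem x
  have hsp := (goodBasis_scheme X).spectralSpace hW
  have hWo : IsOpen W := (goodBasis_scheme X).isOpen W hW
  have hcons := consClosed_restrict_of_pro (goodBasis_scheme X) hE hW
  obtain ⟨z, hzE, hz⟩ := exists_specializes_of_forall_nhd hcons (⟨x, hxW⟩ : ↥W) (by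
    intro V hVo _ hxV
    have hVo' : IsOpen (Subtype.val '' V) := hWo.isOpenMap_subtype_val V hVo
    obtain ⟨y, ⟨v, hvV, rfl⟩, hyE⟩ := mem_closure_iff.mp hx _ hVo' ⟨⟨x, hxW⟩, hxV, rfl⟩
    exact ⟨v, hvV, hyE⟩)
  exact ⟨z.1, hzE, hz.map continuous_subtype_val⟩

/-- for a generalizing morphism, preimage commutes with closure of pro-constructible sets -/
theorem preimage_closure_eq_of_generalizing (f : X' ⟶ X) (hf : GeneralizingMap f.base)
    {E : Set X} (hE : ProCons.IsProConstructible E) :
    f.base ⁻¹' closure E = closure (f.base ⁻¹' E) := by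
  apply Subset.antisymm
  · intro x hx
    obtain ⟨z, hzE, hz⟩ := exists_specializes_of_mem_closure_pro hE hx
    obtain ⟨x', hx'x, hx'⟩ := hf hz
    have hx'E : x' ∈ f.base ⁻¹' E := by
      change f.base x' ∈ E
      have : f.base x' = z := hx'
      rw [this]; exact hzE
    exact hx'x.mem_closed isClosed_closure (subset_closure hx'E)
  · exact f.continuous.closure_preimage_subset E

end Groth.Agent.H17
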