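import Groth.Agent.H17.ProConsAffine

set_option autoImplicit false

namespace Groth.Agent.H17

open Topology Set Set.Notation AlgebraicGeometry CategoryTheory

universe u

section abstract

variable {X : Type*} [TopologicalSpace X] [T0Space X] [QuasiSober X] [PrespectralSpace X]
variable {B : Set X → Prop}

omit [T0Space X] [QuasiSober X] [PrespectralSpace X] in
/-- enlarge a good basis to all quasi-compact quasi-separated opens -/
theorem GoodBasis.all (hB : GoodBasis X B) :
    GoodBasis X (fun W => IsOpen W ∧ IsCompact W ∧ IsQuasiSeparated W) where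
  isOpen := fun _ h => h.1
  isCompact := fun _ h => h.2.1
  isQuasiSeparated := fun _ h => h.2.2
  basis := by
    intro x U hU hxU
    obtain ⟨W, hW, hxW, hWU⟩ := hB.basis x U hU hxU
    exact ⟨W, ⟨hB.isOpen W hW, hB.isCompact W hW, hB.isQuasiSeparated W hW⟩, hxW, hWU⟩

theorem GoodBasis.pro_iff_consClosed (hB : GoodBasis X B) [CompactSpace X] [QuasiSeparatedSpace X]
    (E : Set X) : ProCons.IsProConstructible E ↔ ConsClosed E := by
  have hu : (fun W : Set X => IsOpen W ∧ IsCompact W ∧ IsQuasiSeparated W) univ :=
    ⟨isOpen_univ, isCompact_univ, isQuasiSeparated_univ⟩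
  have hsp := hB.all.spectralSpace hu
  constructor
  · intro hE
    have h1 := consClosed_restrict_of_pro hB.all hE hu
    have h2 := ConsClosed.preimage (Homeomorph.Set.univ X).symm.isSpectralMap h1
    exact h2
  · intro hE
    apply pro_of_consClosed_restrict hB.all
    intro x
    refine ⟨univ, hu, mem_univ x, ?_⟩
    exact ConsClosed.preimage (Homeomorph.Set.univ X).isSpectralMap hE

end abstract

theorem isProConstructible_iff_consClosed (X : Scheme.{u}) [CompactSpace X] [QuasiSeparatedSpace X]
    (E : Set X) : ProCons.IsProConstructible E ↔ ConsClosed E :=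
  (goodBasis_scheme X).pro_iff_consClosed E

theorem isProConstructible_iff_exists_sInter (X : Scheme.{u}) [CompactSpace X]
    [QuasiSeparatedSpace X] (E : Set X) : ProCons.IsProConstructible E ↔
      ∃ S : Set (Set X), (∀ s ∈ S, IsConstructible s) ∧ E = ⋂₀ S := by
  rw [isProConstructible_iff_consClosed, consClosed_iff_exists_sInter]

end Groth.Agent.H17
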