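import Mathlib

set_option autoImplicit false

namespace Groth.Agent.H17

open AlgebraicGeometry CategoryTheory Limits Topology

universe u

/-- over a field, within a fibre of the first projection of a product, the preimage of a closure is
contained in the closure of the preimage -/
theorem preimage_singleton_inter_preimage_closure_subset {P X Y S : Scheme.{u}} [IsIntegral S]
    [Subsingleton S] {p : P ⟶ X} {q : P ⟶ Y} {u : X ⟶ S} {v : Y ⟶ S} (h : IsPullback p q u v)
    (a : X) (B : Set Y) :
    p.base ⁻¹' {a} ∩ q.base ⁻¹' closure B ⊆ closure (p.base ⁻¹' {a} ∩ q.base ⁻¹' B) := by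
  let ιa := X.fromSpecResidueField a
  let t₁ := pullback.fst ιa p
  let t₂ := pullback.snd ιa p
  have hbig : IsPullback (t₂ ≫ q) t₁ v (ιa ≫ u) :=
    (IsPullback.of_hasPullback ιa p).flip.paste_horiz h.flip
  have hopen : UniversallyOpen (t₂ ≫ q) :=
    MorphismProperty.of_isPullback (P := @UniversallyOpen) hbig.flip inferInstance
  have hr : IsOpenMap (t₂ ≫ q).base := (t₂ ≫ q).isOpenMap
  have hrange : Set.range t₂.base = p.base ⁻¹' {a} := by
    have := Scheme.Pullback.range_snd ιa p
    rw [Scheme.range_fromSpecResidueField] at this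
    exact this
  rintro z ⟨hza, hzB⟩
  have hz : z ∈ Set.range t₂.base := by rw [hrange]; exact hza
  obtain ⟨w, rfl⟩ := hz
  have hw : w ∈ (t₂ ≫ q).base ⁻¹' closure B := hzB
  have hw' : w ∈ closure ((t₂ ≫ q).base ⁻¹' B) :=
    hr.preimage_closure_subset_closure_preimage hw
  have h1 : t₂.base w ∈ closure (t₂.base '' ((t₂ ≫ q).base ⁻¹' B)) :=
    image_closure_subset_closure_image t₂.continuous (Set.mem_image_of_mem _ hw')
  refine closure_mono ?_ h1
  rintro _ ⟨w', hw'B, rfl⟩
  refine ⟨?_, hw'B⟩
  change t₂.base w' ∈ p.base ⁻¹' {a}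
  rw [← hrange]
  exact Set.mem_range_self w'

/-- closure of a "rectangle" in a product over a field -/
theorem closure_preimage_inter_preimage {P X Y S : Scheme.{u}} [IsIntegral S]
    [Subsingleton S] {p : P ⟶ X} {q : P ⟶ Y} {u : X ⟶ S} {v : Y ⟶ S} (h : IsPullback p q u v)
    (A : Set X) (B : Set Y) :
    closure (p.base ⁻¹' A ∩ q.base ⁻¹' B) = p.base ⁻¹' closure A ∩ q.base ⁻¹' closure B := by
  apply subset_antisymm
  · apply closure_minimal
    · exact Set.inter_subset_inter (Set.preimage_mono subset_closure)
        (Set.preimage_mono subset_closure)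
    · exact (isClosed_closure.preimage p.continuous).inter (isClosed_closure.preimage q.continuous)
  · rintro z ⟨hzA, hzB⟩
    have h1 := preimage_singleton_inter_preimage_closure_subset h.flip (q.base z) A
      ⟨rfl, hzA⟩
    refine closure_minimal ?_ isClosed_closure h1
    rintro z' ⟨hz'q, hz'A⟩
    have h2 := preimage_singleton_inter_preimage_closure_subset h (p.base z') B
      ⟨rfl, by
        change q.base z' ∈ closure B
        rw [show q.base z' = q.base z from hz'q]
        exact hzB⟩
    refine closure_mono ?_ h2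
    rintro z'' ⟨hz''p, hz''B⟩
    refine ⟨?_, hz''B⟩
    change p.base z'' ∈ A
    rw [show p.base z'' = p.base z' from hz''p]
    exact hz'A

end Groth.Agent.H17
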