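import Mathlib
import Groth.Agent.H17.ConsTop

set_option autoImplicit false

namespace Groth.Agent.H17

open Topology Set

variable {X : Type*} [TopologicalSpace X] [SpectralSpace X]

/-- the set of generizations of a closed set in a spectral space is closed for the constructible
topology -/
theorem consClosed_generizations {Z : Set X} (hZ : IsClosed Z) :
    ConsClosed {x : X | (Z ∩ closure {x}).Nonempty} := by
  have heq : {x : X | (Z ∩ closure {x}).Nonempty} =
      ⋂₀ {U : Set X | IsOpen U ∧ IsCompact U ∧ Z ⊆ U} := by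
    ext x
    constructor
    · rintro ⟨z, hzZ, hzx⟩ U ⟨hUo, -, hZU⟩
      have hzU : z ∈ U := hZU hzZ
      obtain ⟨y, hyU, hy⟩ := mem_closure_iff.mp hzx U hUo hzU
      rw [mem_singleton_iff] at hy
      rwa [← hy]
    · intro hx
      by_contra hcon
      have hsub : Z ⊆ (closure {x})ᶜ := by
        intro z hz hzx
        exact hcon ⟨z, hz, hzx⟩
      obtain ⟨W, hWc, hWo, hZW, hWU⟩ := PrespectralSpace.exists_isCompact_and_isOpen_between
        hZ.isCompact isClosed_closure.isOpen_compl hsub
      have hxW : x ∈ W := hx W ⟨hWo, hWc, hZW⟩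
      exact hWU hxW (subset_closure (mem_singleton x))
  rw [heq]
  apply ConsClosed.sInter
  rintro U ⟨hUo, hUc, -⟩
  exact consClosed_of_isOpen_isCompact hUo hUc

/-- a generization-stable set which is open for the constructible topology is open -/
theorem isOpen_of_consOpen_of_stableUnderGeneralization {E : Set X} (hE : ConsOpen E)
    (hgen : ∀ x ∈ E, ∀ x' : X, x' ⤳ x → x' ∈ E) : IsOpen E := by
  rw [isOpen_iff_forall_mem_open]
  intro y hy
  obtain ⟨V, hVo, hyV, hVE⟩ := exists_isOpen_subset_of_forall_specializes hE y (hgen y hy)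
  exact ⟨V, hVE, hVo, hyV⟩

end Groth.Agent.H17
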