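import Groth.Agent.H17.MaxPoints
import Mathlib.AlgebraicGeometry.Stalk

set_option autoImplicit false

namespace Groth.Agent.H17

open Topology Set AlgebraicGeometry CategoryTheory

universe u

section top

variable {X : Type*} [TopologicalSpace X]

/-- a maximal point of a quasi-sober space generates an irreducible component -/
theorem mem_irreducibleComponents_of_maximal [QuasiSober X] {z : X}
    (hz : ∀ y : X, y ⤳ z → y = z) : closure {z} ∈ irreducibleComponents X := by
  obtain ⟨η, hη, hηc⟩ := exists_generic_irreducibleComponent z
  rw [← hz η hη]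
  exact hηc

end top

variable (X : Scheme.{u}) (x : X)

theorem bijOn_irreducibleComponents_specStalk :
    Set.BijOn (fun z : Spec (X.presheaf.stalk x) => closure ({(X.fromSpecStalk x).base z} : Set X))
      {z | closure ({z} : Set (Spec (X.presheaf.stalk x))) ∈
        irreducibleComponents (Spec (X.presheaf.stalk x))}
      {Z | Z ∈ irreducibleComponents X ∧ x ∈ Z} := by
  set φ := X.fromSpecStalk x with hφ
  have hemb : IsEmbedding φ.base := φ.isEmbedding
  have hrange : Set.range φ.base = {y | y ⤳ x} := Scheme.range_fromSpecStalk
  have hspec : ∀ z : Spec (X.presheaf.stalk x), φ.base z ⤳ x := by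
    intro z
    have : φ.base z ∈ Set.range φ.base := mem_range_self z
    rw [hrange] at this
    exact this
  refine ⟨?_, ?_, ?_⟩
  · -- maps to
    intro z hz
    have hzmax : ∀ y, y ⤳ z → y = z := fun y hy =>
      eq_of_specializes_of_mem_irreducibleComponents hz hy
    refine ⟨?_, ?_⟩
    · apply mem_irreducibleComponents_of_maximal
      intro η hη
      have hηx : η ⤳ x := hη.trans (hspec z)
      have : η ∈ Set.range φ.base := by rw [hrange]; exact hηx
      obtain ⟨z', rfl⟩ := this
      have hz'z : z' ⤳ z := hemb.isInducing.specializes_iff.mp hη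
      rw [hzmax z' hz'z]
    · exact specializes_iff_mem_closure.mp (hspec z)
  · -- injective
    intro z₁ _ z₂ _ h
    have hins : Inseparable (φ.base z₁) (φ.base z₂) := inseparable_iff_closure_eq.mpr h
    exact hemb.injective hins.eq
  · -- surjective
    rintro Z ⟨hZ, hxZ⟩
    obtain ⟨η, hη⟩ := QuasiSober.sober hZ.1 (isClosed_of_mem_irreducibleComponents Z hZ)
    have hηx : η ⤳ x := by
      rw [specializes_iff_mem_closure, hη.def]; exact hxZ
    have : η ∈ Set.range φ.base := by rw [hrange]; exact hηx
    obtain ⟨z, rfl⟩ := this
    refine ⟨z, ?_, hη.def⟩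
    apply mem_irreducibleComponents_of_maximal
    intro z' hz'
    have h1 : φ.base z' ⤳ φ.base z := hz'.map φ.continuous
    have hc : closure {φ.base z} ∈ irreducibleComponents X := by rw [hη.def]; exact hZ
    have := eq_of_specializes_of_mem_irreducibleComponents hc h1
    exact hemb.injective this

end Groth.Agent.H17
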