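import Groth.Agent.H17.StalkComponents

set_option autoImplicit false

namespace Groth.Agent.H17

open Topology Set AlgebraicGeometry CategoryTheory

universe u

/-- the set of maximal points of `Spec R` is a subsingleton iff the nilradical is prime -/
theorem subsingleton_maximal_points_iff (R : Type u) [CommRing R] [Nontrivial R] :
    {z : PrimeSpectrum R | closure ({z} : Set (PrimeSpectrum R)) ∈
        irreducibleComponents (PrimeSpectrum R)}.Subsingleton ↔ (nilradical R).IsPrime := by
  constructor
  · intro hsub
    obtain ⟨y₀⟩ : Nonempty (PrimeSpectrum R) := inferInstance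
    obtain ⟨η₀, -, hη₀c⟩ := exists_generic_irreducibleComponent y₀
    have hle : ∀ y : PrimeSpectrum R, η₀.asIdeal ≤ y.asIdeal := by
      intro y
      obtain ⟨η, hη, hηc⟩ := exists_generic_irreducibleComponent y
      have : η = η₀ := hsub hηc hη₀c
      subst this
      exact (PrimeSpectrum.le_iff_specializes _ _).mpr hη
    have : nilradical R = η₀.asIdeal := by
      apply le_antisymm
      · exact nilradical_le_prime η₀.asIdeal
      · rw [nilradical_eq_sInf]
        apply le_sInf
        intro J hJ
        exact hle ⟨J, hJ⟩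
    rw [this]
    exact η₀.2
  · intro h z hz z' hz'
    let N : PrimeSpectrum R := ⟨nilradical R, h⟩
    have h1 : N ⤳ z := (PrimeSpectrum.le_iff_specializes _ _).mp (nilradical_le_prime z.asIdeal)
    have h2 : N ⤳ z' := (PrimeSpectrum.le_iff_specializes _ _).mp (nilradical_le_prime z'.asIdeal)
    rw [← eq_of_specializes_of_mem_irreducibleComponents hz h1,
      ← eq_of_specializes_of_mem_irreducibleComponents hz' h2]

theorem pairwiseDisjoint_irreducibleComponents_iff (X : Scheme.{u}) :
    (irreducibleComponents (X : Type u)).PairwiseDisjoint id ↔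
      ∀ x : X, (nilradical (X.presheaf.stalk x)).IsPrime := by
  have key : ∀ x : X, (∀ Z ∈ irreducibleComponents X, ∀ Z' ∈ irreducibleComponents X,
      x ∈ Z → x ∈ Z' → Z = Z') ↔ (nilradical (X.presheaf.stalk x)).IsPrime := by
    intro x
    rw [← subsingleton_maximal_points_iff]
    have hbij := bijOn_irreducibleComponents_specStalk X x
    constructor
    · intro h z hz z' hz'
      apply hbij.injOn hz hz'
      have h1 := hbij.mapsTo hz
      have h2 := hbij.mapsTo hz'
      exact h _ h1.1 _ h2.1 h1.2 h2.2
    · intro h Z hZ Z' hZ' hxZ hxZ'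
      obtain ⟨z, hz, rfl⟩ := hbij.surjOn ⟨hZ, hxZ⟩
      obtain ⟨z', hz', rfl⟩ := hbij.surjOn ⟨hZ', hxZ'⟩
      have : z = z' := h hz hz'
      rw [this]
  constructor
  · intro h x
    rw [← key]
    intro Z hZ Z' hZ' hxZ hxZ'
    by_contra hne
    exact Set.disjoint_left.mp (h hZ hZ' hne) hxZ hxZ'
  · intro h Z hZ Z' hZ' hne
    rw [Function.onFun, id, id, Set.disjoint_left]
    intro x hxZ hxZ'
    exact hne ((key x).mpr (h x) Z hZ Z' hZ' hxZ hxZ')

end Groth.Agent.H17
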