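import Mathlib

set_option autoImplicit false
set_option linter.style.haveILetI false
universe u

namespace Groth.Agent.H17.SurjDim

open IsLocalRing Pointwise

/-- `dim (R ⧸ xR) + 1 ≤ dim R` if `x` lies in no minimal prime. -/
theorem ringKrullDim_quotSMulTop_succ_le (R : Type u) [CommRing R] (x : R)
    (hn : ∀ p ∈ minimalPrimes R, x ∉ p) :
    ringKrullDim (R ⧸ x • (⊤ : Ideal R)) + 1 ≤ ringKrullDim R := by
  rw [← Module.supportDim_quotient_eq_ringKrullDim, ← Module.supportDim_self_eq_ringKrullDim (R := R)]
  refine Module.supportDim_quotSMulTop_succ_le_of_notMem_minimalPrimes (M := R) ?_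
  intro p hp
  apply hn p
  have : Module.annihilator R R = ⊥ := by
    rw [eq_bot_iff]
    intro r hr
    have := Module.mem_annihilator.mp hr 1
    simpa using this
  rw [this] at hp
  exact hp

theorem subsingleton_primeSpectrum_of_ringKrullDim_le_zero (B : Type u) [CommRing B]
    [IsLocalRing B] (h : ringKrullDim B ≤ 0) : Subsingleton (PrimeSpectrum B) := by
  have h1 : ∀ q : PrimeSpectrum B, q = closedPoint B := by
    intro q
    have hmax : IsMax q := (Order.krullDim_nonpos_iff_forall_isMax.mp h) q
    have hle : q ≤ closedPoint B := le_maximalIdeal q.2.ne_top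
    exact le_antisymm hle (hmax hle)
  exact ⟨fun a b => (h1 a).trans (h1 b).symm⟩

theorem ringKrullDim_le_zero_of_subsingleton (A : Type u) [CommRing A]
    [Subsingleton (PrimeSpectrum A)] : ringKrullDim A ≤ 0 :=
  Order.krullDim_nonpos_of_subsingleton

theorem le_of_add_one_le_add_one {x : WithBot ℕ∞} {m : ℕ}
    (h : x + 1 ≤ ((m + 1 : ℕ) : WithBot ℕ∞)) : x ≤ (m : WithBot ℕ∞) := by
  induction x with
  | bot => exact bot_le
  | coe x =>
    induction x with
    | top =>
      exfalso
      have : ((⊤ : ℕ∞) : WithBot ℕ∞) + 1 = ((⊤ : ℕ∞) : WithBot ℕ∞) := by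
        rw [← WithBot.coe_one, ← WithBot.coe_add]; simp
      rw [this] at h
      have h' : (⊤ : ℕ∞) ≤ ((m + 1 : ℕ) : ℕ∞) := by exact_mod_cast h
      simp at h'
    | coe k =>
      have h' : k + 1 ≤ m + 1 := by exact_mod_cast h
      have : k ≤ m := by omega
      exact_mod_cast this

/-- **Key lemma**: for a homomorphism of Noetherian local rings which is surjective on spectra and
whose closed fibre is a single point, `dim A ≤ dim B`. -/
theorem ringKrullDim_le_of_comap_surjective : ∀ (m : ℕ) (A B : Type u) [CommRing A] [CommRing B]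
    [IsNoetherianRing A] [IsNoetherianRing B] [IsLocalRing A] [IsLocalRing B] (φ : A →+* B)
    (_ : Function.Surjective (PrimeSpectrum.comap φ))
    (_ : ∀ q : PrimeSpectrum B, PrimeSpectrum.comap φ q = closedPoint A → q = closedPoint B)
    (_ : ringKrullDim B ≤ m), ringKrullDim A ≤ ringKrullDim B := by
  intro m
  induction m with
  | zero =>
    intro A B _ _ _ _ _ _ φ hs _ hm
    have := subsingleton_primeSpectrum_of_ringKrullDim_le_zero B (by exact_mod_cast hm)
    have : Subsingleton (PrimeSpectrum A) := hs.subsingleton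
    exact (ringKrullDim_le_zero_of_subsingleton A).trans ringKrullDim_nonneg_of_nontrivial
  | succ m ih =>
    intro A B _ _ _ _ _ _ φ hs hfib hm
    by_cases hA0 : ringKrullDim A ≤ 0
    · exact hA0.trans ringKrullDim_nonneg_of_nontrivial
    -- no minimal prime of `B` lies over the closed point
    have hmin : ∀ Q ∈ minimalPrimes B, ¬ (maximalIdeal A ≤ Q.comap φ) := by
      intro Q hQ hle
      haveI : Q.IsPrime := hQ.1.1
      have h1 : PrimeSpectrum.comap φ ⟨Q, inferInstance⟩ = closedPoint A := by
        apply PrimeSpectrum.ext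
        exact ((maximalIdeal.isMaximal A).eq_of_le (Ideal.IsPrime.ne_top inferInstance) hle).symm
      have h2 := hfib _ h1
      have hQm : Q = maximalIdeal B := congrArg PrimeSpectrum.asIdeal h2
      have : Subsingleton (PrimeSpectrum B) := by
        have h3 : ∀ q : PrimeSpectrum B, q = closedPoint B := by
          intro q
          have hle' : q.asIdeal ≤ maximalIdeal B := le_maximalIdeal q.2.ne_top
          have hle'' : q.asIdeal ≤ Q := by rw [hQm]; exact hle'
          have h4 : Q ≤ q.asIdeal := hQ.2 ⟨q.2, bot_le⟩ hle''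
          rw [hQm] at h4
          exact PrimeSpectrum.ext (le_antisymm hle' h4)
        exact ⟨fun a b => (h3 a).trans (h3 b).symm⟩
      have : Subsingleton (PrimeSpectrum A) := hs.subsingleton
      exact hA0 (ringKrullDim_le_zero_of_subsingleton A)
    -- prime avoidance
    obtain ⟨a, ha, hanot⟩ : ∃ a ∈ maximalIdeal A, ∀ Q ∈ minimalPrimes B, φ a ∉ Q := by
      by_contra hcon
      push Not at hcon
      have hfin := minimalPrimes.finite_of_isNoetherianRing B
      have hsub : ((maximalIdeal A : Ideal A) : Set A) ⊆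
          ⋃ Q ∈ (hfin.toFinset : Set (Ideal B)), ((Q.comap φ : Ideal A) : Set A) := by
        intro a ha
        obtain ⟨Q, hQ, haQ⟩ := hcon a ha
        simp only [Set.Finite.coe_toFinset, Set.mem_iUnion, SetLike.mem_coe, exists_prop]
        exact ⟨Q, hQ, haQ⟩
      rw [Ideal.subset_union_prime (f := fun Q : Ideal B => Q.comap φ) ⊥ ⊥ (by
        intro Q hQ _ _
        have hQ' : Q ∈ minimalPrimes B := by simpa using hQ
        haveI : Q.IsPrime := hQ'.1.1
        exact Ideal.comap_isPrime φ Q)] at hsub
      obtain ⟨Q, hQ, hle⟩ := hsub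
      exact hmin Q (by simpa using hQ) hle
    -- the quotients
    have haB : φ a ∈ maximalIdeal B := by
      obtain ⟨q, hq⟩ := hs (closedPoint A)
      have hq' := hfib q hq
      have : a ∈ (PrimeSpectrum.comap φ q).asIdeal := by rw [hq]; exact ha
      rw [hq'] at this
      exact this
    let IA : Ideal A := a • (⊤ : Ideal A)
    let IB : Ideal B := φ a • (⊤ : Ideal B)
    have hIA : IA ≤ maximalIdeal A := by
      intro x hx
      obtain ⟨t, -, rfl⟩ := (Submodule.mem_smul_pointwise_iff_exists _ _ _).mp hx
      exact Ideal.mul_mem_right _ _ ha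
    have hIB : IB ≤ maximalIdeal B := by
      intro x hx
      obtain ⟨t, -, rfl⟩ := (Submodule.mem_smul_pointwise_iff_exists _ _ _).mp hx
      exact Ideal.mul_mem_right _ _ haB
    have hIAB : IA ≤ IB.comap φ := by
      intro x hx
      obtain ⟨t, -, rfl⟩ := (Submodule.mem_smul_pointwise_iff_exists _ _ _).mp hx
      rw [Ideal.mem_comap, smul_eq_mul, map_mul]
      exact (Submodule.mem_smul_pointwise_iff_exists _ _ _).mpr ⟨φ t, trivial, rfl⟩
    haveI : Nontrivial (A ⧸ IA) :=
      Ideal.Quotient.nontrivial_iff.mpr (ne_top_of_le_ne_top (maximalIdeal.isMaximal A).ne_top hIA)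
    haveI : Nontrivial (B ⧸ IB) :=
      Ideal.Quotient.nontrivial_iff.mpr (ne_top_of_le_ne_top (maximalIdeal.isMaximal B).ne_top hIB)
    haveI : IsLocalRing (A ⧸ IA) :=
      IsLocalRing.of_surjective' (Ideal.Quotient.mk IA) Ideal.Quotient.mk_surjective
    haveI : IsLocalRing (B ⧸ IB) :=
      IsLocalRing.of_surjective' (Ideal.Quotient.mk IB) Ideal.Quotient.mk_surjective
    let φ' : A ⧸ IA →+* B ⧸ IB := Ideal.quotientMap IB φ hIAB
    have hcomm : φ'.comp (Ideal.Quotient.mk IA) = (Ideal.Quotient.mk IB).comp φ := by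
      ext x; simp [φ']
    have hclA : PrimeSpectrum.comap (Ideal.Quotient.mk IA) (closedPoint (A ⧸ IA)) = closedPoint A := by
      haveI : IsLocalHom (Ideal.Quotient.mk IA) :=
        IsLocalHom.of_surjective _ Ideal.Quotient.mk_surjective
      exact comap_closedPoint _
    have hclB : PrimeSpectrum.comap (Ideal.Quotient.mk IB) (closedPoint (B ⧸ IB)) = closedPoint B := by
      haveI : IsLocalHom (Ideal.Quotient.mk IB) :=
        IsLocalHom.of_surjective _ Ideal.Quotient.mk_surjective
      exact comap_closedPoint _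
    have hinjA : Function.Injective (PrimeSpectrum.comap (Ideal.Quotient.mk IA)) :=
      PrimeSpectrum.comap_injective_of_surjective _ Ideal.Quotient.mk_surjective
    have hinjB : Function.Injective (PrimeSpectrum.comap (Ideal.Quotient.mk IB)) :=
      PrimeSpectrum.comap_injective_of_surjective _ Ideal.Quotient.mk_surjective
    have hcc : ∀ q' : PrimeSpectrum (B ⧸ IB),
        PrimeSpectrum.comap (Ideal.Quotient.mk IA) (PrimeSpectrum.comap φ' q') =
          PrimeSpectrum.comap φ (PrimeSpectrum.comap (Ideal.Quotient.mk IB) q') := by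
      intro q'
      rw [← PrimeSpectrum.comap_comp_apply, ← PrimeSpectrum.comap_comp_apply, hcomm]
    have hs' : Function.Surjective (PrimeSpectrum.comap φ') := by
      intro p'
      obtain ⟨q, hq⟩ := hs (PrimeSpectrum.comap (Ideal.Quotient.mk IA) p')
      have hqmem : q ∈ Set.range (PrimeSpectrum.comap (Ideal.Quotient.mk IB)) := by
        rw [range_comap_of_surjective _ _ Ideal.Quotient.mk_surjective,
          Ideal.mk_ker, PrimeSpectrum.mem_zeroLocus]
        intro x hx
        obtain ⟨t, -, rfl⟩ := (Submodule.mem_smul_pointwise_iff_exists _ _ _).mp hx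
        have h1 : a ∈ (PrimeSpectrum.comap φ q).asIdeal := by
          rw [hq]
          change Ideal.Quotient.mk IA a ∈ p'.asIdeal
          have : Ideal.Quotient.mk IA a = 0 := by
            rw [Ideal.Quotient.eq_zero_iff_mem]
            exact (Submodule.mem_smul_pointwise_iff_exists _ _ _).mpr ⟨1, trivial, by simp⟩
          rw [this]; exact zero_mem _
        exact Ideal.mul_mem_right _ _ h1
      obtain ⟨q', rfl⟩ := hqmem
      refine ⟨q', hinjA ?_⟩
      rw [hcc, hq]
    have hfib' : ∀ q' : PrimeSpectrum (B ⧸ IB),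
        PrimeSpectrum.comap φ' q' = closedPoint (A ⧸ IA) → q' = closedPoint (B ⧸ IB) := by
      intro q' hq'
      apply hinjB
      rw [hclB]
      apply hfib
      rw [← hcc, hq', hclA]
    have hdimB : ringKrullDim (B ⧸ IB) + 1 ≤ ringKrullDim B :=
      ringKrullDim_quotSMulTop_succ_le B (φ a) hanot
    have hm' : ringKrullDim (B ⧸ IB) ≤ (m : WithBot ℕ∞) :=
      le_of_add_one_le_add_one (hdimB.trans hm)
    have key := ih (A ⧸ IA) (B ⧸ IB) φ' hs' hfib' hm'
    calc ringKrullDim A ≤ ringKrullDim (A ⧸ IA) + 1 :=
          ringKrullDim_le_ringKrullDim_quotSMulTop_succ ha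
      _ ≤ ringKrullDim (B ⧸ IB) + 1 := by gcongr
      _ ≤ ringKrullDim B := hdimB

/-- For a homomorphism of Noetherian local rings which is surjective on spectra and
whose closed fibre is a single point, `dim A ≤ dim B`. -/
theorem ringKrullDim_le_of_comap_surjective' (A B : Type u) [CommRing A] [CommRing B]
    [IsNoetherianRing A] [IsNoetherianRing B] [IsLocalRing A] [IsLocalRing B] (φ : A →+* B)
    (hs : Function.Surjective (PrimeSpectrum.comap φ))
    (hfib : ∀ q : PrimeSpectrum B, PrimeSpectrum.comap φ q = closedPoint A → q = closedPoint B) :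
    ringKrullDim A ≤ ringKrullDim B := by
  have h1 := ringKrullDim_ne_top (R := B)
  have h2 := ringKrullDim_ne_bot (R := B)
  obtain ⟨m, hm⟩ : ∃ m : ℕ, ringKrullDim B = m := by
    generalize ringKrullDim B = d at h1 h2
    induction d with
    | bot => exact absurd rfl h2
    | coe d =>
      induction d with
      | top => exact absurd rfl h1
      | coe m => exact ⟨m, rfl⟩
  exact ringKrullDim_le_of_comap_surjective m A B φ hs hfib hm.le

end Groth.Agent.H17.SurjDim
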