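import Mathlib.RingTheory.MvPolynomial.Symmetric.FundamentalTheorem
import Mathlib.RingTheory.MvPolynomial.Ideal
import Mathlib.RingTheory.MvPolynomial.Homogeneous
import Mathlib.Algebra.MvPolynomial.Monad

set_option autoImplicit false

namespace Groth.Agent.H17

open MvPolynomial

variable {m : ℕ}

/-- the weight of a monomial in the elementary symmetric coordinates -/
def ewt (a : Fin m →₀ ℕ) : ℕ := ∑ k : Fin m, (k.1 + 1) * a k

/-- the substitution of the elementary symmetric polynomials -/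
noncomputable def esub (m : ℕ) : MvPolynomial (Fin m) ℤ →ₐ[ℤ] MvPolynomial (Fin m) ℤ :=
  aeval (fun k : Fin m => esymm (Fin m) ℤ (k + 1))

theorem esymm_isHomogeneous' (n : ℕ) : (esymm (Fin m) ℤ n).IsHomogeneous n := by
  rw [esymm_eq_sum_monomial]
  apply IsHomogeneous.sum
  intro t ht
  apply isHomogeneous_monomial
  rw [Finset.mem_powersetCard] at ht
  rw [map_sum]
  simp [Finsupp.degree_single, ht.2]

theorem esub_monomial_isHomogeneous (a : Fin m →₀ ℕ) (c : ℤ) :
    (esub m (monomial a c)).IsHomogeneous (ewt a) := by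
  rw [esub, aeval_monomial, Finsupp.prod_fintype _ _ (fun i => pow_zero _)]
  have h1 : (algebraMap ℤ (MvPolynomial (Fin m) ℤ) c).IsHomogeneous 0 := isHomogeneous_C _ c
  have h2 : (∏ k : Fin m, esymm (Fin m) ℤ (k + 1) ^ a k).IsHomogeneous (ewt a) := by
    apply IsHomogeneous.prod
    intro k _
    exact (esymm_isHomogeneous' _).pow _
  have := h1.mul h2
  rwa [zero_add] at this

theorem esub_injective : Function.Injective (esub m) := by
  intro p q hpq
  apply esymmAlgHom_fin_injective ℤ (le_refl m)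
  apply Subtype.ext
  rw [esymmAlgHom_apply, esymmAlgHom_apply]
  exact hpq

theorem esub_surjective (S : MvPolynomial (Fin m) ℤ) (hS : S.IsSymmetric) :
    ∃ Q, esub m Q = S := by
  obtain ⟨Q, hQ⟩ := (esymmAlgHom_fin_bijective ℤ m).2 ⟨S, hS⟩
  refine ⟨Q, ?_⟩
  have := congrArg Subtype.val hQ
  rw [esymmAlgHom_apply] at this
  exact this

/-- **Fundamental theorem of symmetric polynomials with weight control.** -/
theorem exists_esub_eq_of_mem_pow (S : MvPolynomial (Fin m) ℤ) (hS : S.IsSymmetric) (i : ℕ)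
    (hSi : S ∈ idealOfVars (Fin m) ℤ ^ (i + 1)) :
    ∃ Q : MvPolynomial (Fin m) ℤ, esub m Q = S ∧ ∀ a ∈ Q.support, i + 1 ≤ ewt a := by
  classical
  obtain ⟨Q, hQ⟩ := esub_surjective S hS
  refine ⟨Q, hQ, ?_⟩
  set low := ∑ a ∈ Q.support.filter (fun a => ewt a ≤ i), monomial a (coeff a Q) with hlow
  set high := ∑ a ∈ Q.support.filter (fun a => ¬ ewt a ≤ i), monomial a (coeff a Q) with hhigh
  have hsum : Q = low + high := by
    rw [hlow, hhigh, Finset.sum_filter_add_sum_filter_not]
    exact (Q.support_sum_monomial_coeff).symm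
  have hhigh_mem : esub m high ∈ idealOfVars (Fin m) ℤ ^ (i + 1) := by
    rw [hhigh, map_sum]
    apply Ideal.sum_mem
    intro a ha
    rw [Finset.mem_filter] at ha
    rw [mem_pow_idealOfVars_iff']
    intro x hx
    apply (esub_monomial_isHomogeneous a (coeff a Q)).coeff_eq_zero
    omega
  have hlow_mem : esub m low ∈ idealOfVars (Fin m) ℤ ^ (i + 1) := by
    have : esub m low = S - esub m high := by
      rw [← hQ, hsum, map_add]; ring
    rw [this]
    exact Ideal.sub_mem _ hSi hhigh_mem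
  have hlow0 : esub m low = 0 := by
    ext x
    rw [coeff_zero]
    by_cases hx : Finsupp.degree x < i + 1
    · exact (mem_pow_idealOfVars_iff' _ _).mp hlow_mem x hx
    · rw [hlow, map_sum, coeff_sum]
      apply Finset.sum_eq_zero
      intro a ha
      rw [Finset.mem_filter] at ha
      apply (esub_monomial_isHomogeneous a (coeff a Q)).coeff_eq_zero
      omega
  have hlow_zero : low = 0 := esub_injective (by rw [hlow0, map_zero])
  intro a ha
  by_contra hlt
  have hle : ewt a ≤ i := by omega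
  have h1 : coeff a low = coeff a Q := by
    rw [hlow, coeff_sum]
    rw [Finset.sum_eq_single a]
    · simp
    · intro b _ hb
      rw [coeff_monomial, if_neg hb]
    · intro h
      exact absurd (Finset.mem_filter.mpr ⟨ha, hle⟩) h
  rw [hlow_zero, coeff_zero] at h1
  exact (mem_support_iff.mp ha) h1.symm

/-! ### the Adams polynomial -/

theorem one_add_pow_eq {R : Type*} [CommRing R] (x : R) (j : ℕ) :
    ∃ r : R, (1 + x) ^ j = 1 + j * x + x ^ 2 * r := by
  induction j with
  | zero => exact ⟨0, by simp⟩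
  | succ j ih =>
    obtain ⟨r, hr⟩ := ih
    refine ⟨j + r + r * x, ?_⟩
    rw [pow_succ, hr]
    push_cast
    ring

theorem prod_sub_prod_mem_pow {R : Type*} [CommRing R] (I : Ideal R) {ι : Type*} (a b : ι → R)
    (t : Finset ι) (ha : ∀ k ∈ t, a k ∈ I) (hb : ∀ k ∈ t, b k ∈ I)
    (hab : ∀ k ∈ t, a k - b k ∈ I ^ 2) :
    ∏ k ∈ t, a k - ∏ k ∈ t, b k ∈ I ^ (t.card + 1) := by
  classical
  induction t using Finset.induction_on with
  | empty => simp
  | insert k t hk ih =>
    rw [Finset.prod_insert hk, Finset.prod_insert hk, Finset.card_insert_of_notMem hk]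
    have h1 := ih (fun k' hk' => ha k' (Finset.mem_insert_of_mem hk'))
      (fun k' hk' => hb k' (Finset.mem_insert_of_mem hk'))
      (fun k' hk' => hab k' (Finset.mem_insert_of_mem hk'))
    have h2 : ∏ k' ∈ t, b k' ∈ I ^ t.card := by
      rw [← Finset.prod_const]
      exact Ideal.prod_mem_prod (fun k' hk' => hb k' (Finset.mem_insert_of_mem hk'))
    have heq : a k * ∏ k' ∈ t, a k' - b k * ∏ k' ∈ t, b k' =
        a k * (∏ k' ∈ t, a k' - ∏ k' ∈ t, b k') + (a k - b k) * ∏ k' ∈ t, b k' := by ring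
    rw [heq]
    apply Ideal.add_mem
    · have := Ideal.mul_mem_mul (ha k (Finset.mem_insert_self k t)) h1
      rwa [← pow_succ'] at this
    · have := Ideal.mul_mem_mul (hab k (Finset.mem_insert_self k t)) h2
      rw [← pow_add] at this
      convert this using 2
      omega

/-- the substitution `X ↦ (1 + X)^j - 1` -/
noncomputable def adamsSub (m j : ℕ) (k : Fin m) : MvPolynomial (Fin m) ℤ := (1 + X k) ^ j - 1

/-- the polynomial `e_i((1+X)^j - 1) - j^i e_i(X)` -/
noncomputable def adamsPoly (m j i : ℕ) : MvPolynomial (Fin m) ℤ :=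
  bind₁ (adamsSub m j) (esymm (Fin m) ℤ i) - C ((j : ℤ) ^ i) * esymm (Fin m) ℤ i

theorem adamsPoly_isSymmetric (m j i : ℕ) : (adamsPoly m j i).IsSymmetric := by
  intro σ
  rw [adamsPoly, map_sub, map_mul, rename_C, esymm_isSymmetric (Fin m) ℤ i σ, rename_bind₁]
  congr 1
  have : (fun k => rename σ (adamsSub m j k)) = (adamsSub m j) ∘ σ := by
    funext k
    simp [adamsSub]
  rw [this, ← bind₁_rename, esymm_isSymmetric (Fin m) ℤ i σ]

theorem adamsPoly_mem (m j i : ℕ) : adamsPoly m j i ∈ idealOfVars (Fin m) ℤ ^ (i + 1) := by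
  classical
  have hX : ∀ k : Fin m, (X k : MvPolynomial (Fin m) ℤ) ∈ idealOfVars (Fin m) ℤ :=
    fun k => Ideal.subset_span ⟨k, rfl⟩
  have hsub : ∀ k : Fin m, ∃ r, adamsSub m j k = C (j : ℤ) * X k + X k ^ 2 * r := by
    intro k
    obtain ⟨r, hr⟩ := one_add_pow_eq (X k : MvPolynomial (Fin m) ℤ) j
    refine ⟨r, ?_⟩
    rw [adamsSub, hr]
    simp only [map_natCast]
    ring
  rw [adamsPoly, esymm, map_sum, Finset.mul_sum, ← Finset.sum_sub_distrib]
  apply Ideal.sum_mem
  intro t ht
  rw [Finset.mem_powersetCard] at ht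
  rw [map_prod]
  have h1 : C ((j : ℤ) ^ i) * ∏ k ∈ t, (X k : MvPolynomial (Fin m) ℤ) =
      ∏ k ∈ t, (C (j : ℤ) * X k) := by
    rw [Finset.prod_mul_distrib, Finset.prod_const, ht.2, map_pow]
  rw [h1]
  have h2 := prod_sub_prod_mem_pow (idealOfVars (Fin m) ℤ)
    (fun k => bind₁ (adamsSub m j) (X k)) (fun k => C (j : ℤ) * X k) t
    (fun k _ => by
      obtain ⟨r, hr⟩ := hsub k
      rw [bind₁_X_right, hr]
      exact Ideal.add_mem _ (Ideal.mul_mem_left _ _ (hX k))
        (Ideal.mul_mem_right _ _ (Ideal.pow_mem_of_mem _ (hX k) 2 (by norm_num))))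
    (fun k _ => Ideal.mul_mem_left _ _ (hX k))
    (fun k _ => by
      obtain ⟨r, hr⟩ := hsub k
      rw [bind₁_X_right, hr, add_sub_cancel_left]
      exact Ideal.mul_mem_right _ _ (Ideal.pow_mem_pow (hX k) 2))
  rw [ht.2] at h2
  exact h2

end Groth.Agent.H17
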